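import Cfsg.Agent.Lib.Lead.AutPSU.SL2Fam
import Mathlib

/-!
# `SL₂(k)` is generated by the elementary matrices (lead)
-/

set_option autoImplicit false

namespace Cfsg.Agent.AutPSU

open scoped MatrixGroups

variable {k : Type*} [Field k]

/-- an element of `SL₂` with non-zero lower left entry is a product `upT * loT * upT` -/
theorem sl2_bruhat (g : Matrix.SpecialLinearGroup (Fin 2) k) (hc : g.1 1 0 ≠ 0) :
    g = upT ((g.1 0 0 - 1) / g.1 1 0) * loT (g.1 1 0) * upT ((g.1 1 1 - 1) / g.1 1 0) := by
  have hdet := g.2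
  rw [Matrix.det_fin_two] at hdet
  apply Subtype.ext
  simp only [Matrix.SpecialLinearGroup.coe_mul]
  ext i j
  fin_cases i <;> fin_cases j
  · simp [upT, loT]
    field_simp
    ring
  · simp [upT, loT]
    field_simp
    linear_combination (-1 : k) * hdet
  · simp [upT, loT]
  · simp [upT, loT]
    field_simp
    ring

/-- a subgroup of `SL₂(k)` containing the elementary matrices is everything -/
theorem sl2_eq_top (H : Subgroup (Matrix.SpecialLinearGroup (Fin 2) k))
    (hu : ∀ t, upT t ∈ H) (hl : ∀ t, loT t ∈ H) : H = ⊤ := by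
  have key : ∀ g : Matrix.SpecialLinearGroup (Fin 2) k, g.1 1 0 ≠ 0 → g ∈ H := by
    intro g hc
    rw [sl2_bruhat g hc]
    exact H.mul_mem (H.mul_mem (hu _) (hl _)) (hu _)
  rw [eq_top_iff]
  intro g _
  by_cases hc : g.1 1 0 = 0
  · have hdet := g.2
    rw [Matrix.det_fin_two, hc, mul_zero, sub_zero] at hdet
    have ha : g.1 0 0 ≠ 0 := left_ne_zero_of_mul_eq_one hdet
    have h1 : loT 1 * g ∈ H := by
      apply key
      show ((loT 1 * g : Matrix.SpecialLinearGroup (Fin 2) k) : Matrix (Fin 2) (Fin 2) k) 1 0 ≠ 0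
      rw [Matrix.SpecialLinearGroup.coe_mul]
      simp [loT, Matrix.mul_apply, Fin.sum_univ_two, hc, ha]
    have := H.mul_mem (H.inv_mem (hl 1)) h1
    rwa [inv_mul_cancel_left] at this
  · exact key g hc

/-- two homomorphisms from `SL₂(k)` agreeing on the elementary matrices are equal -/
theorem sl2_hom_ext {M : Type*} [Group M] (f g : Matrix.SpecialLinearGroup (Fin 2) k →* M)
    (hu : ∀ t, f (upT t) = g (upT t)) (hl : ∀ t, f (loT t) = g (loT t)) : f = g := by
  have h := sl2_eq_top (f.eqLocus g) hu hl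
  ext x
  have : x ∈ f.eqLocus g := by rw [h]; trivial
  exact this

/-- the image of `SL₂(k)` lies in any subgroup containing the images of the elementary matrices -/
theorem sl2_map_mem {M : Type*} [Group M] (f : Matrix.SpecialLinearGroup (Fin 2) k →* M)
    (H : Subgroup M) (hu : ∀ t, f (upT t) ∈ H) (hl : ∀ t, f (loT t) ∈ H)
    (x : Matrix.SpecialLinearGroup (Fin 2) k) : f x ∈ H := by
  have h := sl2_eq_top (H.comap f) hu hl
  have : x ∈ H.comap f := by rw [h]; trivial
  exact this

end Cfsg.Agent.AutPSU
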