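import Cfsg.Agent.Lib.Lead.AutPSU.UOddNode
import Cfsg.Agent.Lib.Lead.F4Out.SuzShape
import Cfsg.Agent.Lib.Helper5.AutSU.Defs
import Mathlib

/-!
# `PSU_N`, `N = 2 κ + 3`: rigidity at the middle node (lead)

An automorphism of the central quotient that stabilises the image of the upper triangular subgroup, fixes
the positive root elements of the middle node and stabilises the negative ones, fixes the negative ones.
-/

set_option autoImplicit false

namespace Cfsg.Agent.AutPSU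

open Matrix Cfsg Cfsg.Agent.Lib.Helper5.GLBN Cfsg.Agent.Lib.Helper8.SpBN
  Cfsg.Agent.Lib.Helper8.Tw Cfsg.Agent.Lib.Helper8.AutSp Cfsg.Agent.PSUT
open scoped MatrixGroups

variable {N : ℕ} {F : Type*} [Field F]

theorem gl_eq_h5 {φ : F →+* F} (g : ↥(N1 N F φ)) : Cfsg.Agent.Lib.Helper5.AutSU.gl g = gl g := rfl

/-- an embedded upper triangular block, on increasing coordinates, is upper triangular -/
theorem embGL_upper {r : ℕ} (e : Fin r → Fin N) (he : Function.Injective e)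
    (hmono : ∀ i j, e j < e i → j < i) (M : GL (Fin r) F)
    (hM : ∀ i j, j < i → (M : Matrix (Fin r) (Fin r) F) i j = 0) (a b : Fin N) (hab : b < a) :
    ((embGL e he M : GL (Fin N) F) : Matrix (Fin N) (Fin N) F) a b = 0 := by
  rw [embGL_coe]
  by_cases ha : ∃ i, a = e i
  · obtain ⟨i, rfl⟩ := ha
    by_cases hb : ∃ j, b = e j
    · obtain ⟨j, rfl⟩ := hb
      rw [emb_apply_apply e he]
      exact hM i j (hmono i j hab)
    · push Not at hb
      rw [emb_apply_of_not_mem_right e he _ _ hb, Matrix.one_apply_ne (ne_of_gt hab)]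
  · push Not at ha
    rw [emb_apply_of_not_mem_left e he _ ha, Matrix.one_apply_ne (ne_of_gt hab)]

theorem eM_lt (κ : ℕ) (hN : N = 2 * κ + 3) (i j : Fin 3) (h : i < j) : eM κ hN i < eM κ hN j := by
  rw [Fin.lt_def, eM_val, eM_val]
  rw [Fin.lt_def] at h
  omega

namespace Ctx

variable {φ : F →+* F} {Q : Type*} [Group Q] (C : Ctx N F φ Q)

/-- two elements with the same image differ by a scalar -/
theorem f_eq_f {x y : ↥(N1 N F φ)} (h : C.f x = C.f y) : ∃ c : F, ∀ i j,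
    ((gl x : GL (Fin N) F) : Matrix (Fin N) (Fin N) F) i j
      = ((gl y : GL (Fin N) F) : Matrix (Fin N) (Fin N) F) i j * c := by
  have e1 : C.f (y⁻¹ * x) = 1 := by rw [map_mul, map_inv, h, inv_mul_cancel]
  obtain ⟨c, hc⟩ := C.f_eq_one e1
  refine ⟨c, fun i j => ?_⟩
  have : gl x = gl y * gl (y⁻¹ * x) := by rw [← gl_mul, mul_inv_cancel_left]
  rw [this, Units.val_mul, hc, Matrix.mul_diagonal]

variable (κ : ℕ) (hN : N = 2 * κ + 3)

theorem mX_mul (K : UFieldOK F φ) {a b a' b' : F} (h : UPair φ a b) (h' : UPair φ a' b') :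
    C.mX κ hN a b h * C.mX κ hN a' b' h'
      = C.mX κ hN (a + a') (b + b' - a * φ a') (UPair.mul K h h') := by
  apply gl_injective
  rw [gl_mul, gl_mX, gl_mX, gl_mX, midGL_mul]

theorem UPair.neg' (K : UFieldOK F φ) {a b : F} (h : UPair φ a b) :
    UPair φ (-a) (-b - a * φ a) := by
  unfold UPair at *
  simp only [map_sub, map_neg, map_mul, K.invol]
  linear_combination -h

theorem mX_inv (K : UFieldOK F φ) {a b : F} (h : UPair φ a b) :
    (C.mX κ hN a b h)⁻¹ = C.mX κ hN (-a) (-b - a * φ a) (UPair.neg' K h) := by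
  apply gl_injective
  rw [gl_inv, gl_mX, gl_mX, midGL_inv]

theorem mX_zero : C.mX κ hN 0 0 UPair.zero = 1 := by
  apply gl_injective
  rw [gl_mX, gl_one]
  unfold midGL
  rw [X3_zero, map_one]

theorem mY_zero : C.mY κ hN 0 0 UPair.zero = 1 := by
  apply gl_injective
  rw [gl_mY, gl_one]
  unfold midGLY
  rw [Y3_zero, map_one]

theorem UPair.phi (K : UFieldOK F φ) {a b : F} (h : UPair φ a b) : UPair φ (φ a) b := by
  unfold UPair at *
  rw [K.invol]
  linear_combination h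

theorem mn_conj_mX (K : UFieldOK F φ) {a b : F} (h : UPair φ a b) :
    C.mn κ hN * C.mX κ hN a b h * (C.mn κ hN)⁻¹ = C.mY κ hN (φ a) b (UPair.phi K h) := by
  apply gl_injective
  rw [gl_mul, gl_mul, gl_inv, gl_mn, gl_mX, gl_mY]
  unfold midGLn midGL midGLY
  rw [← map_inv, ← map_mul, ← map_mul, n3_inv, n3_conj_X3 φ K.invol]

theorem mn_inv : (C.mn κ hN)⁻¹ = C.mn κ hN := by
  apply gl_injective
  rw [gl_inv, gl_mn]
  unfold midGLn
  rw [← map_inv, n3_inv]

theorem mn_conj_mY (K : UFieldOK F φ) {a b : F} (h : UPair φ a b) :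
    (C.mn κ hN)⁻¹ * C.mY κ hN a b h * C.mn κ hN = C.mX κ hN (φ a) b (UPair.phi K h) := by
  apply gl_injective
  rw [gl_mul, gl_mul, gl_inv, gl_mn, gl_mX, gl_mY]
  unfold midGLn midGL midGLY
  rw [← map_inv, ← map_mul, ← map_mul, n3_inv, n3_conj_Y3 φ K.invol]

/-- the positive root subgroup of the middle node -/
noncomputable def mXS (K : UFieldOK F φ) : Subgroup ↥(N1 N F φ) where
  carrier := {g | ∃ a b, ∃ h : UPair φ a b, g = C.mX κ hN a b h}
  mul_mem' := by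
    rintro _ _ ⟨a, b, h, rfl⟩ ⟨a', b', h', rfl⟩
    exact ⟨_, _, _, C.mX_mul κ hN K h h'⟩
  one_mem' := ⟨0, 0, UPair.zero, (C.mX_zero κ hN).symm⟩
  inv_mem' := by
    rintro _ ⟨a, b, h, rfl⟩
    exact ⟨_, _, _, C.mX_inv κ hN K h⟩

theorem mem_mXS (K : UFieldOK F φ) {g : ↥(N1 N F φ)} :
    g ∈ C.mXS κ hN K ↔ ∃ a b, ∃ h : UPair φ a b, g = C.mX κ hN a b h := Iff.rfl

theorem mX_upper [Finite F] {a b : F} (h : UPair φ a b) :
    C.mX κ hN a b h ∈ Cfsg.Agent.Lib.Helper5.AutSU.BB N F φ := by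
  rw [Cfsg.Agent.Lib.Helper5.AutSU.mem_BB]
  intro x y hxy
  rw [gl_eq_h5, gl_mX]
  exact embGL_upper _ _ (fun i j hij => eM_mono κ hN hij) _ (X3_upper φ a b) x y hxy

theorem mY_apply {a b : F} (h : UPair φ a b) (i j : Fin 3) :
    ((gl (C.mY κ hN a b h) : GL (Fin N) F) : Matrix (Fin N) (Fin N) F) (eM κ hN i) (eM κ hN j)
      = ((Y3 φ a b : GL (Fin 3) F) : Matrix (Fin 3) (Fin 3) F) i j := by
  rw [gl_mY]
  unfold midGLY
  rw [embGL_coe, emb_apply_apply _ (eM_inj κ hN)]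

/-- a lower root element of the middle node whose image lies in the image of the upper triangular
subgroup is trivial -/
theorem mY_of_mem_B [Finite F] {a b : F} (h : UPair φ a b) {g : ↥(N1 N F φ)}
    (hg : g ∈ Cfsg.Agent.Lib.Helper5.AutSU.BB N F φ) (e : C.f (C.mY κ hN a b h) = C.f g) :
    a = 0 ∧ b = 0 := by
  obtain ⟨c, hc⟩ := C.f_eq_f e
  rw [Cfsg.Agent.Lib.Helper5.AutSU.mem_BB] at hg
  have h10 := hc (eM κ hN 1) (eM κ hN 0)
  have h20 := hc (eM κ hN 2) (eM κ hN 0)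
  rw [mY_apply, Y3_apply_10, ← gl_eq_h5, hg _ _ (eM_lt κ hN 0 1 (by decide)), zero_mul] at h10
  rw [mY_apply, Y3_apply_20, ← gl_eq_h5, hg _ _ (eM_lt κ hN 0 2 (by decide)), zero_mul] at h20
  exact ⟨h10, h20⟩

theorem mid_rigid [Finite F] (K : UFieldOK F φ) (th : Q ≃* Q)
    (t1 : ∀ g ∈ Cfsg.Agent.Lib.Helper5.AutSU.BB N F φ,
      ∃ g' ∈ Cfsg.Agent.Lib.Helper5.AutSU.BB N F φ, th (C.f g) = C.f g')
    (t2 : ∀ a b (h : UPair φ a b), th (C.f (C.mX κ hN a b h)) = C.f (C.mX κ hN a b h))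
    (t3 : ∀ a b (h : UPair φ a b), ∃ a' b', ∃ h' : UPair φ a' b',
      th (C.f (C.mY κ hN a b h)) = C.f (C.mY κ hN a' b' h')) :
    ∀ a b (h : UPair φ a b), th (C.f (C.mY κ hN a b h)) = C.f (C.mY κ hN a b h) := by
  classical
  have : Finite Q := Finite.of_surjective C.f C.hf
  set B : Subgroup Q := (Cfsg.Agent.Lib.Helper5.AutSU.BB N F φ).map C.f with hB
  set X : Subgroup Q := (C.mXS κ hN K).map C.f with hX
  set n : Q := C.f (C.mn κ hN) with hn
  set Y : Subgroup Q := X.map (MulAut.conj n).toMonoidHom with hY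
  have memX : ∀ u, u ∈ X ↔ ∃ a b, ∃ h : UPair φ a b, u = C.f (C.mX κ hN a b h) := by
    intro u
    rw [hX, Subgroup.mem_map]
    constructor
    · rintro ⟨g, ⟨a, b, h, rfl⟩, rfl⟩
      exact ⟨a, b, h, rfl⟩
    · rintro ⟨a, b, h, rfl⟩
      exact ⟨_, ⟨a, b, h, rfl⟩, rfl⟩
  have memY : ∀ y, y ∈ Y ↔ ∃ a b, ∃ h : UPair φ a b, y = C.f (C.mY κ hN a b h) := by
    intro y
    rw [hY, Subgroup.mem_map]
    constructor
    · rintro ⟨u, hu, rfl⟩
      obtain ⟨a, b, h, rfl⟩ := (memX u).1 hu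
      refine ⟨φ a, b, UPair.phi K h, ?_⟩
      rw [MulEquiv.coe_toMonoidHom, MulAut.conj_apply, hn, ← map_inv, ← map_mul, ← map_mul,
        C.mn_conj_mX κ hN K h]
    · rintro ⟨a, b, h, rfl⟩
      refine ⟨C.f (C.mX κ hN (φ a) b (UPair.phi K h)), (memX _).2 ⟨_, _, _, rfl⟩, ?_⟩
      rw [MulEquiv.coe_toMonoidHom, MulAut.conj_apply, hn, ← map_inv, ← map_mul, ← map_mul,
        C.mn_conj_mX κ hN K (UPair.phi K h)]
      congr 2
      exact K.invol a
  have hcard : Nat.card Y = Nat.card X := by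
    rw [hY]
    exact Subgroup.card_map_of_injective (MulAut.conj n).injective
  have memB : ∀ g ∈ Cfsg.Agent.Lib.Helper5.AutSU.BB N F φ, C.f g ∈ B :=
    fun g hg => Subgroup.mem_map_of_mem _ hg
  -- `Y ∩ B = 1`
  have h6 : ∀ y ∈ Y, y ∈ B → y = 1 := by
    intro y hy hyB
    obtain ⟨a, b, h, rfl⟩ := (memY y).1 hy
    obtain ⟨g, hg, e⟩ := Subgroup.mem_map.1 hyB
    obtain ⟨rfl, rfl⟩ := C.mY_of_mem_B κ hN h hg e.symm
    rw [C.mY_zero, map_one]
  have h3 : ∀ y ∈ Y, n⁻¹ * y * n ∈ B := by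
    intro y hy
    obtain ⟨a, b, h, rfl⟩ := (memY y).1 hy
    rw [hn, ← map_inv, ← map_mul, ← map_mul, C.mn_conj_mY κ hN K h]
    exact memB _ (C.mX_upper κ hN _)
  have h5 : n ∉ B := by
    intro hnB
    obtain ⟨g, hg, e⟩ := Subgroup.mem_map.1 hnB
    obtain ⟨c, hc⟩ := C.f_eq_f e.symm
    rw [Cfsg.Agent.Lib.Helper5.AutSU.mem_BB] at hg
    have h20 := hc (eM κ hN 2) (eM κ hN 0)
    rw [← gl_eq_h5 g, hg _ _ (eM_lt κ hN 0 2 (by decide)), zero_mul, gl_mn] at h20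
    unfold midGLn at h20
    rw [embGL_coe, emb_apply_apply _ (eM_inj κ hN), n3_apply_20] at h20
    exact one_ne_zero h20
  have hninv : n⁻¹ = n := by rw [hn, ← map_inv, C.mn_inv]
  have h2 : ∀ u ∈ X, ∀ u' ∈ X, ∀ b ∈ B, u * n * b = u' * n → u = u' := by
    intro u hu u' hu' b hb e
    have hmem : u'⁻¹ * u ∈ X := X.mul_mem (X.inv_mem hu') hu
    obtain ⟨a, b', h, e'⟩ := (memX _).1 hmem
    have e2 : n⁻¹ * (u'⁻¹ * u) * n = b⁻¹ := by
      have : u = u' * n * b⁻¹ * n⁻¹ := by rw [← e]; group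
      rw [this]; group
    have h4 : n⁻¹ * (u'⁻¹ * u) * n = C.f (C.mY κ hN (φ a) b' (UPair.phi K h)) := by
      rw [e']
      have e5 : n⁻¹ * C.f (C.mX κ hN a b' h) * n = n * C.f (C.mX κ hN a b' h) * n⁻¹ := by
        rw [hninv]
      rw [e5, hn, ← map_inv, ← map_mul, ← map_mul, C.mn_conj_mX κ hN K h]
    have h7 := h6 _ ((memY _).2 ⟨_, _, _, h4⟩) (by rw [e2]; exact B.inv_mem hb)
    have h8 : u'⁻¹ * u = 1 := by
      have : u'⁻¹ * u = n * (n⁻¹ * (u'⁻¹ * u) * n) * n⁻¹ := by group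
      rw [this, h7]; group
    exact (inv_mul_eq_one.1 h8).symm
  have h1 : ∀ y ∈ Y, y ≠ 1 → ∃ u ∈ X, ∃ b ∈ B, y = u * n * b := by
    intro y hy hy1
    obtain ⟨a, b, h, rfl⟩ := (memY y).1 hy
    have hb : b ≠ 0 := by
      rintro rfl
      have ha : a = 0 := by
        unfold UPair at h
        rw [map_zero, add_zero, zero_add] at h
        rcases mul_eq_zero.1 h with h' | h'
        · exact h'
        · exact (map_eq_zero φ).1 h'
      subst ha
      exact hy1 (by rw [C.mY_zero, map_one])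
    have hp := bruhat3_pair φ K.invol h hb
    set g : ↥(N1 N F φ) := C.mn κ hN * C.mX κ hN _ _ hp * C.mY κ hN a b h with hg
    have hgB : g ∈ Cfsg.Agent.Lib.Helper5.AutSU.BB N F φ := by
      rw [Cfsg.Agent.Lib.Helper5.AutSU.mem_BB]
      intro x y hxy
      rw [gl_eq_h5, hg, gl_mul, gl_mul, gl_mn, gl_mX, gl_mY]
      unfold midGLn midGL midGLY
      rw [← map_mul, ← map_mul]
      exact embGL_upper _ _ (fun i j hij => eM_mono κ hN hij) _
        (bruhat3 φ K.invol h hb) x y hxy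
    refine ⟨(C.f (C.mX κ hN _ _ hp))⁻¹, X.inv_mem ((memX _).2 ⟨_, _, _, rfl⟩), C.f g,
      memB g hgB, ?_⟩
    rw [hn, ← map_inv, ← map_mul, ← map_mul]
    congr 1
    have e3 : C.mn κ hN * C.mn κ hN = 1 := by
      nth_rewrite 1 [← C.mn_inv κ hN]
      exact inv_mul_cancel _
    rw [hg]
    calc C.mY κ hN a b h = (C.mX κ hN _ _ hp)⁻¹ * 1 * C.mX κ hN _ _ hp * C.mY κ hN a b h := by
          group
      _ = _ := by rw [← e3]; group
  have key := Cfsg.Agent.F4Out.coset_rigidity B X Y hcard n h1 h2 h3 h5 h6 th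
    (by
      intro b hb
      obtain ⟨g, hg, rfl⟩ := Subgroup.mem_map.1 hb
      obtain ⟨g', hg', e⟩ := t1 g hg
      rw [e]
      exact memB g' hg')
    (by
      intro u hu
      obtain ⟨a, b, h, rfl⟩ := (memX u).1 hu
      exact t2 a b h)
    (by
      intro y hy
      obtain ⟨a, b, h, rfl⟩ := (memY y).1 hy
      obtain ⟨a', b', h', e⟩ := t3 a b h
      rw [e]
      exact (memY _).2 ⟨a', b', h', rfl⟩)
  intro a b h
  exact key _ ((memY _).2 ⟨a, b, h, rfl⟩)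

end Ctx

end Cfsg.Agent.AutPSU
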