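import Cfsg.Agent.Lib.Lead.AutPSU.UOddNode
import Mathlib

/-!
# `PSU_N`, `N = 2 j + 5`: an automorphism preserving the fundamental root groups agrees on the positive
ones (and the negative ones of the short nodes) with a standard automorphism (lead)
-/

set_option autoImplicit false

namespace Cfsg.Agent.AutPSU

open Matrix Cfsg Cfsg.Agent.Lib.Helper5.GLBN Cfsg.Agent.Lib.Helper8.SpBN
  Cfsg.Agent.Lib.Helper8.Tw Cfsg.Agent.Lib.Helper8.AutSp Cfsg.Agent.PSUT
  Cfsg.Agent.TwRankOne Cfsg.Agent.TwRankOne.Shape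
open scoped MatrixGroups

variable {N : ℕ} {F : Type*} [Field F]

theorem dgT_mul (a b : F) (ha : a ≠ 0) (hb : b ≠ 0) :
    dgT a ha * dgT b hb = dgT (a * b) (mul_ne_zero ha hb) := by
  apply Subtype.ext
  simp only [Matrix.SpecialLinearGroup.coe_mul]
  simp [dgT, Matrix.mul_fin_two, mul_comm]

theorem dgT_inv (a : F) (ha : a ≠ 0) : (dgT a ha)⁻¹ = dgT a⁻¹ (inv_ne_zero ha) := by
  rw [inv_eq_iff_mul_eq_one, dgT_mul]
  apply Subtype.ext
  simp [dgT, Matrix.one_fin_two, ha]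

/-- conjugating the upper root elements of the middle node -/
theorem conj_map_mid {φ : F →+* F} (ψ : F ≃+* F) (hψ : ∀ x, ψ (φ x) = φ (ψ x))
    (d : Fin N → Fˣ) (hd : ∀ i, (d i : F) * φ (d i.rev) = 1) (κ : ℕ) (hN : N = 2 * κ + 3)
    (a b : F) :
    dgU d * Matrix.GeneralLinearGroup.map (ψ : F →+* F) (midGL φ κ hN a b) * (dgU d)⁻¹
      = midGL φ κ hN ((d (eM κ hN 0) : F) * (d (eM κ hN 1) : F)⁻¹ * ψ a)
          ((d (eM κ hN 0) : F) * φ (d (eM κ hN 0)) * ψ b) := by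
  unfold midGL
  have e1 : (eM κ hN 1).rev = eM κ hN 1 := by
    have := congrFun (revE_eM κ hN) 1
    rw [revE_apply] at this
    exact this
  have e2 : (eM κ hN 2).rev = eM κ hN 0 := by
    have := congrFun (revE_eM κ hN) 0
    rw [revE_apply] at this
    exact this
  rw [glMap_embGL, map_X3 φ ψ hψ, dgU_conj_embGL, dgU_conj_X3]
  · have := hd (eM κ hN 1)
    rw [e1] at this
    exact this
  · have := hd (eM κ hN 2)
    rw [e2] at this
    exact this

namespace Ctx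

variable {φ : F →+* F} {Q : Type*} [Group Q] (C : Ctx N F φ Q)

theorem RS_h_mul (j : ℕ) (hj : 2 * j + 4 ≤ N) (a b : F) (ha : a ≠ 0) (hb : b ≠ 0) :
    (C.RS j hj).h (a * b) = (C.RS j hj).h a * (C.RS j hj).h b := by
  rw [RS_h _ _ _ _ ha, RS_h _ _ _ _ hb, RS_h _ _ _ _ (mul_ne_zero ha hb), ← map_mul, ← map_mul,
    dgT_mul]

theorem RS_h_inv (j : ℕ) (hj : 2 * j + 4 ≤ N) (a : F) (ha : a ≠ 0) :
    ((C.RS j hj).h a)⁻¹ = (C.RS j hj).h a⁻¹ := by
  rw [RS_h _ _ _ _ ha, RS_h _ _ _ _ (inv_ne_zero ha), ← map_inv, ← map_inv, dgT_inv]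

/-- the last short node acts on the middle node -/
theorem link_mid (j : ℕ) (hN : N = 2 * (j + 1) + 3) (a : F) (ha : a ≠ 0) {x y : F}
    (h : UPair φ x y) (h' : UPair φ (a⁻¹ * x) (a⁻¹ * φ a⁻¹ * y)) :
    (C.RS j (by omega)).h a * C.XU (j + 1) hN x y * ((C.RS j (by omega)).h a)⁻¹
      = C.XU (j + 1) hN (a⁻¹ * x) (a⁻¹ * φ a⁻¹ * y) := by
  rw [RS_h _ _ _ _ ha, XU_eq _ _ _ h, XU_eq _ _ _ h', ← map_inv, ← map_mul, ← map_mul]
  congr 1
  apply gl_injective
  rw [gl_mul, gl_mul, gl_inv, gl_sN, gl_mX, gl_mX, shortGL_dgT]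
  unfold midGL
  have hφa : φ a ≠ 0 := (map_ne_zero φ).2 ha
  have e0 : eM (j + 1) hN 0 = ix N (j + 1) (by omega) := rfl
  have e1 : eM (j + 1) hN 1 = ix N (j + 1 + 1) (by omega) := rfl
  have e2 : eM (j + 1) hN 2 = (ix N (j + 1) (by omega)).rev := by
    rw [ix_rev]
    apply Fin.ext
    show j + 1 + 2 = N - 1 - (j + 1)
    omega
  have d0 : (shortD φ (quad j (by omega)) a ha (eM (j + 1) hN 0) : F) = a⁻¹ := by
    rw [e0]
    exact shortD_i₁ φ _ a ha
  have d1 : shortD φ (quad j (by omega)) a ha (eM (j + 1) hN 1) = 1 := by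
    rw [e1]
    exact shortD_other φ _ a ha _ (ix_ne _ _ (by omega)) (ix_ne _ _ (by omega))
      (ix_ne_rev _ _ (by omega)) (ix_ne_rev _ _ (by omega))
  have d2 : (shortD φ (quad j (by omega)) a ha (eM (j + 1) hN 2) : F) = φ a := by
    rw [e2]
    exact shortD_i₁_rev φ _ a ha
  rw [dgU_conj_embGL, dgU_conj_X3]
  · congr 2
    · rw [d0, d1]
      simp
    · rw [d0]
  · rw [d1]
    simp
  · rw [d2, d0, ← map_mul, mul_inv_cancel₀ ha, map_one]

theorem odd_main [Finite F] (K : UFieldOK F φ) (j : ℕ) (hN : N = 2 * (j + 1) + 3)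
    (th : Q ≃* Q)
    (hX : ∀ i (hi : 2 * i + 4 ≤ N) u, ∃ v,
      th (C.f (C.sN i hi (upT u))) = C.f (C.sN i hi (upT v)))
    (hY : ∀ i (hi : 2 * i + 4 ≤ N) u, ∃ v,
      th (C.f (C.sN i hi (loT u))) = C.f (C.sN i hi (loT v)))
    (hXU : ∀ a b (h : UPair φ a b), ∃ a' b', ∃ h' : UPair φ a' b',
      th (C.f (C.mX (j + 1) hN a b h)) = C.f (C.mX (j + 1) hN a' b' h')) :
    ∃ (ψ : F ≃+* F) (d : Fin N → Fˣ) (hd : ∀ i, (d i : F) * φ (d i.rev) = 1),
      (∀ i (hi : 2 * i + 4 ≤ N) t, th (C.f (C.sN i hi (upT t)))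
        = C.f (Phi ψ (K.comm ψ) d hd (C.sN i hi (upT t)))) ∧
      (∀ i (hi : 2 * i + 4 ≤ N) t, th (C.f (C.sN i hi (loT t)))
        = C.f (Phi ψ (K.comm ψ) d hd (C.sN i hi (loT t)))) ∧
      (∀ a b (h : UPair φ a b), th (C.f (C.mX (j + 1) hN a b h))
        = C.f (Phi ψ (K.comm ψ) d hd (C.mX (j + 1) hN a b h))) := by
  classical
  -- the chain of short nodes
  let R : Fin (j + 1) → RFam F Q := fun i => C.RS i.1 (by have := i.2; omega)
  obtain ⟨ψ, c, hc⟩ := chain_shape R th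
    (fun i h a ha => C.link_short i.1 (by omega) a ha)
    (fun i u => hX i.1 (by have := i.2; omega) u)
    (fun i u => hY i.1 (by have := i.2; omega) u) (Nat.succ_pos j)
  obtain ⟨hcj, hcX, hcY, hctor⟩ := hc ⟨j, Nat.lt_succ_self j⟩
  -- the middle node
  have hpres : ∀ a b, UPair φ a b → ∃ a' b', UPair φ a' b' ∧
      th ((C.UF (j + 1) hN K).X a b) = (C.UF (j + 1) hN K).X a' b' := by
    intro a b h
    obtain ⟨a', b', h', e⟩ := hXU a b h
    refine ⟨a', b', h', ?_⟩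
    rw [UF_X, UF_X, XU_eq _ _ _ h, XU_eq _ _ _ h']
    exact e
  have hjN : 2 * j + 4 ≤ N := by omega
  have hact : ∀ μ ∈ {μ : F | μ ≠ 0}, ∀ a b, UPair φ a b →
      (C.RS j hjN).h μ⁻¹ * (C.UF (j + 1) hN K).X a b * ((C.RS j hjN).h μ⁻¹)⁻¹
        = (C.UF (j + 1) hN K).X (μ * a) (μ * φ μ * b) := by
    intro μ hμ a b h
    have hμ' : μ ≠ 0 := hμ
    have := C.link_mid j hN μ⁻¹ (inv_ne_zero hμ') h (by
      rw [inv_inv]
      exact UPair.smul K h μ)
    rw [inv_inv] at this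
    exact this
  obtain ⟨ψU, cU, hcU, hψU, hshape⟩ := (C.UF (j + 1) hN K).shape K th hpres {μ : F | μ ≠ 0}
    (by
      rw [eq_top_iff]
      intro x _
      by_cases hx : x = 0
      · rw [hx]; exact zero_mem _
      · exact AddSubgroup.subset_closure hx)
    (fun μ => (C.RS j hjN).h μ⁻¹) (fun μ => ψ μ) hact
    (by
      intro μ hμ a b h
      have hμ' : μ ≠ 0 := hμ
      have hψμ : ψ μ ≠ 0 := (map_ne_zero ψ).2 hμ'
      have e : th ((C.RS j hjN).h μ⁻¹) = (C.RS j hjN).h (ψ μ)⁻¹ := by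
        have := hctor μ⁻¹ (inv_ne_zero hμ')
        rw [this, C.RS_h_inv j hjN _ hcj, ← C.RS_h_mul j hjN _ _
          (mul_ne_zero hcj ((map_ne_zero ψ).2 (inv_ne_zero hμ'))) (inv_ne_zero hcj)]
        congr 1
        rw [map_inv₀]
        field_simp
      rw [e]
      exact hact (ψ μ) hψμ a b h)
  have hψeq : ψU = ψ := by
    apply RingEquiv.ext
    intro x
    by_cases hx : x = 0
    · rw [hx, map_zero, map_zero]
    · exact hψU x hx
  subst hψeq
  -- the torus correction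
  let c' : ℕ → F := fun i => if h : i < j + 1 then c ⟨i, h⟩ else 1
  have hc' : ∀ i (h : i < j + 1), c' i = c ⟨i, h⟩ := fun i h => dif_pos h
  obtain ⟨Dd, hDl, hDs, hD0⟩ := exists_prefix c' cU (j + 2)
  have hDne : ∀ i, i < j + 2 → Dd i ≠ 0 := by
    apply hD0 _ hcU
    intro i hi
    rw [hc' i (by omega)]
    exact (hc ⟨i, by omega⟩).1
  obtain ⟨d, hd, hdD, hdm⟩ := exists_diag C.hφ (j + 2) (by omega) Dd hDne
  have hDl' : Dd (j + 1) = cU := hDl
  refine ⟨ψU, d, hd, ?_, ?_, ?_⟩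
  · intro i hi t
    have hi' : i < j + 1 := by omega
    obtain ⟨-, hX', -, -⟩ := hc ⟨i, hi'⟩
    have := hX' t
    rw [RS_X, RS_X] at this
    rw [this]
    congr 1
    apply gl_injective
    rw [gl_Phi, gl_sN, gl_sN, conj_map_short_up ψU (K.comm ψU) d hd]
    congr 2
    rw [Units.val_inv_eq_inv_val, hdD i (by omega), hdD (i + 1) (by omega), hDs i (by omega),
      hc' i hi']
    have := hDne (i + 1) (by omega)
    field_simp
  · intro i hi t
    have hi' : i < j + 1 := by omega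
    obtain ⟨hci, -, hY', -⟩ := hc ⟨i, hi'⟩
    have := hY' t
    rw [RS_Y, RS_Y] at this
    rw [this]
    congr 1
    apply gl_injective
    rw [gl_Phi, gl_sN, gl_sN, conj_map_short_lo ψU (K.comm ψU) d hd]
    congr 2
    rw [Units.val_inv_eq_inv_val, hdD i (by omega), hdD (i + 1) (by omega), hDs i (by omega),
      hc' i hi']
    have := hDne (i + 1) (by omega)
    field_simp
  · intro a b h
    have h' : UPair φ (cU * ψU a) (cU * φ cU * ψU b) := by
      have h1 : UPair φ (ψU a) (ψU b) := by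
        unfold UPair at *
        rw [← K.comm ψU, ← K.comm ψU, ← map_mul, ← map_add, ← map_add, h, map_zero]
      exact UPair.smul K h1 cU
    have := hshape a b h
    rw [UF_X, UF_X, XU_eq _ _ _ h, XU_eq _ _ _ h'] at this
    rw [this]
    congr 1
    apply gl_injective
    rw [gl_Phi, gl_mX, gl_mX, conj_map_mid ψU (K.comm ψU) d hd]
    have d0 : (d (eM (j + 1) hN 0) : F) = cU := by
      have := hdD (j + 1) (by omega)
      rw [hDl'] at this
      exact this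
    have d1 : d (eM (j + 1) hN 1) = 1 := by
      apply hdm
      · show j + 2 ≤ j + 1 + 1
        omega
      · show j + 1 + 1 < N - (j + 2)
        omega
    rw [d0, d1]
    simp

end Ctx

end Cfsg.Agent.AutPSU
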