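import Cfsg.Agent.Lib.Lead.AutPSU.UOddMain
import Mathlib

/-!
# `PSU_3`: an automorphism preserving the positive root group and the image of the diagonal torus agrees
on the positive root group with a standard automorphism (lead)
-/

set_option autoImplicit false

namespace Cfsg.Agent.AutPSU

open Matrix Cfsg Cfsg.Agent.Lib.Helper5.GLBN Cfsg.Agent.Lib.Helper8.SpBN
  Cfsg.Agent.Lib.Helper8.Tw Cfsg.Agent.Lib.Helper8.AutSp Cfsg.Agent.PSUT
  Cfsg.Agent.TwRankOne Cfsg.Agent.TwRankOne.Shape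
open scoped MatrixGroups

variable {N : ℕ} {F : Type*} [Field F]

/-- the unitary diagonal matrices of determinant one -/
structure TorD (N : ℕ) (F : Type*) [Field F] (φ : F →+* F) where
  d : Fin N → Fˣ
  hd : ∀ i, (d i : F) * φ (d i.rev) = 1
  hdet : ((dgU d : GL (Fin N) F) : Matrix (Fin N) (Fin N) F).det = 1

/-- the torus element -/
def TorD.elt {φ : F →+* F} (T : TorD N F φ) : ↥(N1 N F φ) :=
  mkN1 (dgU T.d) (dgU_mem_UH T.hd) T.hdet

theorem TorD.gl_elt {φ : F →+* F} (T : TorD N F φ) : gl T.elt = dgU T.d := rfl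

/-- the torus element `diag(λ, φ λ / λ, (φ λ)⁻¹)` of `SU_3` -/
noncomputable def tor3 {φ : F →+* F} (hφ : ∀ x, φ (φ x) = x) (hN : N = 2 * 0 + 3) (l : F)
    (hl : l ≠ 0) : TorD N F φ where
  d := fun x => if x.1 = 0 then Units.mk0 l hl
    else if x.1 = 1 then Units.mk0 (φ l / l) (div_ne_zero ((map_ne_zero φ).2 hl) hl)
    else Units.mk0 (φ l)⁻¹ (inv_ne_zero ((map_ne_zero φ).2 hl))
  hd := by
    intro i
    have hφl : φ l ≠ 0 := (map_ne_zero φ).2 hl
    have hi := i.2
    have hr : (i.rev : ℕ) = N - (i.1 + 1) := Fin.val_rev i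
    by_cases h0 : i.1 = 0
    · rw [if_pos h0, if_neg (by omega), if_neg (by omega)]
      simp only [Units.val_mk0, map_inv₀, hφ]
      exact mul_inv_cancel₀ hl
    · by_cases h1 : i.1 = 1
      · rw [if_neg h0, if_pos h1, if_neg (by omega), if_pos (by omega)]
        simp only [Units.val_mk0, map_div₀, hφ]
        field_simp
      · rw [if_neg h0, if_neg h1, if_pos (by omega)]
        simp only [Units.val_mk0]
        exact inv_mul_cancel₀ hφl
  hdet := by
    subst hN
    rw [dgU_coe, Matrix.det_diagonal, Fin.prod_univ_three]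
    have hφl : φ l ≠ 0 := (map_ne_zero φ).2 hl
    simp
    field_simp

namespace Ctx

variable {φ : F →+* F} {Q : Type*} [Group Q] (C : Ctx N F φ Q)

/-- a torus element acts on the upper root elements of the middle node -/
theorem tor_conj_mX (κ : ℕ) (hN : N = 2 * κ + 3) (T : TorD N F φ) {x y : F} (h : UPair φ x y)
    (h' : UPair φ ((T.d (eM κ hN 0) : F) * (T.d (eM κ hN 1) : F)⁻¹ * x)
      ((T.d (eM κ hN 0) : F) * φ (T.d (eM κ hN 0)) * y)) :
    T.elt * C.mX κ hN x y h * T.elt⁻¹ = C.mX κ hN _ _ h' := by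
  apply gl_injective
  rw [gl_mul, gl_mul, gl_inv, T.gl_elt, gl_mX, gl_mX]
  unfold midGL
  have e1 : (eM κ hN 1).rev = eM κ hN 1 := by
    have := congrFun (revE_eM κ hN) 1
    rw [revE_apply] at this
    exact this
  have e2 : (eM κ hN 2).rev = eM κ hN 0 := by
    have := congrFun (revE_eM κ hN) 0
    rw [revE_apply] at this
    exact this
  rw [dgU_conj_embGL, dgU_conj_X3]
  · have := T.hd (eM κ hN 1)
    rw [e1] at this
    exact this
  · have := T.hd (eM κ hN 2)
    rw [e2] at this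
    exact this

theorem three_main [Finite F] (K : UFieldOK F φ) (hN : N = 2 * 0 + 3) (th : Q ≃* Q)
    (hXU : ∀ a b (h : UPair φ a b), ∃ a' b', ∃ h' : UPair φ a' b',
      th (C.f (C.mX 0 hN a b h)) = C.f (C.mX 0 hN a' b' h'))
    (hT : ∀ T : TorD N F φ, ∃ T' : TorD N F φ, th (C.f T.elt) = C.f T'.elt)
    (hspan : AddSubgroup.closure {μ : F | ∃ l : F, l ≠ 0 ∧ μ = l * l / φ l} = ⊤) :
    ∃ (ψ : F ≃+* F) (d : Fin N → Fˣ) (hd : ∀ i, (d i : F) * φ (d i.rev) = 1),
      ∀ a b (h : UPair φ a b), th (C.f (C.mX 0 hN a b h))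
        = C.f (Phi ψ (K.comm ψ) d hd (C.mX 0 hN a b h)) := by
  classical
  have hpres : ∀ a b, UPair φ a b → ∃ a' b', UPair φ a' b' ∧
      th ((C.UF 0 hN K).X a b) = (C.UF 0 hN K).X a' b' := by
    intro a b h
    obtain ⟨a', b', h', e⟩ := hXU a b h
    refine ⟨a', b', h', ?_⟩
    rw [UF_X, UF_X, XU_eq _ _ _ h, XU_eq _ _ _ h']
    exact e
  -- the scalar through which a torus element acts
  let mu : TorD N F φ → F := fun T => (T.d (eM 0 hN 0) : F) * (T.d (eM 0 hN 1) : F)⁻¹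
  have e1 : (eM 0 hN 1).rev = eM 0 hN 1 := by
    have := congrFun (revE_eM 0 hN) 1
    rw [revE_apply] at this
    exact this
  have hmu : ∀ T : TorD N F φ, mu T * φ (mu T) = (T.d (eM 0 hN 0) : F) * φ (T.d (eM 0 hN 0)) := by
    intro T
    have h1 := T.hd (eM 0 hN 1)
    rw [e1] at h1
    have h10 : (T.d (eM 0 hN 1) : F) ≠ 0 := Units.ne_zero _
    have h11 : φ (T.d (eM 0 hN 1) : F) ≠ 0 := (map_ne_zero φ).2 h10
    simp only [mu, map_mul, map_inv₀]
    rw [mul_mul_mul_comm, ← mul_inv, h1, inv_one, mul_one]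
  have hTact : ∀ (T : TorD N F φ) a b, UPair φ a b →
      C.f T.elt * (C.UF 0 hN K).X a b * (C.f T.elt)⁻¹
        = (C.UF 0 hN K).X (mu T * a) (mu T * φ (mu T) * b) := by
    intro T a b h
    have h' : UPair φ (mu T * a) (mu T * φ (mu T) * b) := UPair.smul K h (mu T)
    rw [UF_X, UF_X, XU_eq _ _ _ h, XU_eq _ _ _ h', ← map_inv, ← map_mul, ← map_mul]
    congr 1
    have h'' : UPair φ ((T.d (eM 0 hN 0) : F) * (T.d (eM 0 hN 1) : F)⁻¹ * a)
        ((T.d (eM 0 hN 0) : F) * φ (T.d (eM 0 hN 0)) * b) := by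
      rw [← hmu T]
      exact h'
    rw [C.tor_conj_mX 0 hN T h h'']
    apply gl_injective
    rw [gl_mX, gl_mX]
    congr 1
    rw [hmu T]
  -- the set of scalars and the chosen torus elements
  set M : Set F := {μ : F | ∃ T : TorD N F φ, mu T = μ} with hM
  have hMspan : AddSubgroup.closure M = ⊤ := by
    rw [eq_top_iff, ← hspan]
    apply AddSubgroup.closure_mono
    rintro μ ⟨l, hl, rfl⟩
    refine ⟨tor3 K.invol hN l hl, ?_⟩
    simp only [mu, tor3]
    have v0 : ((eM 0 hN 0 : Fin N) : ℕ) = 0 := by rw [eM_val]; rfl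
    have v1 : ((eM 0 hN 1 : Fin N) : ℕ) = 1 := by rw [eM_val]; rfl
    rw [if_pos v0, if_neg (by omega), if_pos v1]
    simp only [Units.val_mk0]
    have hφl : φ l ≠ 0 := (map_ne_zero φ).2 hl
    field_simp
  have hch : ∀ μ : F, ∃ T : TorD N F φ, μ ∈ M → mu T = μ := by
    intro μ
    by_cases h : μ ∈ M
    · obtain ⟨T, hT'⟩ := h
      exact ⟨T, fun _ => hT'⟩
    · exact ⟨tor3 K.invol hN 1 one_ne_zero, fun h' => absurd h' h⟩
  choose Tm hTm using hch
  choose T' hT' using hT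
  obtain ⟨ψ, c, hc, -, hshape⟩ := (C.UF 0 hN K).shape K th hpres M hMspan
    (fun μ => C.f (Tm μ).elt) (fun μ => mu (T' (Tm μ)))
    (by
      intro μ hμ a b h
      have := hTact (Tm μ) a b h
      rw [hTm μ hμ] at this
      exact this)
    (by
      intro μ hμ a b h
      rw [hT' (Tm μ)]
      exact hTact (T' (Tm μ)) a b h)
  -- the torus correction
  obtain ⟨d, hd, hdD, hdm⟩ := exists_diag (N := N) K.invol 1 (by omega) (fun _ => c) (fun _ _ => hc)
  refine ⟨ψ, d, hd, ?_⟩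
  intro a b h
  have h' : UPair φ (c * ψ a) (c * φ c * ψ b) := by
    have h1 : UPair φ (ψ a) (ψ b) := by
      unfold UPair at *
      rw [← K.comm ψ, ← K.comm ψ, ← map_mul, ← map_add, ← map_add, h, map_zero]
    exact UPair.smul K h1 c
  have := hshape a b h
  rw [UF_X, UF_X, XU_eq _ _ _ h, XU_eq _ _ _ h'] at this
  rw [this]
  congr 1
  apply gl_injective
  rw [gl_Phi, gl_mX, gl_mX, conj_map_mid ψ (K.comm ψ) d hd]
  have d0 : (d (eM 0 hN 0) : F) = c := hdD 0 (by omega)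
  have d1 : d (eM 0 hN 1) = 1 := by
    apply hdm
    · show 1 ≤ 0 + 1
      omega
    · show 0 + 1 < N - 1
      omega
  rw [d0, d1]
  simp

end Ctx

end Cfsg.Agent.AutPSU
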