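import Cfsg.Agent.Lib.Lead.AutPSU.UEvenMain
import Cfsg.Agent.Lib.Lead.AutPSU.UOddMain
import Cfsg.Agent.Lib.Lead.AutPSU.UThree
import Cfsg.Agent.Lib.Lead.AutPSU.UMidRigid
import Cfsg.Agent.Lib.Helper5.AutSU.Param
import Cfsg.Agent.Lib.Helper5.AutSU.Torus
import Mathlib

/-!
# Bridge between the explicit rank one subgroups (lead) and the root subgroups `Xp j`, `Xm j` (helper5)
-/

set_option autoImplicit false

namespace Cfsg.Agent.AutPSU

open Matrix Cfsg Cfsg.Agent.Lib.Helper5.GLBN Cfsg.Agent.Lib.Helper8.SpBN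
  Cfsg.Agent.Lib.Helper8.Tw Cfsg.Agent.Lib.Helper8.AutSp Cfsg.Agent.PSUT
open scoped MatrixGroups

variable {N : ℕ} {F : Type*} [Field F] {k : Type*} [Field k]

/-- the upper `3 × 3` element as a product of transvections -/
theorem X3_eq_tv (φ : F →+* F) (a b : F) :
    X3 φ a b = tv (1 : Fin 3) 2 (by decide) (-(φ a)) * tv (0 : Fin 3) 1 (by decide) a
      * tv (0 : Fin 3) 2 (by decide) b := by
  apply Units.ext
  rw [Units.val_mul, Units.val_mul, tv_coe, tv_coe, tv_coe, X3_val]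
  ext i j
  fin_cases i <;> fin_cases j <;>
    simp [X3m, transvection, Matrix.mul_apply, Fin.sum_univ_three, Matrix.single]

/-- the lower `3 × 3` element as a product of transvections -/
theorem Y3_eq_tv (φ : F →+* F) (hφ : ∀ x, φ (φ x) = x) (a b : F) :
    Y3 φ (-(φ a)) b = tv (1 : Fin 3) 0 (by decide) (-(φ a)) * tv (2 : Fin 3) 1 (by decide) a
      * tv (2 : Fin 3) 0 (by decide) b := by
  apply Units.ext
  rw [Units.val_mul, Units.val_mul, tv_coe, tv_coe, tv_coe, Y3_val]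
  ext i j
  fin_cases i <;> fin_cases j <;>
    simp [Y3m, transvection, Matrix.mul_apply, Fin.sum_univ_three, Matrix.single, hφ]

namespace Ctx

variable {φ : F →+* F} {Q : Type*} [Group Q] (C : Ctx N F φ Q)

theorem sN_upT (j : ℕ) (hj : 2 * j + 4 ≤ N) (t : F) :
    C.sN j hj (upT t) = Cfsg.Agent.Lib.Helper5.AutSU.xpS C.hφ j hj t := by
  apply gl_injective
  rw [gl_sN, shortGL_upT]
  rfl

theorem sN_loT (j : ℕ) (hj : 2 * j + 4 ≤ N) (t : F) :
    C.sN j hj (loT t) = Cfsg.Agent.Lib.Helper5.AutSU.xmS C.hφ j hj t := by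
  apply gl_injective
  rw [gl_sN, shortGL_loT]
  rfl

theorem lN_upT (D : FixData F φ k) (j : ℕ) (hN : N = 2 * j + 4) (s : k) (hc) :
    lN D j hN (upT s) = Cfsg.Agent.Lib.Helper5.AutSU.xpL (j + 1) (by omega) ((D.z : F) * D.inc s) hc := by
  apply gl_injective
  rw [gl_lN, longGL_upT]
  rfl

theorem lN_loT (D : FixData F φ k) (j : ℕ) (hN : N = 2 * j + 4) (s : k) (hc) :
    lN D j hN (loT s) = Cfsg.Agent.Lib.Helper5.AutSU.xmL (j + 1) (by omega) ((D.z : F)⁻¹ * D.inc s) hc := by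
  apply gl_injective
  rw [gl_lN, longGL_loT]
  rw [← gl_eq_h5, Cfsg.Agent.Lib.Helper5.AutSU.gl_xmL]
  unfold Cfsg.Agent.Lib.Helper5.AutSU.xL
  apply tv_congr rfl
  exact (Fin.rev_rev _).symm

theorem mX_eq (κ : ℕ) (hN : N = 2 * κ + 3) (a b : F) (h : UPair φ a b) :
    C.mX κ hN a b h = Cfsg.Agent.Lib.Helper5.AutSU.xpO C.hφ κ hN.symm a b h := by
  apply gl_injective
  rw [gl_mX]
  unfold midGL
  rw [X3_eq_tv, map_mul, map_mul, embGL_tv, embGL_tv, embGL_tv]
  show _ = Cfsg.Agent.Lib.Helper5.AutSU.xO φ _ _ _ _ _ a b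
  unfold Cfsg.Agent.Lib.Helper5.AutSU.xO
  congr 1
  · congr 1
    apply tv_congr rfl
    apply Fin.ext
    show κ + 2 = _
    rw [Fin.val_rev]
    show κ + 2 = N - (κ + 1)
    omega
  · apply tv_congr rfl
    apply Fin.ext
    show κ + 2 = _
    rw [Fin.val_rev]
    show κ + 2 = N - (κ + 1)
    omega

theorem mY_eq (κ : ℕ) (hN : N = 2 * κ + 3) (a b : F) (h : UPair φ (-(φ a)) b)
    (h' : b + φ b + a * φ a = 0) :
    C.mY κ hN (-(φ a)) b h = Cfsg.Agent.Lib.Helper5.AutSU.xmO C.hφ κ hN.symm a b h' := by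
  apply gl_injective
  rw [gl_mY]
  unfold midGLY
  rw [Y3_eq_tv φ C.hφ, map_mul, map_mul, embGL_tv, embGL_tv, embGL_tv]
  show _ = Cfsg.Agent.Lib.Helper5.AutSU.xO φ _ _ _ _ _ a b
  unfold Cfsg.Agent.Lib.Helper5.AutSU.xO
  congr 1
  · congr 1
    apply tv_congr rfl
    apply Fin.ext
    show κ = _
    rw [Fin.val_rev]
    show κ = N - (κ + 2 + 1)
    omega
  · apply tv_congr rfl
    apply Fin.ext
    show κ = _
    rw [Fin.val_rev]
    show κ = N - (κ + 2 + 1)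
    omega

end Ctx

end Cfsg.Agent.AutPSU
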