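import Cfsg.Agent.Lib.Lead.AutPSU.UPhiPat
import Mathlib

/-!
# The model theorem for `PSU_N`, part A: the three cases on the fundamental root groups (lead)
-/

set_option autoImplicit false

namespace Cfsg.Agent.AutPSU

open Matrix Cfsg Cfsg.Agent.Lib.Helper5.GLBN Cfsg.Agent.Lib.Helper8.SpBN
  Cfsg.Agent.Lib.Helper8.Tw Cfsg.Agent.Lib.Helper8.AutSp Cfsg.Agent.PSUT
open scoped MatrixGroups

variable {N : ℕ} {F : Type*} [Field F] {k : Type*} [Field k]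

/-- from an equality of images of a subgroup to elements -/
theorem map_elem {G Q : Type*} [Group G] [Group Q] (f : G →* Q) (th : Q ≃* Q) (S : Subgroup G)
    (h : (S.map f).map th.toMonoidHom = S.map f) : ∀ g ∈ S, ∃ g' ∈ S, th (f g) = f g' := by
  intro g hg
  have h1 : th (f g) ∈ (S.map f).map th.toMonoidHom :=
    Subgroup.mem_map_of_mem _ (Subgroup.mem_map_of_mem _ hg)
  rw [h] at h1
  obtain ⟨g', hg', e⟩ := Subgroup.mem_map.1 h1
  exact ⟨g', hg', e.symm⟩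

/-- the properties of the fixed field data used for the long node -/
structure FixSurj {φ : F →+* F} (D : FixData F φ k) : Prop where
  surj : ∀ x : F, φ x = x → ∃ y : k, D.inc y = x

theorem FixSurj.skew_up {φ : F →+* F} {D : FixData F φ k} (hD : FixSurj D) (c : F)
    (hc : c + φ c = 0) : ∃ s : k, c = (D.z : F) * D.inc s := by
  have hz : (D.z : F) ≠ 0 := D.z.ne_zero
  obtain ⟨s, hs⟩ := hD.surj (c / (D.z : F)) (by
    rw [map_div₀, D.hz]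
    have : φ c = -c := by linear_combination hc
    rw [this, neg_div_neg_eq])
  refine ⟨s, ?_⟩
  rw [hs]
  field_simp

theorem FixSurj.skew_lo {φ : F →+* F} {D : FixData F φ k} (hD : FixSurj D) (c : F)
    (hc : c + φ c = 0) : ∃ s : k, c = (D.z : F)⁻¹ * D.inc s := by
  have hz : (D.z : F) ≠ 0 := D.z.ne_zero
  obtain ⟨s, hs⟩ := hD.surj (c * (D.z : F)) (by
    rw [map_mul, D.hz]
    have : φ c = -c := by linear_combination hc
    rw [this, neg_mul_neg])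
  refine ⟨s, ?_⟩
  rw [hs]
  field_simp

theorem FixData.up_skew {φ : F →+* F} (D : FixData F φ k) (s : k) :
    (D.z : F) * D.inc s + φ ((D.z : F) * D.inc s) = 0 := by
  rw [map_mul, D.hz, D.hinc]
  ring

theorem FixData.lo_skew {φ : F →+* F} (D : FixData F φ k) (s : k) :
    (D.z : F)⁻¹ * D.inc s + φ ((D.z : F)⁻¹ * D.inc s) = 0 := by
  rw [map_mul, map_inv₀, D.hz, D.hinc]
  ring

namespace Ctx

variable {φ : F →+* F} {Q : Type*} [Group Q] (C : Ctx N F φ Q)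

/-- the even case -/
theorem even_case [Fintype F] [Finite k] (D : FixData F φ k) (hD : FixSurj D) (K : UFieldOK F φ)
    (hnorm : ∀ ε : F, φ ε = ε → ε ≠ 0 → ∃ δ : F, δ * φ δ = ε) (j : ℕ) (hN : N = 2 * j + 4)
    (th : Q ≃* Q)
    (hXp : ∀ i, i < N / 2 → ∀ g ∈ Cfsg.Agent.Lib.Helper5.AutSU.Xp N F φ i,
      ∃ g' ∈ Cfsg.Agent.Lib.Helper5.AutSU.Xp N F φ i, th (C.f g) = C.f g')
    (hXm : ∀ i, i < N / 2 → ∀ g ∈ Cfsg.Agent.Lib.Helper5.AutSU.Xm N F φ i,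
      ∃ g' ∈ Cfsg.Agent.Lib.Helper5.AutSU.Xm N F φ i, th (C.f g) = C.f g') :
    ∃ (ψ : F ≃+* F) (d : Fin N → Fˣ) (hd : ∀ i, (d i : F) * φ (d i.rev) = 1),
      ∀ i, i < N / 2 → ∀ g, (g ∈ Cfsg.Agent.Lib.Helper5.AutSU.Xp N F φ i ∨
        g ∈ Cfsg.Agent.Lib.Helper5.AutSU.Xm N F φ i) →
        th (C.f g) = C.f (Phi ψ (K.comm ψ) d hd g) := by
  have hφ := C.hφ
  obtain ⟨ψ, d, hd, h1, h2, h3, h4⟩ := C.even_main D j hN K.comm hnorm th
    (by
      intro i hi u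
      obtain ⟨g', hg', e⟩ := hXp i (by omega) (C.sN i hi (upT u)) (by
        rw [C.sN_upT]
        exact Cfsg.Agent.Lib.Helper5.AutSU.xpS_mem_Xp hφ i hi u)
      obtain ⟨v, rfl⟩ := (Cfsg.Agent.Lib.Helper5.AutSU.mem_Xp_short_iff hφ hi).1 hg'
      exact ⟨v, by rw [e, C.sN_upT]⟩)
    (by
      intro i hi u
      obtain ⟨g', hg', e⟩ := hXm i (by omega) (C.sN i hi (loT u)) (by
        rw [C.sN_loT]
        exact Cfsg.Agent.Lib.Helper5.AutSU.xmS_mem_Xm hφ i hi u)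
      obtain ⟨v, rfl⟩ := (Cfsg.Agent.Lib.Helper5.AutSU.mem_Xm_short_iff hφ hi).1 hg'
      exact ⟨v, by rw [e, C.sN_loT]⟩)
    (by
      intro u
      obtain ⟨g', hg', e⟩ := hXp (j + 1) (by omega) (lN D j hN (upT u)) (by
        rw [lN_upT D j hN u (D.up_skew u)]
        exact Cfsg.Agent.Lib.Helper5.AutSU.xpL_mem_Xp (j + 1) (by omega) (by omega) _ _)
      obtain ⟨c, hc, rfl⟩ := (Cfsg.Agent.Lib.Helper5.AutSU.mem_Xp_even_iff (by omega)).1 hg'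
      obtain ⟨v, rfl⟩ := hD.skew_up c hc
      exact ⟨v, by rw [e, lN_upT D j hN v hc]⟩)
    (by
      intro u
      obtain ⟨g', hg', e⟩ := hXm (j + 1) (by omega) (lN D j hN (loT u)) (by
        rw [lN_loT D j hN u (D.lo_skew u)]
        exact Cfsg.Agent.Lib.Helper5.AutSU.xmL_mem_Xm (j + 1) (by omega) (by omega) _ _)
      obtain ⟨c, hc, rfl⟩ := (Cfsg.Agent.Lib.Helper5.AutSU.mem_Xm_even_iff (by omega)).1 hg'
      obtain ⟨v, rfl⟩ := hD.skew_lo c hc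
      exact ⟨v, by rw [e, lN_loT D j hN v hc]⟩)
  refine ⟨ψ, d, hd, ?_⟩
  intro i hi g hg
  by_cases hi' : 2 * i + 4 ≤ N
  · rcases hg with hg | hg
    · obtain ⟨t, rfl⟩ := (Cfsg.Agent.Lib.Helper5.AutSU.mem_Xp_short_iff hφ hi').1 hg
      rw [← C.sN_upT]
      exact h1 i hi' t
    · obtain ⟨t, rfl⟩ := (Cfsg.Agent.Lib.Helper5.AutSU.mem_Xm_short_iff hφ hi').1 hg
      rw [← C.sN_loT]
      exact h2 i hi' t
  · have hij : i = j + 1 := by omega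
    subst hij
    rcases hg with hg | hg
    · obtain ⟨c, hc, rfl⟩ := (Cfsg.Agent.Lib.Helper5.AutSU.mem_Xp_even_iff (by omega)).1 hg
      obtain ⟨s, rfl⟩ := hD.skew_up c hc
      rw [← lN_upT D j hN s hc]
      exact h3 s
    · obtain ⟨c, hc, rfl⟩ := (Cfsg.Agent.Lib.Helper5.AutSU.mem_Xm_even_iff (by omega)).1 hg
      obtain ⟨s, rfl⟩ := hD.skew_lo c hc
      rw [← lN_loT D j hN s hc]
      exact h4 s

end Ctx


namespace Ctx

variable {φ : F →+* F} {Q : Type*} [Group Q] (C : Ctx N F φ Q)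

/-- every lower middle element is a `mY` -/
theorem xmO_eq_mY (κ : ℕ) (hN : N = 2 * κ + 3) (a b : F) (h' : b + φ b + a * φ a = 0) :
    ∃ h : UPair φ (-(φ a)) b,
      Cfsg.Agent.Lib.Helper5.AutSU.xmO C.hφ κ hN.symm a b h' = C.mY κ hN (-(φ a)) b h := by
  have h : UPair φ (-(φ a)) b := by
    unfold UPair
    rw [map_neg, C.hφ]
    linear_combination h'
  exact ⟨h, (C.mY_eq κ hN a b h h').symm⟩

theorem mY_eq_xmO (κ : ℕ) (hN : N = 2 * κ + 3) (a b : F) (h : UPair φ a b) :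
    ∃ h' : b + φ b + (-(φ a)) * φ (-(φ a)) = 0,
      C.mY κ hN a b h = Cfsg.Agent.Lib.Helper5.AutSU.xmO C.hφ κ hN.symm (-(φ a)) b h' := by
  have h' : b + φ b + (-(φ a)) * φ (-(φ a)) = 0 := by
    rw [map_neg, C.hφ]
    unfold UPair at h
    linear_combination h
  refine ⟨h', ?_⟩
  have e : -(φ (-(φ a))) = a := by rw [map_neg, C.hφ, neg_neg]
  have h2 : UPair φ (-(φ (-(φ a)))) b := by rw [e]; exact h
  rw [← C.mY_eq κ hN (-(φ a)) b h2 h']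
  congr 1
  exact e.symm

/-- the middle-node step: once `th` agrees with `Phi` on the upper middle root group, it agrees
on the lower one -/
theorem mid_step [Fintype F] (K : UFieldOK F φ) (κ : ℕ) (hN : N = 2 * κ + 3) (th : Q ≃* Q)
    (ψ : F ≃+* F) (d : Fin N → Fˣ) (hd : ∀ i, (d i : F) * φ (d i.rev) = 1)
    (hBB : ∀ g ∈ Cfsg.Agent.Lib.Helper5.AutSU.BB N F φ,
      ∃ g' ∈ Cfsg.Agent.Lib.Helper5.AutSU.BB N F φ, th (C.f g) = C.f g')
    (hXm : ∀ g ∈ Cfsg.Agent.Lib.Helper5.AutSU.Xm N F φ κ,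
      ∃ g' ∈ Cfsg.Agent.Lib.Helper5.AutSU.Xm N F φ κ, th (C.f g) = C.f g')
    (hX : ∀ a b (h : UPair φ a b), th (C.f (C.mX κ hN a b h))
        = C.f (Phi ψ (K.comm ψ) d hd (C.mX κ hN a b h))) :
    ∀ a b (h : UPair φ a b), th (C.f (C.mY κ hN a b h))
        = C.f (Phi ψ (K.comm ψ) d hd (C.mY κ hN a b h)) := by
  have hφ := C.hφ
  set P := Phi ψ (K.comm ψ) d hd with hP
  set Ψ : Q ≃* Q := descend C.f C.hf C.hker P with hΨ
  have hΨa : ∀ g, Ψ (C.f g) = C.f (P g) := fun g => descend_apply C.f C.hf C.hker P g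
  have hΨs : ∀ g, Ψ.symm (C.f g) = C.f (P.symm g) := by
    intro g
    rw [MulEquiv.symm_apply_eq, hΨa, MulEquiv.apply_symm_apply]
  have key := C.mid_rigid κ hN K (th.trans Ψ.symm)
    (by
      intro g hg
      obtain ⟨g', hg', e⟩ := hBB g hg
      refine ⟨P.symm g', Phi_symm_mem_BB ψ (K.comm ψ) d hd hg', ?_⟩
      rw [MulEquiv.trans_apply, e, hΨs])
    (by
      intro a b h
      rw [MulEquiv.trans_apply, hX a b h, hΨs, MulEquiv.symm_apply_apply])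
    (by
      intro a b h
      obtain ⟨h', e⟩ := C.mY_eq_xmO κ hN a b h
      obtain ⟨g', hg', e'⟩ := hXm _ (Cfsg.Agent.Lib.Helper5.AutSU.xmO_mem_Xm hφ κ hN.symm _ _ h')
      have h3 := Phi_symm_mem_Xm ψ (K.comm ψ) d hd (j := κ) (by omega) hg'
      obtain ⟨a', b', hb', e3⟩ := (Cfsg.Agent.Lib.Helper5.AutSU.mem_Xm_odd_iff hφ hN.symm).1 h3
      obtain ⟨h4, e4⟩ := C.xmO_eq_mY κ hN a' b' hb'
      refine ⟨_, _, h4, ?_⟩
      rw [MulEquiv.trans_apply, e, e', hΨs, ← e4, ← e3])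
  intro a b h
  have := key a b h
  rw [MulEquiv.trans_apply, MulEquiv.symm_apply_eq, hΨa] at this
  exact this

/-- the odd case `N ≥ 5` -/
theorem odd_case [Fintype F] (K : UFieldOK F φ) (j : ℕ) (hN : N = 2 * (j + 1) + 3)
    (th : Q ≃* Q)
    (hBB : ∀ g ∈ Cfsg.Agent.Lib.Helper5.AutSU.BB N F φ,
      ∃ g' ∈ Cfsg.Agent.Lib.Helper5.AutSU.BB N F φ, th (C.f g) = C.f g')
    (hXp : ∀ i, i < N / 2 → ∀ g ∈ Cfsg.Agent.Lib.Helper5.AutSU.Xp N F φ i,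
      ∃ g' ∈ Cfsg.Agent.Lib.Helper5.AutSU.Xp N F φ i, th (C.f g) = C.f g')
    (hXm : ∀ i, i < N / 2 → ∀ g ∈ Cfsg.Agent.Lib.Helper5.AutSU.Xm N F φ i,
      ∃ g' ∈ Cfsg.Agent.Lib.Helper5.AutSU.Xm N F φ i, th (C.f g) = C.f g') :
    ∃ (ψ : F ≃+* F) (d : Fin N → Fˣ) (hd : ∀ i, (d i : F) * φ (d i.rev) = 1),
      ∀ i, i < N / 2 → ∀ g, (g ∈ Cfsg.Agent.Lib.Helper5.AutSU.Xp N F φ i ∨
        g ∈ Cfsg.Agent.Lib.Helper5.AutSU.Xm N F φ i) →
        th (C.f g) = C.f (Phi ψ (K.comm ψ) d hd g) := by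
  have hφ := C.hφ
  obtain ⟨ψ, d, hd, h1, h2, h3⟩ := C.odd_main K j hN th
    (by
      intro i hi u
      obtain ⟨g', hg', e⟩ := hXp i (by omega) (C.sN i hi (upT u)) (by
        rw [C.sN_upT]
        exact Cfsg.Agent.Lib.Helper5.AutSU.xpS_mem_Xp hφ i hi u)
      obtain ⟨v, rfl⟩ := (Cfsg.Agent.Lib.Helper5.AutSU.mem_Xp_short_iff hφ hi).1 hg'
      exact ⟨v, by rw [e, C.sN_upT]⟩)
    (by
      intro i hi u
      obtain ⟨g', hg', e⟩ := hXm i (by omega) (C.sN i hi (loT u)) (by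
        rw [C.sN_loT]
        exact Cfsg.Agent.Lib.Helper5.AutSU.xmS_mem_Xm hφ i hi u)
      obtain ⟨v, rfl⟩ := (Cfsg.Agent.Lib.Helper5.AutSU.mem_Xm_short_iff hφ hi).1 hg'
      exact ⟨v, by rw [e, C.sN_loT]⟩)
    (by
      intro a b h
      obtain ⟨g', hg', e⟩ := hXp (j + 1) (by omega) (C.mX (j + 1) hN a b h) (by
        rw [C.mX_eq]
        exact Cfsg.Agent.Lib.Helper5.AutSU.xpO_mem_Xp hφ (j + 1) hN.symm a b h)
      obtain ⟨a', b', hb', rfl⟩ := (Cfsg.Agent.Lib.Helper5.AutSU.mem_Xp_odd_iff hφ hN.symm).1 hg'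
      have hb2 : UPair φ a' b' := hb'
      exact ⟨a', b', hb2, by rw [e, C.mX_eq (j + 1) hN a' b' hb2]⟩)
  have h4 := C.mid_step K (j + 1) hN th ψ d hd hBB (hXm (j + 1) (by omega)) h3
  refine ⟨ψ, d, hd, ?_⟩
  intro i hi g hg
  by_cases hi' : 2 * i + 4 ≤ N
  · rcases hg with hg | hg
    · obtain ⟨t, rfl⟩ := (Cfsg.Agent.Lib.Helper5.AutSU.mem_Xp_short_iff hφ hi').1 hg
      rw [← C.sN_upT]
      exact h1 i hi' t
    · obtain ⟨t, rfl⟩ := (Cfsg.Agent.Lib.Helper5.AutSU.mem_Xm_short_iff hφ hi').1 hg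
      rw [← C.sN_loT]
      exact h2 i hi' t
  · have hij : i = j + 1 := by omega
    subst hij
    rcases hg with hg | hg
    · obtain ⟨a, b, hb, rfl⟩ := (Cfsg.Agent.Lib.Helper5.AutSU.mem_Xp_odd_iff hφ hN.symm).1 hg
      have hb2 : UPair φ a b := hb
      rw [← C.mX_eq (j + 1) hN a b hb2]
      exact h3 a b hb2
    · obtain ⟨a, b, hb, rfl⟩ := (Cfsg.Agent.Lib.Helper5.AutSU.mem_Xm_odd_iff hφ hN.symm).1 hg
      obtain ⟨h, e⟩ := C.xmO_eq_mY (j + 1) hN a b hb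
      rw [e]
      exact h4 _ _ h

end Ctx


/-- a diagonal element of the unitary group is a `TorD` -/
theorem exists_torD [Fintype F] {φ : F →+* F} {g : ↥(N1 N F φ)}
    (hg : g ∈ Cfsg.Agent.Lib.Helper5.AutSU.TT N F φ) : ∃ T : TorD N F φ, T.elt = g := by
  classical
  rw [Cfsg.Agent.Lib.Helper5.AutSU.mem_TT] at hg
  simp only [gl_eq_h5] at hg
  set M : Matrix (Fin N) (Fin N) F := ((gl g : GL (Fin N) F) : Matrix (Fin N) (Fin N) F) with hM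
  have hdiag : M = Matrix.diagonal (fun i => M i i) := by
    ext a b
    rw [Matrix.diagonal_apply]
    by_cases hab : a = b
    · subst hab
      rw [if_pos rfl]
    · rw [if_neg hab]
      exact hg a b hab
  have hne : ∀ i, M i i ≠ 0 := by
    intro i h0
    have h1 : M * ((gl g)⁻¹ : GL (Fin N) F).val = 1 := by
      rw [hM, ← Units.val_mul, mul_inv_cancel, Units.val_one]
    have h2 := congrFun (congrFun h1 i) i
    rw [hdiag, Matrix.diagonal_mul, Matrix.one_apply_eq, h0, zero_mul] at h2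
    exact zero_ne_one h2
  let d : Fin N → Fˣ := fun i => Units.mk0 (M i i) (hne i)
  have hdg : dgU d = gl g := by
    apply Units.ext
    rw [dgU_coe, ← hM, hdiag]
    rfl
  have hU : dgU d ∈ UH N F φ := by rw [hdg]; exact gl_mem g
  have hd : ∀ i, (d i : F) * φ (d i.rev) = 1 := by
    intro i
    rw [mem_UH, usig_dgU] at hU
    have h1 := congrArg (fun x : GL (Fin N) F => (x : Matrix (Fin N) (Fin N) F) i i) hU
    simp only [dgU_coe, Matrix.diagonal_apply_eq] at h1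
    rw [← h1, Units.coe_map, Units.val_inv_eq_inv_val]
    have : φ ((d i.rev : Fˣ) : F) ≠ 0 := (map_ne_zero φ).2 (Units.ne_zero _)
    show φ (((d i.rev : Fˣ) : F)⁻¹) * _ = 1
    rw [map_inv₀]
    exact inv_mul_cancel₀ this
  have hdet : ((dgU d : GL (Fin N) F) : Matrix (Fin N) (Fin N) F).det = 1 := by
    rw [hdg]; exact det_gl g
  refine ⟨⟨d, hd, hdet⟩, ?_⟩
  apply gl_injective
  rw [TorD.gl_elt]
  exact hdg

theorem TorD.elt_mem_TT [Fintype F] {φ : F →+* F} (T : TorD N F φ) :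
    T.elt ∈ Cfsg.Agent.Lib.Helper5.AutSU.TT N F φ := by
  rw [Cfsg.Agent.Lib.Helper5.AutSU.mem_TT]
  intro a b hab
  rw [gl_eq_h5, TorD.gl_elt, dgU_coe, Matrix.diagonal_apply_ne _ hab]

namespace Ctx

variable {φ : F →+* F} {Q : Type*} [Group Q] (C : Ctx N F φ Q)

/-- the case `N = 3` -/
theorem three_case [Fintype F] (K : UFieldOK F φ) (hN : N = 2 * 0 + 3)
    (hspan : AddSubgroup.closure {μ : F | ∃ l : F, l ≠ 0 ∧ μ = l * l / φ l} = ⊤)
    (th : Q ≃* Q)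
    (hBB : ∀ g ∈ Cfsg.Agent.Lib.Helper5.AutSU.BB N F φ,
      ∃ g' ∈ Cfsg.Agent.Lib.Helper5.AutSU.BB N F φ, th (C.f g) = C.f g')
    (hTT : ∀ g ∈ Cfsg.Agent.Lib.Helper5.AutSU.TT N F φ,
      ∃ g' ∈ Cfsg.Agent.Lib.Helper5.AutSU.TT N F φ, th (C.f g) = C.f g')
    (hXp : ∀ i, i < N / 2 → ∀ g ∈ Cfsg.Agent.Lib.Helper5.AutSU.Xp N F φ i,
      ∃ g' ∈ Cfsg.Agent.Lib.Helper5.AutSU.Xp N F φ i, th (C.f g) = C.f g')
    (hXm : ∀ i, i < N / 2 → ∀ g ∈ Cfsg.Agent.Lib.Helper5.AutSU.Xm N F φ i,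
      ∃ g' ∈ Cfsg.Agent.Lib.Helper5.AutSU.Xm N F φ i, th (C.f g) = C.f g') :
    ∃ (ψ : F ≃+* F) (d : Fin N → Fˣ) (hd : ∀ i, (d i : F) * φ (d i.rev) = 1),
      ∀ i, i < N / 2 → ∀ g, (g ∈ Cfsg.Agent.Lib.Helper5.AutSU.Xp N F φ i ∨
        g ∈ Cfsg.Agent.Lib.Helper5.AutSU.Xm N F φ i) →
        th (C.f g) = C.f (Phi ψ (K.comm ψ) d hd g) := by
  have hφ := C.hφ
  obtain ⟨ψ, d, hd, h3⟩ := C.three_main K hN th
    (by
      intro a b h
      obtain ⟨g', hg', e⟩ := hXp 0 (by omega) (C.mX 0 hN a b h) (by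
        rw [C.mX_eq]
        exact Cfsg.Agent.Lib.Helper5.AutSU.xpO_mem_Xp hφ 0 hN.symm a b h)
      obtain ⟨a', b', hb', rfl⟩ := (Cfsg.Agent.Lib.Helper5.AutSU.mem_Xp_odd_iff hφ hN.symm).1 hg'
      have hb2 : UPair φ a' b' := hb'
      exact ⟨a', b', hb2, by rw [e, C.mX_eq 0 hN a' b' hb2]⟩)
    (by
      intro T
      obtain ⟨g', hg', e⟩ := hTT T.elt T.elt_mem_TT
      obtain ⟨T', rfl⟩ := exists_torD hg'
      exact ⟨T', e⟩)
    hspan
  have h4 := C.mid_step K 0 hN th ψ d hd hBB (hXm 0 (by omega)) h3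
  refine ⟨ψ, d, hd, ?_⟩
  intro i hi g hg
  have hi0 : i = 0 := by omega
  subst hi0
  rcases hg with hg | hg
  · obtain ⟨a, b, hb, rfl⟩ := (Cfsg.Agent.Lib.Helper5.AutSU.mem_Xp_odd_iff hφ hN.symm).1 hg
    have hb2 : UPair φ a b := hb
    rw [← C.mX_eq 0 hN a b hb2]
    exact h3 a b hb2
  · obtain ⟨a, b, hb, rfl⟩ := (Cfsg.Agent.Lib.Helper5.AutSU.mem_Xm_odd_iff hφ hN.symm).1 hg
    obtain ⟨h, e⟩ := C.xmO_eq_mY 0 hN a b hb
    rw [e]
    exact h4 _ _ h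

end Ctx

end Cfsg.Agent.AutPSU
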