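import Cfsg.Agent.Lib.Lead.AutPSU.UFacC
import Cfsg.Agent.Lib.Helper5.AutSU.Gen4
import Cfsg.Agent.Lib.Helper7.AutPSU.Kernel
import Mathlib

/-!
# The factorisation of the automorphisms of `PSU_n(q)` (lead; with helper5's generation theorem
and helper7's interface)
-/

set_option autoImplicit false

namespace Cfsg.Agent.AutPSU

open Matrix Cfsg Cfsg.Agent.Lib.Helper5.GLBN Cfsg.Agent.Lib.Helper8.SpBN
  Cfsg.Agent.Lib.Helper8.Tw Cfsg.Agent.Lib.Helper8.AutSp Cfsg.Agent.PSUT
  Cfsg.Agent.Lib.H7AutPSU Cfsg.Agent.Lib.H7AutPSp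
open scoped MatrixGroups

/-- perfectness is transported by an isomorphism -/
theorem commutator_eq_top_of_equiv {G G' : Type*} [Group G] [Group G'] (e : G ≃* G')
    (h : commutator G = ⊤) : commutator G' = ⊤ := by
  rw [eq_top_iff]
  intro x _
  have hx : e.symm x ∈ commutator G := by rw [h]; trivial
  have h2 : (commutator G).map e.toMonoidHom ≤ commutator G' := by
    rw [commutator_def, Subgroup.map_commutator, commutator_def]
    exact Subgroup.commutator_mono le_top le_top
  have := h2 (Subgroup.mem_map_of_mem e.toMonoidHom hx)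
  rw [MulEquiv.coe_toMonoidHom, MulEquiv.apply_symm_apply] at this
  exact this

universe u

variable {n : ℕ} {F : Type u} [Field F] [Fintype F]

/-- the factorisation in the form of helper7's `FacU` -/
theorem facU_main (p m : ℕ) [Fact p.Prime] [CharP F p] (hF : Fintype.card F = (p ^ m) ^ 2)
    (hn : 3 ≤ n) (hs : ¬ (n = 3 ∧ p ^ m = 2)) : FacU n F (p ^ m) := by
  have hinv := frobQ_frobQ p m hF
  have hne : frobQ F p m ≠ RingHom.id F := by
    obtain ⟨a, ha⟩ := exists_not_fixed hF
    intro h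
    apply ha
    have := congrArg (fun f : F →+* F => f a) h
    simp only [RingHom.id_apply, frobQ_apply] at this
    exact this
  obtain ⟨A, hA⟩ := exists_baseChange n (frobQ F p m) hne hinv
  have hA' : IsBC (frobQ F p m) A := hA
  have hperf : commutator ↥(N1 n F (frobQ F p m)) = ⊤ :=
    commutator_eq_top_of_equiv (sE p m A hA') (su_perfect hF hn hs)
  have C5 : Cfsg.Agent.Lib.Helper5.AutSU.Ctx n F (frobQ F p m) (p ^ m) :=
    ⟨hn, hF, frobQ_apply p m⟩
  exact facU_of_gen p m hF hn hs (fun H hH => C5.gen hperf H hH)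

/-- the characteristic from the cardinality -/
theorem charP_of_card_sq (p f : ℕ) (hp : p.Prime) (hF : Fintype.card F = (p ^ f) ^ 2) :
    CharP F p := by
  obtain ⟨p', hp'⟩ := CharP.exists F
  have hp'prime : p'.Prime := CharP.char_is_prime F p'
  have h1 : p' ∣ Fintype.card F :=
    (CharP.cast_eq_zero_iff F p' (Fintype.card F)).1 (Nat.cast_card_eq_zero F)
  rw [hF] at h1
  have h2 : p' ∣ p := hp'prime.dvd_of_dvd_pow (hp'prime.dvd_of_dvd_pow h1)
  have h3 : p' = p := (Nat.prime_dvd_prime_iff_eq hp'prime hp).1 h2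
  rw [← h3]
  exact hp'

end Cfsg.Agent.AutPSU

namespace Cfsg.Agent.AutPSU

open Cfsg.Agent.Lib.H7AutPSU

set_option linter.unusedVariables false in
/-- **The core of S2692**: every automorphism of `PSU_n(q)` is induced by a semilinear map
`v ↦ g σ(v)` with `g` general unitary. -/
theorem FacU_core {F : Type*} [Field F] [Fintype F] {p f q : ℕ} [Fact p.Prime] (hq : q = p ^ f)
    (hf : 1 ≤ f) (hF : Fintype.card F = q ^ 2) {n : ℕ} (hn : 3 ≤ n) (hs : ¬ (n = 3 ∧ q = 2)) :
    ∀ β : MulAut (Cfsg.PSU n F q), ∃ (g : GL (Fin n) F) (σ : F ≃+* F),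
      g ∈ Cfsg.GU n F q ∧ Cfsg.IsInducedBySemilinearPSU g σ β := by
  subst hq
  have hp : p.Prime := Fact.out
  have : CharP F p := charP_of_card_sq p f hp hF
  intro β
  obtain ⟨g, σ, h⟩ := facU_main p f hF hn hs β
  exact ⟨g.1, σ, g.2, (semilinearU_iff g σ β).2 h⟩

end Cfsg.Agent.AutPSU
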