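import Cfsg.Agent.Lib.Lead.AutPSU.UNodes
import Mathlib

/-!
# The standard automorphisms `g ↦ d ψ(g) d⁻¹` of `SU_N` on the root elements; unitary diagonal matrices
with prescribed entries (lead)
-/

set_option autoImplicit false

namespace Cfsg.Agent.AutPSU

open Matrix Cfsg Cfsg.Agent.Lib.Helper5.GLBN Cfsg.Agent.Lib.Helper8.SpBN
  Cfsg.Agent.Lib.Helper8.Tw Cfsg.Agent.Lib.Helper8.AutSp Cfsg.Agent.PSUT
open scoped MatrixGroups

variable {N : ℕ} {F : Type*} [Field F] {k : Type*} [Field k]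

section Phi

variable {φ : F →+* F} (ψ : F ≃+* F) (hψ : ∀ x, ψ (φ x) = φ (ψ x))
  (d : Fin N → Fˣ) (hd : ∀ i, (d i : F) * φ (d i.rev) = 1)

/-- the unitary diagonal matrix -/
def dU : ↥(UH N F φ) := ⟨dgU d, dgU_mem_UH hd⟩

/-- the standard automorphism `g ↦ d ψ(g) d⁻¹` -/
noncomputable def Phi : ↥(N1 N F φ) ≃* ↥(N1 N F φ) := (fieldU ψ hψ).trans (conjU (dU d hd))

theorem gl_Phi (g : ↥(N1 N F φ)) :
    gl (Phi ψ hψ d hd g)
      = dgU d * Matrix.GeneralLinearGroup.map (ψ : F →+* F) (gl g) * (dgU d)⁻¹ := by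
  unfold Phi
  rw [MulEquiv.trans_apply, gl_conjU, gl_fieldU]
  rfl

include hd in
theorem d_rev (i : Fin N) : (d i.rev : F) = (φ (d i))⁻¹ := by
  have h := hd i.rev
  rw [Fin.rev_rev] at h
  exact eq_inv_of_mul_eq_one_left h

include hd in
theorem d_rev_inv (i : Fin N) : ((d i.rev)⁻¹ : Fˣ) = φ (d i) := by
  rw [Units.val_inv_eq_inv_val, d_rev d hd, inv_inv]

include hψ hd in
/-- on the upper root elements of a short node -/
theorem conj_map_short_up {i₀ i₁ : Fin N} (q : Quad i₀ i₁) (t : F) :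
    dgU d * Matrix.GeneralLinearGroup.map (ψ : F →+* F) (shortGL φ q (upT t)) * (dgU d)⁻¹
      = shortGL φ q (upT ((d i₀ : F) * ψ t * ((d i₁)⁻¹ : Fˣ))) := by
  rw [shortGL_upT, shortGL_upT, map_mul, glMap_tv, glMap_tv]
  have e : ∀ a b c : GL (Fin N) F, a * (b * c) * a⁻¹ = (a * b * a⁻¹) * (a * c * a⁻¹) := by
    intro a b c; group
  rw [e, dgU_conj_tv, dgU_conj_tv]
  congr 2
  rw [d_rev d hd, d_rev_inv d hd]
  simp only [RingHom.coe_coe, map_neg, map_mul, hψ, Units.val_inv_eq_inv_val, map_inv₀]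
  ring

include hψ hd in
/-- on the lower root elements of a short node -/
theorem conj_map_short_lo {i₀ i₁ : Fin N} (q : Quad i₀ i₁) (t : F) :
    dgU d * Matrix.GeneralLinearGroup.map (ψ : F →+* F) (shortGL φ q (loT t)) * (dgU d)⁻¹
      = shortGL φ q (loT ((d i₁ : F) * ψ t * ((d i₀)⁻¹ : Fˣ))) := by
  rw [shortGL_loT, shortGL_loT, map_mul, glMap_tv, glMap_tv]
  have e : ∀ a b c : GL (Fin N) F, a * (b * c) * a⁻¹ = (a * b * a⁻¹) * (a * c * a⁻¹) := by
    intro a b c; group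
  rw [e, dgU_conj_tv, dgU_conj_tv]
  congr 2
  rw [d_rev d hd, d_rev_inv d hd]
  simp only [RingHom.coe_coe, map_neg, map_mul, hψ, Units.val_inv_eq_inv_val, map_inv₀]
  ring

/-- on the upper root elements of a long node -/
theorem conj_map_long_up (inc : k →+* F) (z : Fˣ) {i : Fin N} (hi : i ≠ i.rev) (s : k) :
    dgU d * Matrix.GeneralLinearGroup.map (ψ : F →+* F) (longGL inc z hi (upT s)) * (dgU d)⁻¹
      = tv i i.rev hi ((d i : F) * (ψ z * ψ (inc s)) * ((d i.rev)⁻¹ : Fˣ)) := by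
  rw [longGL_upT, glMap_tv, dgU_conj_tv]
  simp

/-- on the lower root elements of a long node -/
theorem conj_map_long_lo (inc : k →+* F) (z : Fˣ) {i : Fin N} (hi : i ≠ i.rev) (s : k) :
    dgU d * Matrix.GeneralLinearGroup.map (ψ : F →+* F) (longGL inc z hi (loT s)) * (dgU d)⁻¹
      = tv i.rev i hi.symm ((d i.rev : F) * ((ψ z)⁻¹ * ψ (inc s)) * ((d i)⁻¹ : Fˣ)) := by
  rw [longGL_loT, glMap_tv, dgU_conj_tv]
  simp

end Phi

/-! ### unitary diagonal matrices with prescribed entries -/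

/-- a unitary diagonal matrix with prescribed entries on the first `L` coordinates (`2 L ≤ N`) and `1`
on the middle coordinates -/
theorem exists_diag {φ : F →+* F} (hφ : ∀ x, φ (φ x) = x) (L : ℕ) (hL : 2 * L ≤ N) (D : ℕ → F)
    (hD : ∀ i, i < L → D i ≠ 0) :
    ∃ d : Fin N → Fˣ, (∀ x, (d x : F) * φ (d x.rev) = 1) ∧
      (∀ i (h : i < L), (d (ix N i (by omega)) : F) = D i) ∧
      (∀ x : Fin N, L ≤ x.1 → x.1 < N - L → d x = 1) := by
  classical
  have hφ0 : ∀ x : F, x ≠ 0 → φ x ≠ 0 := fun x hx => (map_ne_zero φ).2 hx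
  let dd : Fin N → F := fun x =>
    if x.1 < L then D x.1 else if N - L ≤ x.1 then (φ (D (N - 1 - x.1)))⁻¹ else 1
  have hdd : ∀ x, dd x ≠ 0 := by
    intro x
    simp only [dd]
    split_ifs with h1 h2
    · exact hD _ h1
    · exact inv_ne_zero (hφ0 _ (hD _ (by omega)))
    · exact one_ne_zero
  refine ⟨fun x => Units.mk0 (dd x) (hdd x), ?_, ?_, ?_⟩
  · intro x
    simp only [Units.val_mk0, dd, Fin.val_rev]
    by_cases h1 : x.1 < L
    · have h2 : ¬ (N - (x.1 + 1) < L) := by omega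
      have h3 : N - L ≤ N - (x.1 + 1) := by omega
      rw [if_pos h1, if_neg h2, if_pos h3, map_inv₀, hφ]
      have : N - 1 - (N - (x.1 + 1)) = x.1 := by omega
      rw [this]
      exact mul_inv_cancel₀ (hD _ h1)
    · by_cases h2 : N - L ≤ x.1
      · have h3 : N - (x.1 + 1) < L := by omega
        rw [if_neg h1, if_pos h2, if_pos h3]
        have : N - 1 - x.1 = N - (x.1 + 1) := by omega
        rw [this]
        exact inv_mul_cancel₀ (hφ0 _ (hD _ h3))
      · have h3 : ¬ (N - (x.1 + 1) < L) := by omega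
        have h4 : ¬ (N - L ≤ N - (x.1 + 1)) := by omega
        rw [if_neg h1, if_neg h2, if_neg h3, if_neg h4, map_one, mul_one]
  · intro i h
    simp only [Units.val_mk0, dd]
    exact if_pos h
  · intro x h1 h2
    apply Units.ext
    simp only [Units.val_mk0, dd, Units.val_one]
    rw [if_neg (by omega), if_neg (by omega)]

/-- solving `D i = c i * D (i+1)` downwards from `D (L-1) = δ` -/
theorem exists_prefix (c : ℕ → F) (δ : F) (L : ℕ) :
    ∃ D : ℕ → F, D (L - 1) = δ ∧ (∀ i, i + 1 < L → D i = c i * D (i + 1)) ∧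
      ((∀ i, i + 1 < L → c i ≠ 0) → δ ≠ 0 → ∀ i, i < L → D i ≠ 0) := by
  refine ⟨fun i => (∏ t ∈ Finset.Ico i (L - 1), c t) * δ, ?_, ?_, ?_⟩
  · simp
  · intro i hi
    beta_reduce
    rw [Finset.prod_eq_prod_Ico_succ_bot (by omega : i < L - 1), mul_assoc]
  · intro hc hδ i hi
    beta_reduce
    apply mul_ne_zero _ hδ
    rw [Finset.prod_ne_zero_iff]
    intro t ht
    rw [Finset.mem_Ico] at ht
    exact hc t (by omega)

end Cfsg.Agent.AutPSU
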