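import Cfsg.Agent.Lib.Lead.TwShapeGen
import Mathlib

/-!
# Rank one families from homomorphisms of `SL₂` (lead)

`RFam.ofSL2 ι hker` : the rank one family `X t = ι (upT t)`, `Y t = ι (loT t)` attached to a homomorphism
`ι : SL₂(k) →* G` whose kernel lies in `{1, -1}`; its torus elements are `ι (dgT a)`.
-/

set_option autoImplicit false
set_option linter.unusedSimpArgs false

namespace Cfsg.Agent.AutPSU

open Cfsg.Agent.TwRankOne Cfsg.Agent.TwRankOne.Shape
open scoped MatrixGroups

variable {k : Type*} [Field k] {G : Type*} [Group G]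

/-- upper unitriangular -/
def upT (t : k) : Matrix.SpecialLinearGroup (Fin 2) k :=
  ⟨!![1, t; 0, 1], by simp [Matrix.det_fin_two]⟩

/-- lower unitriangular -/
def loT (t : k) : Matrix.SpecialLinearGroup (Fin 2) k :=
  ⟨!![1, 0; t, 1], by simp [Matrix.det_fin_two]⟩

/-- diagonal -/
def dgT (a : k) (ha : a ≠ 0) : Matrix.SpecialLinearGroup (Fin 2) k :=
  ⟨!![a, 0; 0, a⁻¹], by simp [Matrix.det_fin_two, ha]⟩

/-- the monomial element `n(a)` -/
def moT (a : k) (ha : a ≠ 0) : Matrix.SpecialLinearGroup (Fin 2) k :=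
  ⟨!![0, a; -a⁻¹, 0], by simp [Matrix.det_fin_two, ha]⟩

theorem upT_add (s t : k) : upT (s + t) = upT s * upT t := by
  apply Subtype.ext
  simp only [Matrix.SpecialLinearGroup.coe_mul]
  simp [upT, Matrix.mul_fin_two, add_comm]

theorem loT_add (s t : k) : loT (s + t) = loT s * loT t := by
  apply Subtype.ext
  simp only [Matrix.SpecialLinearGroup.coe_mul]
  simp [loT, Matrix.mul_fin_two]

theorem upT_zero : upT (0 : k) = 1 := by
  apply Subtype.ext
  simp [upT, Matrix.one_fin_two]

theorem loT_zero : loT (0 : k) = 1 := by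
  apply Subtype.ext
  simp [loT, Matrix.one_fin_two]

theorem moT_eq (a : k) (ha : a ≠ 0) : upT a * loT (-a⁻¹) * upT a = moT a ha := by
  apply Subtype.ext
  simp only [Matrix.SpecialLinearGroup.coe_mul]
  simp [upT, loT, moT, Matrix.mul_fin_two, ha]

theorem moT_mul_inv (a : k) (ha : a ≠ 0) : moT a ha * (moT 1 one_ne_zero)⁻¹ = dgT a ha := by
  rw [mul_inv_eq_iff_eq_mul]
  apply Subtype.ext
  simp only [Matrix.SpecialLinearGroup.coe_mul]
  simp [moT, dgT, Matrix.mul_fin_two]

theorem dgT_upT (a : k) (ha : a ≠ 0) (t : k) : dgT a ha * upT t = upT (a ^ 2 * t) * dgT a ha := by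
  apply Subtype.ext
  simp only [Matrix.SpecialLinearGroup.coe_mul]
  simp [upT, dgT, Matrix.mul_fin_two]
  field_simp

theorem dgT_loT (a : k) (ha : a ≠ 0) (t : k) :
    dgT a ha * loT t = loT ((a ^ 2)⁻¹ * t) * dgT a ha := by
  apply Subtype.ext
  simp only [Matrix.SpecialLinearGroup.coe_mul]
  simp [loT, dgT, Matrix.mul_fin_two]
  field_simp

theorem moT_upT (a : k) (ha : a ≠ 0) (s : k) :
    moT a ha * upT s = loT (-((a ^ 2)⁻¹ * s)) * moT a ha := by
  apply Subtype.ext
  simp only [Matrix.SpecialLinearGroup.coe_mul]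
  simp [upT, loT, moT, Matrix.mul_fin_two]
  field_simp

theorem upT_inv (t : k) : (upT t)⁻¹ = upT (-t) := by
  rw [inv_eq_iff_mul_eq_one, ← upT_add, add_neg_cancel, upT_zero]

theorem loT_inv (t : k) : (loT t)⁻¹ = loT (-t) := by
  rw [inv_eq_iff_mul_eq_one, ← loT_add, add_neg_cancel, loT_zero]

theorem upT_val01 (t : k) : (upT t).1 0 1 = t := by simp [upT]
theorem loT_val10 (t : k) : (loT t).1 1 0 = t := by simp [loT]

theorem neg_one_val01 : (-1 : Matrix.SpecialLinearGroup (Fin 2) k).1 0 1 = 0 := by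
  simp [Matrix.SpecialLinearGroup.coe_neg]

theorem neg_one_val10 : (-1 : Matrix.SpecialLinearGroup (Fin 2) k).1 1 0 = 0 := by
  simp [Matrix.SpecialLinearGroup.coe_neg]

section ofSL2

variable (ι : Matrix.SpecialLinearGroup (Fin 2) k →* G) (hker : ∀ g, ι g = 1 → g = 1 ∨ g = -1)
include hker

theorem upT_injective_of_ker : Function.Injective (fun t : k => ι (upT t)) := by
  intro s t h
  have h1 : ι (upT (s - t)) = 1 := by
    rw [sub_eq_add_neg, upT_add, ← upT_inv, map_mul, map_inv]
    exact mul_inv_eq_one.2 h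
  have h2 : (upT (s - t)).1 0 1 = 0 := by
    rcases hker _ h1 with e | e
    · rw [e]; simp
    · rw [e]; exact neg_one_val01
  rw [upT_val01] at h2
  exact sub_eq_zero.1 h2

theorem loT_injective_of_ker : Function.Injective (fun t : k => ι (loT t)) := by
  intro s t h
  have h1 : ι (loT (s - t)) = 1 := by
    rw [sub_eq_add_neg, loT_add, ← loT_inv, map_mul, map_inv]
    exact mul_inv_eq_one.2 h
  have h2 : (loT (s - t)).1 1 0 = 0 := by
    rcases hker _ h1 with e | e
    · rw [e]; simp
    · rw [e]; exact neg_one_val10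
  rw [loT_val10] at h2
  exact sub_eq_zero.1 h2

theorem rank_of_ker (a b s c : k)
    (h : ι (upT a) * ι (loT b) * ι (upT a) * ι (upT s)
      = ι (loT c) * (ι (upT a) * ι (loT b) * ι (upT a))) :
    c * (1 + a * b) ^ 2 = 0 := by
  set M := upT a * loT b * upT a with hM
  have h1 : ι (M * upT s * (loT c * M)⁻¹) = 1 := by
    rw [map_mul, map_inv, mul_inv_eq_one, hM]
    simp only [map_mul]
    exact h
  have e00 : ∀ s' : k, (M * upT s').1 0 0 = 1 + a * b := by
    intro s'
    simp only [hM, Matrix.SpecialLinearGroup.coe_mul]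
    simp [upT, loT, Matrix.mul_fin_two]
  have e10 : ∀ s' : k, (M * upT s').1 1 0 = b := by
    intro s'
    simp only [hM, Matrix.SpecialLinearGroup.coe_mul]
    simp [upT, loT, Matrix.mul_fin_two]
  have f00 : (loT c * M).1 0 0 = 1 + a * b := by
    simp only [hM, Matrix.SpecialLinearGroup.coe_mul]
    simp [upT, loT, Matrix.mul_fin_two]
  have f10 : (loT c * M).1 1 0 = c * (1 + a * b) + b := by
    simp only [hM, Matrix.SpecialLinearGroup.coe_mul]
    simp [upT, loT, Matrix.mul_fin_two]
  rcases hker _ h1 with e | e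
  · have e' : M * upT s = loT c * M := mul_inv_eq_one.1 e
    have := congrArg (fun g : Matrix.SpecialLinearGroup (Fin 2) k => g.1 1 0) e'
    simp only [e10, f10] at this
    have hcp : c * (1 + a * b) = 0 := by linear_combination -this
    rw [pow_two, ← mul_assoc, hcp, zero_mul]
  · have e' : M * upT s = -(loT c * M) := by
      rw [mul_inv_eq_iff_eq_mul] at e
      rw [e, neg_mul, one_mul]
    by_cases h2 : (2 : k) = 0
    · have := congrArg (fun g : Matrix.SpecialLinearGroup (Fin 2) k => g.1 1 0) e'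
      simp only [e10, Matrix.SpecialLinearGroup.coe_neg, Matrix.neg_apply, f10] at this
      have hcp : c * (1 + a * b) = 0 := by linear_combination this - b * h2
      rw [pow_two, ← mul_assoc, hcp, zero_mul]
    · have := congrArg (fun g : Matrix.SpecialLinearGroup (Fin 2) k => g.1 0 0) e'
      simp only [e00, Matrix.SpecialLinearGroup.coe_neg, Matrix.neg_apply, f00] at this
      have hp : 2 * (1 + a * b) = 0 := by linear_combination this
      have hp' : 1 + a * b = 0 := (mul_eq_zero.1 hp).resolve_left h2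
      rw [hp']
      ring

/-- **the rank one family of a homomorphism of `SL₂` with kernel in `{1, -1}`** -/
def RFam.ofSL2 : RFam k G where
  X t := ι (upT t)
  Y t := ι (loT t)
  X_add s t := by rw [upT_add, map_mul]
  Y_add s t := by rw [loT_add, map_mul]
  X_inj := upT_injective_of_ker ι hker
  Y_inj := loT_injective_of_ker ι hker
  swap a s ha := by
    simp only [← map_mul]
    rw [moT_eq a ha, moT_upT]
  rank := rank_of_ker ι hker
  self a ha := by
    intro u
    simp only [← map_mul, ← map_inv]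
    rw [moT_eq a ha, moT_eq 1 one_ne_zero, moT_mul_inv, dgT_upT]

theorem RFam.ofSL2_X (t : k) : (RFam.ofSL2 ι hker).X t = ι (upT t) := rfl
theorem RFam.ofSL2_Y (t : k) : (RFam.ofSL2 ι hker).Y t = ι (loT t) := rfl

theorem RFam.ofSL2_h (a : k) (ha : a ≠ 0) : (RFam.ofSL2 ι hker).h a = ι (dgT a ha) := by
  unfold RFam.h
  simp only [RFam.ofSL2_X, RFam.ofSL2_Y, ← map_mul, ← map_inv]
  rw [moT_eq a ha, moT_eq 1 one_ne_zero, moT_mul_inv]

end ofSL2

end Cfsg.Agent.AutPSU
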