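import Cfsg.Agent.Lib.Lead.AutPSU.UEmb
import Mathlib

/-!
# Field and diagonal automorphisms of `SU_N` (antidiagonal model) (lead)

* `fieldU ψ hψ` : entrywise application of a field automorphism commuting with `φ`;
* `conjU w` : conjugation by an element of the full unitary group;
* their values on transvections and embedded blocks.
-/

set_option autoImplicit false

namespace Cfsg.Agent.AutPSU

open Matrix Cfsg Cfsg.Agent.Lib.Helper5.GLBN Cfsg.Agent.Lib.Helper8.SpBN
  Cfsg.Agent.Lib.Helper8.Tw Cfsg.Agent.Lib.Helper8.AutSp Cfsg.Agent.PSUT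
open scoped MatrixGroups

variable {r n : ℕ} {F : Type*} [Field F]

theorem glMap_val (ψ : F →+* F) (g : GL (Fin n) F) (i j : Fin n) :
    ((Matrix.GeneralLinearGroup.map ψ g : GL (Fin n) F) : Matrix (Fin n) (Fin n) F) i j
      = ψ ((g : Matrix (Fin n) (Fin n) F) i j) := rfl

theorem usig_glMap (φ ψ : F →+* F) (hψ : ∀ x, ψ (φ x) = φ (ψ x)) (g : GL (Fin n) F) :
    usig φ (Matrix.GeneralLinearGroup.map ψ g) = Matrix.GeneralLinearGroup.map ψ (usig φ g) := by
  apply Units.ext
  ext a b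
  rw [usig_apply, glMap_val, usig_apply, ← map_inv, glMap_val, hψ]

theorem glMap_mem_UH {φ : F →+* F} (ψ : F →+* F) (hψ : ∀ x, ψ (φ x) = φ (ψ x))
    {g : GL (Fin n) F} (hg : g ∈ UH n F φ) : Matrix.GeneralLinearGroup.map ψ g ∈ UH n F φ := by
  rw [mem_UH, usig_glMap φ ψ hψ, mem_UH.1 hg]

theorem det_glMap (ψ : F →+* F) (g : GL (Fin n) F) :
    ((Matrix.GeneralLinearGroup.map ψ g : GL (Fin n) F) : Matrix (Fin n) (Fin n) F).det
      = ψ ((g : Matrix (Fin n) (Fin n) F).det) := by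
  have : ((Matrix.GeneralLinearGroup.map ψ g : GL (Fin n) F) : Matrix (Fin n) (Fin n) F)
      = ψ.mapMatrix (g : Matrix (Fin n) (Fin n) F) := rfl
  rw [this, ← RingHom.map_det]

/-- the coercion to `GL_N` -/
def gl {φ : F →+* F} (g : ↥(N1 n F φ)) : GL (Fin n) F := ((g : ↥(UH n F φ)) : GL (Fin n) F)

theorem gl_mul {φ : F →+* F} (g h : ↥(N1 n F φ)) : gl (g * h) = gl g * gl h := rfl
theorem gl_one {φ : F →+* F} : gl (1 : ↥(N1 n F φ)) = 1 := rfl
theorem gl_inv {φ : F →+* F} (g : ↥(N1 n F φ)) : gl g⁻¹ = (gl g)⁻¹ := rfl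

theorem gl_injective {φ : F →+* F} : Function.Injective (gl : ↥(N1 n F φ) → GL (Fin n) F) := by
  intro g h e
  exact Subtype.ext (Subtype.ext e)

theorem gl_mem {φ : F →+* F} (g : ↥(N1 n F φ)) : gl g ∈ UH n F φ := g.1.2

theorem det_gl {φ : F →+* F} (g : ↥(N1 n F φ)) :
    (gl g : Matrix (Fin n) (Fin n) F).det = 1 := mem_N1.1 g.2

/-- building an element of `N1` -/
def mkN1 {φ : F →+* F} (g : GL (Fin n) F) (h1 : g ∈ UH n F φ)
    (h2 : (g : Matrix (Fin n) (Fin n) F).det = 1) : ↥(N1 n F φ) :=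
  ⟨⟨g, h1⟩, mem_N1.2 h2⟩

theorem gl_mkN1 {φ : F →+* F} (g : GL (Fin n) F) (h1 : g ∈ UH n F φ)
    (h2 : (g : Matrix (Fin n) (Fin n) F).det = 1) : gl (mkN1 g h1 h2) = g := rfl

section field

variable {φ : F →+* F} (ψ : F ≃+* F) (hψ : ∀ x, ψ (φ x) = φ (ψ x))

include hψ in
theorem symm_comm (x : F) : ψ.symm (φ x) = φ (ψ.symm x) := by
  apply ψ.injective
  rw [ψ.apply_symm_apply, hψ, ψ.apply_symm_apply]

/-- the field automorphism of `SU_N` -/
noncomputable def fieldU : ↥(N1 n F φ) ≃* ↥(N1 n F φ) where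
  toFun g := mkN1 (Matrix.GeneralLinearGroup.map (ψ : F →+* F) (gl g))
    (glMap_mem_UH (ψ : F →+* F) hψ (gl_mem g)) (by rw [det_glMap, det_gl, map_one])
  invFun g := mkN1 (Matrix.GeneralLinearGroup.map (ψ.symm : F →+* F) (gl g))
    (glMap_mem_UH (ψ.symm : F →+* F) (symm_comm ψ hψ) (gl_mem g))
    (by rw [det_glMap, det_gl, map_one])
  left_inv g := by
    apply gl_injective
    rw [gl_mkN1, gl_mkN1]
    apply Units.ext
    ext i j
    simp [glMap_val]
  right_inv g := by
    apply gl_injective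
    rw [gl_mkN1, gl_mkN1]
    apply Units.ext
    ext i j
    simp [glMap_val]
  map_mul' g h := by
    apply gl_injective
    show Matrix.GeneralLinearGroup.map (ψ : F →+* F) (gl (g * h))
      = Matrix.GeneralLinearGroup.map (ψ : F →+* F) (gl g)
        * Matrix.GeneralLinearGroup.map (ψ : F →+* F) (gl h)
    rw [gl_mul, map_mul]

theorem gl_fieldU (g : ↥(N1 n F φ)) :
    gl (fieldU ψ hψ g) = Matrix.GeneralLinearGroup.map (ψ : F →+* F) (gl g) := rfl

end field

/-- conjugation by an element of the full unitary group -/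
noncomputable def conjU {φ : F →+* F} (w : ↥(UH n F φ)) : ↥(N1 n F φ) ≃* ↥(N1 n F φ) :=
  MulAut.conjNormal w

theorem gl_conjU {φ : F →+* F} (w : ↥(UH n F φ)) (g : ↥(N1 n F φ)) :
    gl (conjU w g) = (w : GL (Fin n) F) * gl g * (w : GL (Fin n) F)⁻¹ := by
  unfold conjU gl
  rw [MulAut.conjNormal_apply]
  rfl

/-! ### values on the standard elements -/

theorem glMap_tv (ψ : F →+* F) (a b : Fin n) (hab : a ≠ b) (c : F) :
    Matrix.GeneralLinearGroup.map ψ (tv a b hab c) = tv a b hab (ψ c) := by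
  apply Units.ext
  ext i j
  rw [glMap_val, tv_coe, tv_coe, transvection_apply, transvection_apply, map_add]
  congr 1
  · split_ifs <;> simp
  · split_ifs <;> simp

theorem glMap_embGL (ψ : F →+* F) (e : Fin r → Fin n) (he : Function.Injective e)
    (g : GL (Fin r) F) :
    Matrix.GeneralLinearGroup.map ψ (embGL e he g)
      = embGL e he (Matrix.GeneralLinearGroup.map ψ g) := by
  apply Units.ext
  rw [embGL_coe, eq_emb_iff e he]
  refine ⟨?_, ?_, ?_⟩
  · intro i j
    rw [glMap_val, glMap_val, embGL_coe, emb_apply_apply e he]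
  · intro a b ha
    rw [glMap_val, embGL_coe, emb_apply_of_not_mem_left e he _ ha, Matrix.one_apply]
    split_ifs <;> simp
  · intro a b hb
    rw [glMap_val, embGL_coe, emb_apply_of_not_mem_right e he _ _ hb, Matrix.one_apply]
    split_ifs <;> simp

end Cfsg.Agent.AutPSU
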