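import Cfsg.Agent.Lib.Lead.AutPSU.UEmb
import Cfsg.Agent.Lib.Lead.AutPSU.SL2Fam
import Mathlib

/-!
# The block homomorphisms into the unitary group of the antidiagonal form (lead)

* `pairGL φ e he hd` : `g ↦ embGL e g * embGL (revE e) (usig φ g)`, a block and its twisted mirror;
* `selfGL`-lemmas : a block on mirror-symmetric coordinates;
* `shortHom` : `SL₂(F) →* N1 n F φ` on the coordinates `i₀, i₁` and their mirrors.
-/

set_option autoImplicit false

namespace Cfsg.Agent.AutPSU

open Matrix Cfsg Cfsg.Agent.Lib.Helper5.GLBN Cfsg.Agent.Lib.Helper8.SpBN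
  Cfsg.Agent.Lib.Helper8.Tw Cfsg.Agent.Lib.Helper8.AutSp Cfsg.Agent.PSUT
open scoped MatrixGroups

variable {r n : ℕ} {F : Type*} [Field F]

/-- the determinant of the twisted inverse transpose -/
theorem det_usig (φ : F →+* F) (g : GL (Fin r) F) :
    ((usig φ g : GL (Fin r) F) : Matrix (Fin r) (Fin r) F).det
      = φ (((g⁻¹ : GL (Fin r) F) : Matrix (Fin r) (Fin r) F).det) := by
  have h : ((usig φ g : GL (Fin r) F) : Matrix (Fin r) (Fin r) F)
      = ((((g⁻¹ : GL (Fin r) F) : Matrix (Fin r) (Fin r) F).map φ)ᵀ).submatrix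
          (Fin.revPerm : Equiv.Perm (Fin r)) (Fin.revPerm : Equiv.Perm (Fin r)) := by
    ext a b
    rw [usig_apply, Matrix.submatrix_apply, Matrix.transpose_apply, Matrix.map_apply,
      Fin.revPerm_apply, Fin.revPerm_apply]
  rw [h, Matrix.det_submatrix_equiv_self, Matrix.det_transpose, ← RingHom.mapMatrix_apply,
    ← RingHom.map_det]

theorem embGL_congr {e e' : Fin r → Fin n} (h : e = e') (he : Function.Injective e)
    (he' : Function.Injective e') (g : GL (Fin r) F) : embGL e he g = embGL e' he' g := by
  subst h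
  rfl

section pair

variable (φ : F →+* F) (e : Fin r → Fin n) (he : Function.Injective e)
  (hd : ∀ i j, e i ≠ revE e j)

theorem pair_mul_aux {G : Type*} [Group G] (a b c d : G) (h : c * b = b * c) :
    a * b * (c * d) = a * c * (b * d) := by
  rw [mul_assoc, ← mul_assoc b, ← h, mul_assoc, mul_assoc]

include hd in
theorem pair_mul (g h : GL (Fin r) F) :
    embGL e he (g * h) * embGL (revE e) (revE_injective he) (usig φ (g * h))
    = (embGL e he g * embGL (revE e) (revE_injective he) (usig φ g)) *
      (embGL e he h * embGL (revE e) (revE_injective he) (usig φ h)) := by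
  have h1 : embGL e he (g * h) = embGL e he g * embGL e he h := map_mul _ _ _
  have h2 : usig φ (g * h) = usig φ g * usig φ h := map_mul _ _ _
  have h3 : embGL (revE e) (revE_injective he) (usig φ g * usig φ h)
    = embGL (revE e) (revE_injective he) (usig φ g)
      * embGL (revE e) (revE_injective he) (usig φ h) := map_mul _ _ _
  rw [h1, h2, h3]
  exact (pair_mul_aux _ _ _ _
      (embGL_commute e (revE e) he (revE_injective he) hd _ _)).symm

/-- a block together with its twisted mirror -/
noncomputable def pairGL : GL (Fin r) F →* GL (Fin n) F :=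
  MonoidHom.mk' (fun g => embGL e he g * embGL (revE e) (revE_injective he) (usig φ g))
    (pair_mul φ e he hd)

theorem pairGL_apply (g : GL (Fin r) F) :
    pairGL φ e he hd g = embGL e he g * embGL (revE e) (revE_injective he) (usig φ g) := rfl

include hd in
theorem pairGL_mem_UH (hφ : ∀ x, φ (φ x) = x) (g : GL (Fin r) F) :
    pairGL φ e he hd g ∈ UH n F φ := by
  rw [mem_UH, pairGL_apply, map_mul, usig_embGL, usig_embGL, usig_usig φ hφ]
  have h : embGL (revE (revE e)) (revE_injective (revE_injective he)) g = embGL e he g :=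
    embGL_congr (revE_revE e) _ _ g
  rw [h]
  exact (embGL_commute e (revE e) he (revE_injective he) hd _ _).symm

theorem det_pairGL (g : GL (Fin r) F) :
    ((pairGL φ e he hd g : GL (Fin n) F) : Matrix (Fin n) (Fin n) F).det
      = (g : Matrix (Fin r) (Fin r) F).det
        * φ (((g⁻¹ : GL (Fin r) F) : Matrix (Fin r) (Fin r) F).det) := by
  rw [pairGL_apply, Units.val_mul, Matrix.det_mul, det_embGL, det_embGL, det_usig]

/-- the entries of the pair block on the coordinates of the block -/
theorem pairGL_apply_apply (g : GL (Fin r) F) (i j : Fin r) :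
    ((pairGL φ e he hd g : GL (Fin n) F) : Matrix (Fin n) (Fin n) F) (e i) (e j)
      = (g : Matrix (Fin r) (Fin r) F) i j := by
  rw [pairGL_apply, Units.val_mul, Matrix.mul_apply, Finset.sum_eq_single (e j)]
  · rw [embGL_coe, embGL_coe, emb_apply_apply e he,
      emb_apply_of_not_mem_right (revE e) (revE_injective he) _ _ (fun k => hd j k),
      Matrix.one_apply_eq, mul_one]
  · intro b _ hb
    rw [embGL_coe (revE e), emb_apply_of_not_mem_right (revE e) (revE_injective he) _ _
      (fun k => hd j k), Matrix.one_apply_ne hb, mul_zero]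
  · intro h
    exact absurd (Finset.mem_univ _) h

theorem pairGL_tv (i j : Fin r) (hij : i ≠ j) (c : F) :
    pairGL φ e he hd (tv i j hij c)
      = tv (e i) (e j) (fun h => hij (he h)) c
        * tv (e j).rev (e i).rev (fun h => hij (he (Fin.rev_injective h)).symm) (-(φ c)) := by
  rw [pairGL_apply, embGL_tv, usig_tv, embGL_tv]
  congr 1
  apply tv_congr
  · rw [revE_apply, Fin.rev_rev]
  · rw [revE_apply, Fin.rev_rev]

theorem pairGL_dgU (d : Fin r → Fˣ) :
    pairGL φ e he hd (dgU d)
      = dgU (fun a => extU e d a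
          * extU (revE e) (fun i => Units.map (φ : F →* F) (d i.rev)⁻¹) a) := by
  rw [pairGL_apply, embGL_dgU, usig_dgU, embGL_dgU, dgU_mul]

end pair

/-! ### blocks on mirror-symmetric coordinates -/

theorem embGL_mem_UH {φ : F →+* F} (e : Fin r → Fin n) (he : Function.Injective e)
    (hrev : revE e = e) {g : GL (Fin r) F} (hg : g ∈ UH r F φ) : embGL e he g ∈ UH n F φ := by
  rw [mem_UH, usig_embGL, mem_UH.1 hg]
  exact embGL_congr hrev _ _ g

/-- conjugating an embedded block by a diagonal matrix -/
theorem dgU_conj_embGL (e : Fin r → Fin n) (he : Function.Injective e) (d : Fin n → Fˣ)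
    (g : GL (Fin r) F) :
    dgU d * embGL e he g * (dgU d)⁻¹
      = embGL e he (dgU (fun i => d (e i)) * g * (dgU (fun i => d (e i)))⁻¹) := by
  apply Units.ext
  rw [embGL_coe, eq_emb_iff e he]
  have hent : ∀ (m : ℕ) (D : Fin m → Fˣ) (M : GL (Fin m) F) (x y : Fin m),
      ((dgU D * M * (dgU D)⁻¹ : GL (Fin m) F) : Matrix (Fin m) (Fin m) F) x y
        = (D x : F) * (M : Matrix (Fin m) (Fin m) F) x y * ((D y)⁻¹ : Fˣ) := by
    intro m D M x y
    rw [dgU_inv, Units.val_mul, Units.val_mul, dgU_coe, dgU_coe, Matrix.mul_diagonal,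
      Matrix.diagonal_mul]
  refine ⟨?_, ?_, ?_⟩
  · intro i j
    rw [hent, hent, embGL_coe, emb_apply_apply e he]
  · intro a b ha
    rw [hent, embGL_coe, emb_apply_of_not_mem_left e he _ ha, Matrix.one_apply]
    by_cases hab : a = b
    · subst hab
      rw [if_pos rfl, mul_one, ← Units.val_mul, mul_inv_cancel, Units.val_one]
    · rw [if_neg hab, mul_zero, zero_mul]
  · intro a b hb
    rw [hent, embGL_coe, emb_apply_of_not_mem_right e he _ _ hb, Matrix.one_apply]
    by_cases hab : a = b
    · subst hab
      rw [if_pos rfl, mul_one, ← Units.val_mul, mul_inv_cancel, Units.val_one]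
    · rw [if_neg hab, mul_zero, zero_mul]

end Cfsg.Agent.AutPSU
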