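import Cfsg.Agent.Lib.Lead.TwShapeGen
import Mathlib

/-!
# A chain of linked rank one families: a common field automorphism (lead)
-/

set_option autoImplicit false

namespace Cfsg.Agent.AutPSU

open Cfsg.Agent.TwRankOne Cfsg.Agent.TwRankOne.Shape

variable {k : Type*} [Field k] {G : Type*} [Group G]

/-- **shape on a chain of rank one families**: consecutive families linked through their tori have a
common field automorphism -/
theorem chain_shape [Finite k] {m : ℕ} (R : Fin m → RFam k G) (th : G ≃* G)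
    (hlink : ∀ (j : Fin m) (h : j.1 + 1 < m) (a : k), a ≠ 0 →
      Acts (R ⟨j.1 + 1, h⟩).X ((R j).h a) a⁻¹)
    (hX : ∀ j u, ∃ v, th ((R j).X u) = (R j).X v)
    (hY : ∀ j u, ∃ v, th ((R j).Y u) = (R j).Y v) (hm : 0 < m) :
    ∃ (ψ : k ≃+* k) (c : Fin m → k), ∀ j, c j ≠ 0 ∧
      (∀ t, th ((R j).X t) = (R j).X (c j * ψ t)) ∧
      (∀ t, th ((R j).Y t) = (R j).Y ((c j)⁻¹ * ψ t)) ∧
      (∀ a, a ≠ 0 → th ((R j).h a) = (R j).h (c j * ψ a) * ((R j).h (c j))⁻¹) := by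
  choose φ hφ using hX
  choose γ hγ using hY
  have key : ∀ j, ∃ ψ : k ≃+* k, φ j 1 ≠ 0 ∧ (∀ t, φ j t = φ j 1 * ψ t) ∧
      (∀ t, γ j t = (φ j 1)⁻¹ * ψ t) ∧
      (∀ a, a ≠ 0 → th ((R j).h a) = (R j).h (φ j a) * ((R j).h (φ j 1))⁻¹) :=
    fun j => (R j).shape th (hφ j) (hγ j)
  choose ψ h1 hψ hγψ tor using key
  have step : ∀ (j : Fin m) (h : j.1 + 1 < m), ψ ⟨j.1 + 1, h⟩ = ψ j := by
    intro j h
    apply RingEquiv.ext
    intro a
    exact RFam.link (R j) (R ⟨j.1 + 1, h⟩) (RingHom.id k) (fun a ha => hlink j h a ha) th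
      (hφ ⟨j.1 + 1, h⟩) (ψ j) (ψ ⟨j.1 + 1, h⟩) (h1 j) (hψ j) (h1 _) (hψ _) (tor j) a
  have all : ∀ (i : ℕ) (h : i < m), ψ ⟨i, h⟩ = ψ ⟨0, hm⟩ := by
    intro i
    induction i with
    | zero => intro _; rfl
    | succ i ih =>
      intro h
      rw [step ⟨i, by omega⟩ h]
      exact ih (by omega)
  refine ⟨ψ ⟨0, hm⟩, fun j => φ j 1, fun j => ?_⟩
  have e : ψ j = ψ ⟨0, hm⟩ := all j.1 j.2
  refine ⟨h1 j, fun t => ?_, fun t => ?_, fun a ha => ?_⟩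
  · rw [hφ, hψ j t, e]
  · rw [hγ, hγψ j t, e]
  · rw [tor j a ha, hψ j a, e]

end Cfsg.Agent.AutPSU
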