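import Cfsg.Agent.Lib.Helper8.AutSp.Auts
import Cfsg.Agent.Lib.Helper8.Tw.UTwist
import Cfsg.Agent.Lib.Lead.PSUTransportE
import Mathlib

/-!
# Embedded blocks in the unitary group of the antidiagonal form (lead)

General facts on `embGL` (helper8) against the twisted inverse transpose `usig`, determinants, diagonal
matrices; used to build the rank one subgroups of `SU_N`.
-/

set_option autoImplicit false

namespace Cfsg.Agent.AutPSU

open Matrix Cfsg Cfsg.Agent.Lib.Helper5.GLBN Cfsg.Agent.Lib.Helper8.SpBN
  Cfsg.Agent.Lib.Helper8.Tw Cfsg.Agent.Lib.Helper8.AutSp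
open scoped MatrixGroups

variable {r n : ℕ} {F : Type*} [Field F]

/-- the mirrored coordinate map -/
def revE (e : Fin r → Fin n) : Fin r → Fin n := fun i => (e i.rev).rev

theorem revE_apply (e : Fin r → Fin n) (i : Fin r) : revE e i = (e i.rev).rev := rfl

theorem revE_injective {e : Fin r → Fin n} (he : Function.Injective e) :
    Function.Injective (revE e) := by
  intro i j h
  exact Fin.rev_injective (he (Fin.rev_injective h))

theorem revE_revE (e : Fin r → Fin n) : revE (revE e) = e := by
  funext i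
  simp [revE]

theorem not_mem_revE {e : Fin r → Fin n} {a : Fin n} (ha : ∀ i, a ≠ revE e i) :
    ∀ i, a.rev ≠ e i := by
  intro i h
  apply ha i.rev
  rw [revE_apply, Fin.rev_rev, ← h, Fin.rev_rev]

/-- the twisted inverse transpose of an embedded block -/
theorem usig_embGL (φ : F →+* F) (e : Fin r → Fin n) (he : Function.Injective e)
    (g : GL (Fin r) F) :
    usig φ (embGL e he g) = embGL (revE e) (revE_injective he) (usig φ g) := by
  apply Units.ext
  rw [embGL_coe, eq_emb_iff (revE e) (revE_injective he)]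
  refine ⟨?_, ?_, ?_⟩
  · intro i j
    rw [usig_apply, usig_apply, ← map_inv, embGL_coe, revE_apply, revE_apply, Fin.rev_rev,
      Fin.rev_rev, emb_apply_apply e he]
  · intro a b ha
    rw [usig_apply, ← map_inv, embGL_coe,
      emb_apply_of_not_mem_right e he _ _ (not_mem_revE ha), Matrix.one_apply, Matrix.one_apply]
    by_cases hab : a = b
    · rw [if_pos (by rw [hab]), if_pos hab, map_one]
    · rw [if_neg (fun h => hab (Fin.rev_injective h).symm), if_neg hab, map_zero]
  · intro a b hb
    rw [usig_apply, ← map_inv, embGL_coe,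
      emb_apply_of_not_mem_left e he _ (not_mem_revE hb), Matrix.one_apply, Matrix.one_apply]
    by_cases hab : a = b
    · rw [if_pos (by rw [hab]), if_pos hab, map_one]
    · rw [if_neg (fun h => hab (Fin.rev_injective h).symm), if_neg hab, map_zero]

/-- the determinant of an embedded block -/
theorem det_emb (e : Fin r → Fin n) (he : Function.Injective e) (M : Matrix (Fin r) (Fin r) F) :
    (emb e M).det = M.det := by
  unfold emb
  rw [Matrix.mul_assoc, Matrix.det_one_add_mul_comm, Matrix.mul_assoc, embP_tr_mul e he,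
    Matrix.mul_one, add_sub_cancel]

theorem det_embGL (e : Fin r → Fin n) (he : Function.Injective e) (g : GL (Fin r) F) :
    ((embGL e he g : GL (Fin n) F) : Matrix (Fin n) (Fin n) F).det
      = (g : Matrix (Fin r) (Fin r) F).det := by
  rw [embGL_coe, det_emb e he]

theorem suppOn_embGL (e : Fin r → Fin n) (he : Function.Injective e) (g : GL (Fin r) F) :
    SuppOn (Set.range e) ((embGL e he g : GL (Fin n) F) : Matrix (Fin n) (Fin n) F) := by
  intro i j h
  rw [embGL_coe, ← Matrix.one_apply]
  rcases h with h | h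
  · exact emb_apply_of_not_mem_left e he _ (fun k hk => h ⟨k, hk.symm⟩) j
  · exact emb_apply_of_not_mem_right e he _ i (fun k hk => h ⟨k, hk.symm⟩)

/-- blocks on disjoint coordinates commute -/
theorem embGL_commute (e e' : Fin r → Fin n) (he : Function.Injective e)
    (he' : Function.Injective e') (hd : ∀ i j, e i ≠ e' j) (g g' : GL (Fin r) F) :
    embGL e he g * embGL e' he' g' = embGL e' he' g' * embGL e he g := by
  apply commute_of_suppOn (A := Set.range e) (A' := Set.range e') _ (suppOn_embGL e he g)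
    (suppOn_embGL e' he' g')
  rw [Set.disjoint_left]
  rintro _ ⟨i, rfl⟩ ⟨j, h⟩
  exact hd i j h.symm

/-! ### diagonal matrices -/

theorem dgU_mul {n : ℕ} (d d' : Fin n → Fˣ) : dgU d * dgU d' = dgU (fun i => d i * d' i) := by
  apply Units.ext
  rw [Units.val_mul, dgU_coe, dgU_coe, dgU_coe, Matrix.diagonal_mul_diagonal]
  simp only [Units.val_mul]

theorem dgU_one {n : ℕ} : dgU (fun _ : Fin n => (1 : Fˣ)) = 1 := by
  apply Units.ext
  rw [dgU_coe, Units.val_one]
  simp

/-- conjugating a transvection by a diagonal matrix -/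
theorem dgU_conj_tv {n : ℕ} (d : Fin n → Fˣ) (a b : Fin n) (hab : a ≠ b) (c : F) :
    dgU d * tv a b hab c * (dgU d)⁻¹ = tv a b hab (d a * c * ((d b)⁻¹ : Fˣ)) := by
  rw [mul_inv_eq_iff_eq_mul]
  apply Units.ext
  rw [Units.val_mul, Units.val_mul, dgU_coe, tv_coe, tv_coe]
  ext x y
  rw [Matrix.diagonal_mul, Matrix.mul_diagonal, transvection_apply, transvection_apply]
  have hb : (d b : F) ≠ 0 := Units.ne_zero _
  by_cases h : a = x ∧ b = y
  · obtain ⟨rfl, rfl⟩ := h
    rw [if_neg hab, if_pos ⟨rfl, rfl⟩, if_pos ⟨rfl, rfl⟩, Units.val_inv_eq_inv_val]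
    field_simp
    ring
  · rw [if_neg h, if_neg h]
    simp only [add_zero]
    by_cases hxy : x = y
    · subst hxy
      rw [if_pos rfl, mul_one, one_mul]
    · rw [if_neg hxy, mul_zero, zero_mul]

/-- the twisted inverse transpose of a diagonal matrix -/
theorem usig_dgU {n : ℕ} (φ : F →+* F) (d : Fin n → Fˣ) :
    usig φ (dgU d) = dgU (fun i => Units.map (φ : F →* F) (d i.rev)⁻¹) := by
  apply Units.ext
  ext a b
  rw [usig_apply, dgU_inv, dgU_coe, dgU_coe, Matrix.diagonal_apply, Matrix.diagonal_apply]
  by_cases hab : a = b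
  · subst hab
    rw [if_pos rfl, if_pos rfl]
    rfl
  · rw [if_neg hab, if_neg (fun h => hab (Fin.rev_injective h).symm), map_zero]

/-- a diagonal matrix is unitary iff `d i * φ (d i.rev) = 1` -/
theorem dgU_mem_UH {n : ℕ} {φ : F →+* F} {d : Fin n → Fˣ}
    (hd : ∀ i, (d i : F) * φ (d i.rev) = 1) : dgU d ∈ UH n F φ := by
  rw [mem_UH, usig_dgU]
  congr 1
  funext i
  apply Units.ext
  rw [map_inv, Units.val_inv_eq_inv_val, Units.coe_map]
  exact (eq_inv_of_mul_eq_one_left (hd i)).symm

/-- extending a tuple of units by `1` outside the range of `e` -/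
noncomputable def extU (e : Fin r → Fin n) (d : Fin r → Fˣ) : Fin n → Fˣ :=
  fun a => if h : ∃ i, e i = a then d h.choose else 1

theorem extU_apply {e : Fin r → Fin n} (he : Function.Injective e) (d : Fin r → Fˣ) (i : Fin r) :
    extU e d (e i) = d i := by
  unfold extU
  have h : ∃ j, e j = e i := ⟨i, rfl⟩
  rw [dif_pos h]
  congr 1
  exact he h.choose_spec

theorem extU_of_not_mem {e : Fin r → Fin n} (d : Fin r → Fˣ) {a : Fin n} (ha : ∀ i, a ≠ e i) :
    extU e d a = 1 := by
  unfold extU
  rw [dif_neg]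
  rintro ⟨i, hi⟩
  exact ha i hi.symm

theorem embGL_dgU (e : Fin r → Fin n) (he : Function.Injective e) (d : Fin r → Fˣ) :
    embGL e he (dgU d) = dgU (extU e d) := by
  symm
  apply Units.ext
  rw [embGL_coe, eq_emb_iff e he]
  refine ⟨?_, ?_, ?_⟩
  · intro i j
    rw [dgU_coe, dgU_coe, Matrix.diagonal_apply, Matrix.diagonal_apply, extU_apply he]
    simp only [he.eq_iff]
  · intro a b ha
    rw [dgU_coe, Matrix.diagonal_apply, Matrix.one_apply, extU_of_not_mem d ha, Units.val_one]
  · intro a b hb
    rw [dgU_coe, Matrix.diagonal_apply, Matrix.one_apply]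
    by_cases hab : a = b
    · subst hab
      rw [if_pos rfl, if_pos rfl, extU_of_not_mem d hb, Units.val_one]
    · rw [if_neg hab, if_neg hab]

end Cfsg.Agent.AutPSU
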