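import Cfsg.Agent.Lib.Lead.AutPSU.UNodes
import Mathlib

/-!
# `PSU_N`, `N = 2 j + 4` even: the long node and the shape of an automorphism on the root groups (lead)
-/

set_option autoImplicit false

namespace Cfsg.Agent.AutPSU

open Matrix Cfsg Cfsg.Agent.Lib.Helper5.GLBN Cfsg.Agent.Lib.Helper8.SpBN
  Cfsg.Agent.Lib.Helper8.Tw Cfsg.Agent.Lib.Helper8.AutSp Cfsg.Agent.PSUT
  Cfsg.Agent.TwRankOne Cfsg.Agent.TwRankOne.Shape
open scoped MatrixGroups

variable {N : ℕ} {F : Type*} [Field F] {k : Type*} [Field k]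

/-- the data of the fixed field: an embedding `inc` of a field `k` into the fixed points of `φ` and a
nonzero `z` with `φ z = -z` -/
structure FixData (F : Type*) [Field F] (φ : F →+* F) (k : Type*) [Field k] where
  inc : k →+* F
  hinc : ∀ x, φ (inc x) = inc x
  z : Fˣ
  hz : φ z = -z

namespace Ctx

variable {φ : F →+* F} {Q : Type*} [Group Q] (C : Ctx N F φ Q) (D : FixData F φ k)

theorem long_ne (j : ℕ) (hN : N = 2 * j + 4) :
    ix N (j + 1) (by omega) ≠ (ix N (j + 1) (by omega)).rev :=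
  ix_ne_rev _ _ (by omega)

/-- the block homomorphism of the long node -/
noncomputable def lN (j : ℕ) (hN : N = 2 * j + 4) :
    Matrix.SpecialLinearGroup (Fin 2) k →* ↥(N1 N F φ) :=
  longHom φ D.inc D.hinc D.z D.hz (long_ne j hN)

theorem gl_lN (j : ℕ) (hN : N = 2 * j + 4) (g : Matrix.SpecialLinearGroup (Fin 2) k) :
    gl (lN D j hN g) = longGL D.inc D.z (long_ne j hN) g := rfl

theorem lN_ker (j : ℕ) (hN : N = 2 * j + 4) (g : Matrix.SpecialLinearGroup (Fin 2) k)
    (h : (C.f.comp (lN D j hN)) g = 1) : g = 1 ∨ g = -1 := by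
  obtain ⟨c, hc⟩ := C.f_eq_one h
  exact longGL_scalar D.inc D.z (long_ne j hN) g c hc

/-- the rank one family of the long node -/
noncomputable def RL (j : ℕ) (hN : N = 2 * j + 4) : RFam k Q :=
  RFam.ofSL2 (C.f.comp (lN D j hN)) (C.lN_ker D j hN)

theorem RL_X (j : ℕ) (hN : N = 2 * j + 4) (t : k) :
    (C.RL D j hN).X t = C.f (lN D j hN (upT t)) := rfl
theorem RL_Y (j : ℕ) (hN : N = 2 * j + 4) (t : k) :
    (C.RL D j hN).Y t = C.f (lN D j hN (loT t)) := rfl

theorem RL_h (j : ℕ) (hN : N = 2 * j + 4) (a : k) (ha : a ≠ 0) :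
    (C.RL D j hN).h a = C.f (lN D j hN (dgT a ha)) :=
  RFam.ofSL2_h _ _ a ha

/-- the long node is linked to the last short node -/
theorem link_long (j : ℕ) (hN : N = 2 * j + 4) (a : k) (ha : a ≠ 0) :
    Acts (C.RS j (by omega)).X ((C.RL D j hN).h a) (D.inc a)⁻¹ := by
  intro u
  rw [RL_h _ _ _ _ _ ha, RS_X, RS_X, ← map_mul, ← map_mul]
  congr 1
  apply gl_injective
  rw [gl_mul, gl_mul, gl_sN, gl_sN, gl_lN, longGL_dgT, shortGL_upT, shortGL_upT, ← mul_assoc,
    dgU_mul_tv, mul_assoc, dgU_mul_tv, ← mul_assoc]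
  have hi := long_ne (N := N) j hN
  have e1 : longD (i := ix N (j + 1) (by omega)) D.inc a ha (ix N j (by omega)) = 1 :=
    longD_other D.inc a ha _ (ix_ne _ _ (by omega)) (ix_ne_rev _ _ (by omega))
  have e2 : (longD (i := ix N (j + 1) (by omega)) D.inc a ha (ix N (j + 1) (by omega)) : F)
      = D.inc a := longD_i D.inc hi a ha
  have e3 : (longD (i := ix N (j + 1) (by omega)) D.inc a ha (ix N (j + 1) (by omega)).rev : F)
      = (D.inc a)⁻¹ := longD_i_rev D.inc hi a ha
  have e4 : longD (i := ix N (j + 1) (by omega)) D.inc a ha (ix N j (by omega)).rev = 1 :=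
    longD_other D.inc a ha _ (ix_ne_rev _ _ (by omega)).symm (ix_rev_ne_rev _ _ (by omega))
  have hia : D.inc a ≠ 0 := (map_ne_zero D.inc).2 ha
  congr 2
  · congr 1
    rw [e1, Units.val_inv_eq_inv_val, e2]
    simp [mul_comm]
  · congr 1
    rw [e3, e4]
    simp only [inv_one, Units.val_one, mul_one, map_mul, map_inv₀, D.hinc]
    ring

end Ctx

end Cfsg.Agent.AutPSU
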