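import Cfsg.Agent.Lib.Lead.AutPSU.UEven
import Cfsg.Agent.Lib.Lead.AutPSU.UPhi
import Mathlib

/-!
# `PSU_N`, `N = 2 j + 4`: an automorphism preserving the fundamental root groups agrees on them with a
standard automorphism `g ↦ d ψ(g) d⁻¹` (lead)
-/

set_option autoImplicit false

namespace Cfsg.Agent.AutPSU

open Matrix Cfsg Cfsg.Agent.Lib.Helper5.GLBN Cfsg.Agent.Lib.Helper8.SpBN
  Cfsg.Agent.Lib.Helper8.Tw Cfsg.Agent.Lib.Helper8.AutSp Cfsg.Agent.PSUT
  Cfsg.Agent.TwRankOne Cfsg.Agent.TwRankOne.Shape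
open scoped MatrixGroups

variable {N : ℕ} {F : Type*} [Field F] {k : Type*} [Field k]

namespace Ctx

variable {φ : F →+* F} {Q : Type*} [Group Q] (C : Ctx N F φ Q) (D : FixData F φ k)

theorem even_main [Finite F] [Finite k] (j : ℕ) (hN : N = 2 * j + 4)
    (hcomm : ∀ (ψ : F ≃+* F) (x : F), ψ (φ x) = φ (ψ x))
    (hnorm : ∀ ε : F, φ ε = ε → ε ≠ 0 → ∃ δ : F, δ * φ δ = ε)
    (th : Q ≃* Q)
    (hX : ∀ i (hi : 2 * i + 4 ≤ N) u, ∃ v,
      th (C.f (C.sN i hi (upT u))) = C.f (C.sN i hi (upT v)))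
    (hY : ∀ i (hi : 2 * i + 4 ≤ N) u, ∃ v,
      th (C.f (C.sN i hi (loT u))) = C.f (C.sN i hi (loT v)))
    (hXL : ∀ u, ∃ v, th (C.f (lN D j hN (upT u))) = C.f (lN D j hN (upT v)))
    (hYL : ∀ u, ∃ v, th (C.f (lN D j hN (loT u))) = C.f (lN D j hN (loT v))) :
    ∃ (ψ : F ≃+* F) (d : Fin N → Fˣ) (hd : ∀ i, (d i : F) * φ (d i.rev) = 1),
      (∀ i (hi : 2 * i + 4 ≤ N) t, th (C.f (C.sN i hi (upT t)))
        = C.f (Phi ψ (hcomm ψ) d hd (C.sN i hi (upT t)))) ∧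
      (∀ i (hi : 2 * i + 4 ≤ N) t, th (C.f (C.sN i hi (loT t)))
        = C.f (Phi ψ (hcomm ψ) d hd (C.sN i hi (loT t)))) ∧
      (∀ s, th (C.f (lN D j hN (upT s))) = C.f (Phi ψ (hcomm ψ) d hd (lN D j hN (upT s)))) ∧
      (∀ s, th (C.f (lN D j hN (loT s))) = C.f (Phi ψ (hcomm ψ) d hd (lN D j hN (loT s)))) := by
  classical
  -- the chain of short nodes
  let R : Fin (j + 1) → RFam F Q := fun i => C.RS i.1 (by have := i.2; omega)
  obtain ⟨ψ, c, hc⟩ := chain_shape R th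
    (fun i h a ha => C.link_short i.1 (by omega) a ha)
    (fun i u => hX i.1 (by have := i.2; omega) u)
    (fun i u => hY i.1 (by have := i.2; omega) u) (Nat.succ_pos j)
  -- the long node
  choose φL hφL using hXL
  choose γL hγL using hYL
  obtain ⟨ψ₀, hL1, hLψ, hLγ, hLtor⟩ := (C.RL D j hN).shape th hφL hγL
  -- the link
  have hjj : 2 * j + 4 ≤ N := by omega
  obtain ⟨hcj, hcX, hcY, hctor⟩ := hc ⟨j, Nat.lt_succ_self j⟩
  have hlink : ∀ a : k, ψ (D.inc a) = D.inc (ψ₀ a) := by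
    intro a
    refine RFam.link (C.RL D j hN) (R ⟨j, Nat.lt_succ_self j⟩) D.inc
      (fun a ha => C.link_long D j hN a ha) th (φ' := fun u => c ⟨j, Nat.lt_succ_self j⟩ * ψ u)
      hcX ψ₀ ψ hL1 hLψ ?_ ?_ hLtor a
    · show c ⟨j, Nat.lt_succ_self j⟩ * ψ 1 ≠ 0
      rw [map_one, mul_one]
      exact hcj
    · intro t
      show c ⟨j, Nat.lt_succ_self j⟩ * ψ t = c ⟨j, Nat.lt_succ_self j⟩ * ψ 1 * ψ t
      rw [map_one, mul_one]
  -- the torus correction
  set c₀ : k := φL 1 with hc₀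
  have hψz : ψ (D.z : F) ≠ 0 := (map_ne_zero ψ).2 D.z.ne_zero
  have hic : D.inc c₀ ≠ 0 := (map_ne_zero D.inc).2 hL1
  set ε : F := (D.z : F) * D.inc c₀ / ψ (D.z : F) with hε
  have hε0 : ε ≠ 0 := div_ne_zero (mul_ne_zero D.z.ne_zero hic) hψz
  have hεfix : φ ε = ε := by
    rw [hε, map_div₀, map_mul, D.hz, D.hinc, ← hcomm ψ, D.hz, map_neg]
    field_simp
  obtain ⟨δ, hδ⟩ := hnorm ε hεfix hε0
  have hδ0 : δ ≠ 0 := by
    rintro rfl
    rw [zero_mul] at hδ
    exact hε0 hδ.symm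
  let c' : ℕ → F := fun i => if h : i < j + 1 then c ⟨i, h⟩ else 1
  have hc' : ∀ i (h : i < j + 1), c' i = c ⟨i, h⟩ := fun i h => dif_pos h
  obtain ⟨Dd, hDl, hDs, hD0⟩ := exists_prefix c' δ (j + 2)
  have hDne : ∀ i, i < j + 2 → Dd i ≠ 0 := by
    apply hD0 _ hδ0
    intro i hi
    rw [hc' i (by omega)]
    exact (hc ⟨i, by omega⟩).1
  obtain ⟨d, hd, hdD, -⟩ := exists_diag C.hφ (j + 2) (by omega) Dd hDne
  have hDl' : Dd (j + 1) = δ := hDl
  refine ⟨ψ, d, hd, ?_, ?_, ?_, ?_⟩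
  · intro i hi t
    have hi' : i < j + 1 := by omega
    obtain ⟨-, hX', -, -⟩ := hc ⟨i, hi'⟩
    have := hX' t
    rw [RS_X, RS_X] at this
    rw [this]
    congr 1
    apply gl_injective
    rw [gl_Phi, gl_sN, gl_sN, conj_map_short_up ψ (hcomm ψ) d hd]
    congr 2
    rw [Units.val_inv_eq_inv_val, hdD i (by omega), hdD (i + 1) (by omega), hDs i (by omega),
      hc' i hi']
    have := hDne (i + 1) (by omega)
    field_simp
  · intro i hi t
    have hi' : i < j + 1 := by omega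
    obtain ⟨hci, -, hY', -⟩ := hc ⟨i, hi'⟩
    have := hY' t
    rw [RS_Y, RS_Y] at this
    rw [this]
    congr 1
    apply gl_injective
    rw [gl_Phi, gl_sN, gl_sN, conj_map_short_lo ψ (hcomm ψ) d hd]
    congr 2
    rw [Units.val_inv_eq_inv_val, hdD i (by omega), hdD (i + 1) (by omega), hDs i (by omega),
      hc' i hi']
    have := hDne (i + 1) (by omega)
    field_simp
  · intro s
    have := hφL s
    rw [this]
    congr 1
    apply gl_injective
    rw [gl_Phi, gl_lN, gl_lN, conj_map_long_up, longGL_upT]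
    congr 1
    rw [d_rev_inv d hd, hdD (j + 1) (by omega), hDl', hLψ, map_mul, ← hlink]
    have e : δ * φ δ = (D.z : F) * D.inc c₀ / ψ (D.z : F) := hδ
    field_simp
    field_simp at e
    linear_combination (-(ψ (D.inc s))) * e
  · intro s
    have := hγL s
    rw [this]
    congr 1
    apply gl_injective
    rw [gl_Phi, gl_lN, gl_lN, conj_map_long_lo, longGL_loT]
    congr 1
    rw [d_rev d hd, Units.val_inv_eq_inv_val, hdD (j + 1) (by omega), hDl', hLγ, map_mul,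
      map_inv₀, ← hlink]
    have e : δ * φ δ = (D.z : F) * D.inc c₀ / ψ (D.z : F) := hδ
    have hφδ : φ δ ≠ 0 := (map_ne_zero φ).2 hδ0
    field_simp
    field_simp at e
    linear_combination (ψ (D.inc s)) * e

end Ctx

end Cfsg.Agent.AutPSU
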