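import Cfsg.Agent.Lib.Lead.AutPSU.UModelMain
import Cfsg.Agent.Lib.Helper7.AutPSU.Basic
import Mathlib

/-!
# From the model theorem to the factorisation of the automorphisms of `PSU_n(q)` (lead)
-/

set_option autoImplicit false

namespace Cfsg.Agent.AutPSU

open Matrix Cfsg Cfsg.Agent.Lib.Helper5.GLBN Cfsg.Agent.Lib.Helper8.SpBN
  Cfsg.Agent.Lib.Helper8.Tw Cfsg.Agent.Lib.Helper8.AutSp Cfsg.Agent.PSUT
open scoped MatrixGroups

variable {n : ℕ} {F : Type*} [Field F]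

/-- a base change from the antidiagonal to the standard Hermitian form -/
def IsBC (φ : F →+* F) (A : GL (Fin n) F) : Prop :=
  ∀ x y : Fin n → F,
    Cfsg.Agent.S0277.stdB n φ ((A : Matrix (Fin n) (Fin n) F) *ᵥ x)
      ((A : Matrix (Fin n) (Fin n) F) *ᵥ y) = revB n φ x y

theorem stdB_map (φ : F →+* F) (ψ : F ≃+* F) (hψ : ∀ x, ψ (φ x) = φ (ψ x)) (x y : Fin n → F) :
    Cfsg.Agent.S0277.stdB n φ (fun i => ψ (x i)) (fun i => ψ (y i))
      = ψ (Cfsg.Agent.S0277.stdB n φ x y) := by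
  rw [Cfsg.Agent.S0277.stdB_apply, Cfsg.Agent.S0277.stdB_apply, map_sum]
  apply Finset.sum_congr rfl
  intro i _
  rw [map_mul, hψ]

theorem revB_map (φ : F →+* F) (ψ : F ≃+* F) (hψ : ∀ x, ψ (φ x) = φ (ψ x)) (x y : Fin n → F) :
    revB n φ (fun i => ψ (x i)) (fun i => ψ (y i)) = ψ (revB n φ x y) := by
  rw [revB_apply, revB_apply, map_sum]
  apply Finset.sum_congr rfl
  intro i _
  rw [map_mul, hψ]

theorem glMap_mulVec (ψ : F ≃+* F) (A : GL (Fin n) F) (x : Fin n → F) :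
    ((Matrix.GeneralLinearGroup.map (ψ : F →+* F) A : GL (Fin n) F) :
        Matrix (Fin n) (Fin n) F) *ᵥ x
      = fun i => ψ (((A : Matrix (Fin n) (Fin n) F) *ᵥ (fun j => ψ.symm (x j))) i) := by
  have := map_mulVec (ψ : F →+* F) (A : Matrix (Fin n) (Fin n) F) (fun j => ψ.symm (x j))
  simp only [RingHom.coe_coe, RingEquiv.apply_symm_apply] at this
  rw [this]
  rfl

theorem IsBC.map {φ : F →+* F} {A : GL (Fin n) F} (hA : IsBC φ A) (ψ : F ≃+* F)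
    (hψ : ∀ x, ψ (φ x) = φ (ψ x)) : IsBC φ (Matrix.GeneralLinearGroup.map (ψ : F →+* F) A) := by
  intro x y
  rw [glMap_mulVec, glMap_mulVec, stdB_map φ ψ hψ, hA, ← revB_map φ ψ hψ]
  simp only [RingEquiv.apply_symm_apply]

/-- `A D B⁻¹` preserves the standard form -/
theorem IsBC.pres {φ : F →+* F} {A B D : GL (Fin n) F} (hA : IsBC φ A) (hB : IsBC φ B)
    (hD : D ∈ UH n F φ) (u v : Fin n → F) :
    Cfsg.Agent.S0277.stdB n φ (((A * D * B⁻¹ : GL (Fin n) F) : Matrix (Fin n) (Fin n) F) *ᵥ u)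
      (((A * D * B⁻¹ : GL (Fin n) F) : Matrix (Fin n) (Fin n) F) *ᵥ v)
      = Cfsg.Agent.S0277.stdB n φ u v := by
  have hmul : ∀ u : Fin n → F,
      ((A * D * B⁻¹ : GL (Fin n) F) : Matrix (Fin n) (Fin n) F) *ᵥ u
        = (A : Matrix (Fin n) (Fin n) F) *ᵥ ((D : Matrix (Fin n) (Fin n) F) *ᵥ
          (((B⁻¹ : GL (Fin n) F) : Matrix (Fin n) (Fin n) F) *ᵥ u)) := by
    intro u
    rw [Units.val_mul, Units.val_mul, Matrix.mulVec_mulVec, Matrix.mulVec_mulVec,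
      Matrix.mul_assoc]
  rw [hmul, hmul, hA, (mem_UH_iff_revB D).1 hD, ← hB, GL_mulVec_inv, GL_mulVec_inv]

theorem IsBC.mem_GU {φ : F →+* F} {q : ℕ} (hφ : ∀ x, φ x = x ^ q) {A B D : GL (Fin n) F}
    (hA : IsBC φ A) (hB : IsBC φ B) (hD : D ∈ UH n F φ) : A * D * B⁻¹ ∈ Cfsg.GU n F q := by
  rw [Cfsg.Agent.Lib.H7AutPSU.mem_GU_iff_form]
  intro u v
  rw [← Cfsg.Agent.S0277.stdB_eq_hermForm n φ hφ, ← Cfsg.Agent.S0277.stdB_eq_hermForm n φ hφ]
  exact hA.pres hB hD v u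

end Cfsg.Agent.AutPSU
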