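import Cfsg.Agent.Lib.Lead.AutPSU.UFacA
import Cfsg.Agent.Lib.Lead.PSUTransport
import Mathlib

set_option autoImplicit false

namespace Cfsg.Agent.AutPSU

open Matrix Cfsg Cfsg.Agent.Lib.Helper5.GLBN Cfsg.Agent.Lib.Helper8.SpBN
  Cfsg.Agent.Lib.Helper8.Tw Cfsg.Agent.Lib.Helper8.AutSp Cfsg.Agent.PSUT
open scoped MatrixGroups

variable {n : ℕ} {F : Type*} [Field F] [Fintype F]

section ctx

variable (p m : ℕ) [Fact p.Prime] [CharP F p] (hF : Fintype.card F = (p ^ m) ^ 2) (hn : 1 ≤ n)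
  (A : GL (Fin n) F) (hA : IsBC (frobQ F p m) A)

/-- the equivalence `SU_n(q) ≃ N1` attached to a base change -/
noncomputable def sE : ↥(Cfsg.SU n F (p ^ m)) ≃* ↥(N1 n F (frobQ F p m)) :=
  suEquiv A hA (frobQ_apply p m)

theorem gl_sE (s : ↥(Cfsg.SU n F (p ^ m))) :
    gl (sE p m A hA s) = A⁻¹ * Matrix.SpecialLinearGroup.toGL s.1 * A :=
  suEquiv_coe A hA (frobQ_apply p m) s

/-- the context of `PSU_n(q)` -/
noncomputable def psuCtx : Ctx n F (frobQ F p m) (Cfsg.PSU n F (p ^ m)) where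
  hφ := frobQ_frobQ p m hF
  f := (QuotientGroup.mk' (Subgroup.center ↥(Cfsg.SU n F (p ^ m)))).comp
    (sE p m A hA).symm.toMonoidHom
  hf := by
    intro x
    obtain ⟨s, rfl⟩ := QuotientGroup.mk'_surjective _ x
    exact ⟨sE p m A hA s, by
      rw [MonoidHom.comp_apply, MulEquiv.coe_toMonoidHom, MulEquiv.symm_apply_apply]⟩
  hker := by
    ext g
    rw [MonoidHom.mem_ker, MonoidHom.comp_apply, QuotientGroup.mk'_apply,
      QuotientGroup.eq_one_iff, MulEquiv.coe_toMonoidHom]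
    constructor
    · intro h
      have := mulEquiv_center_of h (sE p m A hA)
      rwa [MulEquiv.apply_symm_apply] at this
    · intro h
      exact mulEquiv_center_of h (sE p m A hA).symm
  hZ := by
    intro g hg
    have h1 : (sE p m A hA).symm g ∈ Subgroup.center ↥(Cfsg.SU n F (p ^ m)) :=
      mulEquiv_center_of hg (sE p m A hA).symm
    obtain ⟨c, hc⟩ := suEquiv_central hF hn A hA (frobQ_apply p m) _ h1
    refine ⟨c, ?_⟩
    have e : suEquiv A hA (frobQ_apply p m) ((sE p m A hA).symm g) = g :=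
      (sE p m A hA).apply_symm_apply g
    rw [e] at hc
    exact hc

theorem psuCtx_f (g : ↥(N1 n F (frobQ F p m))) :
    (psuCtx p m hF hn A hA).f g = QuotientGroup.mk ((sE p m A hA).symm g) := rfl

theorem psuCtx_f_sE (s : ↥(Cfsg.SU n F (p ^ m))) :
    (psuCtx p m hF hn A hA).f (sE p m A hA s) = QuotientGroup.mk s := by
  rw [psuCtx_f, MulEquiv.symm_apply_apply]

end ctx

end Cfsg.Agent.AutPSU
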