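import Cfsg.Agent.Lib.Lead.AutPSU.UShape
import Cfsg.Agent.Lib.Lead.AutPSU.UEven
import Cfsg.Agent.Lib.Lead.PSUTransportA
import Cfsg.Agent.Lib.Helper5.U3Even.Semilin
import Mathlib

/-!
# The field facts for `F` of order `q²` and the Frobenius `x ↦ x ^ q` (lead)
-/

set_option autoImplicit false

namespace Cfsg.Agent.AutPSU

open Cfsg.Agent.PSUT

variable {F : Type*} [Field F] [Fintype F] (p m : ℕ) [Fact p.Prime] [CharP F p]
  (hF : Fintype.card F = (p ^ m) ^ 2)

include hF in
theorem ufieldOK : UFieldOK F (frobQ F p m) := by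
  have hinv := frobQ_frobQ p m hF
  have hne : ∃ a : F, a + frobQ F p m a ≠ 0 := by
    by_contra hcon
    push Not at hcon
    obtain ⟨a, ha⟩ := exists_not_fixed hF
    apply ha
    have h1 := hcon 1
    rw [map_one] at h1
    have h2 := hcon a
    rw [← frobQ_apply]
    have : frobQ F p m a = -a := by linear_combination h2
    rw [this]
    linear_combination (-a) * h1
  obtain ⟨a, ha⟩ := hne
  have hω : (-a / (a + frobQ F p m a)) + frobQ F p m (-a / (a + frobQ F p m a)) = -1 := by
    rw [map_div₀, map_neg, map_add, hinv]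
    have h' : frobQ F p m a + a ≠ 0 := by rwa [add_comm]
    field_simp
    ring
  refine ⟨hinv, ⟨_, hω⟩, ?_, ?_, ?_⟩
  · intro s hs
    refine ⟨-(-a / (a + frobQ F p m a)) * s, ?_⟩
    have h2 : frobQ F p m s = -s := by linear_combination hs
    rw [map_mul, map_neg, h2]
    linear_combination s * hω
  · obtain ⟨b, hb⟩ := exists_not_fixed hF
    exact ⟨b, by rwa [frobQ_apply]⟩
  · intro ψ x
    rw [frobQ_apply, frobQ_apply, map_pow]

include hF in
theorem unorm (ε : F) (hε : frobQ F p m ε = ε) : ∃ δ : F, δ * frobQ F p m δ = ε := by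
  rw [frobQ_apply] at hε
  obtain ⟨k, hk⟩ := Cfsg.Agent.Lib.Helper5.U3Even.exists_norm_eq hF ε hε
  exact ⟨k, by rw [frobQ_apply]; exact hk⟩

/-- the fixed field -/
noncomputable def fixF : Subfield F := (frobQ F p m).eqLocusField (RingHom.id F)

include hF in
/-- the fixed field data -/
noncomputable def fixData : FixData F (frobQ F p m) ↥(fixF (F := F) p m) :=
  let z := Classical.choose (exists_skew hF)
  have hz : z ≠ 0 ∧ z + z ^ (p ^ m) = 0 := Classical.choose_spec (exists_skew hF)
  { inc := (fixF (F := F) p m).subtype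
    hinc := fun x => x.2
    z := Units.mk0 z hz.1
    hz := by
      rw [Units.val_mk0, frobQ_apply]
      linear_combination hz.2 }

include hF in
/-- the elements `l² / φ l` span `F` additively when `q > 2` -/
theorem uspan (hq : 2 < p ^ m) :
    AddSubgroup.closure {μ : F | ∃ l : F, l ≠ 0 ∧ μ = l * l / frobQ F p m l} = ⊤ := by
  classical
  set φ := frobQ F p m with hφd
  have hinv : ∀ x, φ (φ x) = x := frobQ_frobQ p m hF
  set q := p ^ m with hqd
  set ν : F → F := fun l => l * l / φ l with hν
  set M : Set F := {μ : F | ∃ l : F, l ≠ 0 ∧ μ = l * l / φ l} with hM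
  have hνmul : ∀ a b, ν (a * b) = ν a * ν b := by
    intro a b
    simp only [hν, map_mul]
    by_cases ha : φ a = 0
    · simp [ha, (map_eq_zero φ).1 ha]
    by_cases hb : φ b = 0
    · simp [hb, (map_eq_zero φ).1 hb]
    field_simp
  have hfix : ∀ a, φ a = a → ν a = a := by
    intro a ha
    simp only [hν, ha]
    by_cases h0 : a = 0
    · simp [h0]
    field_simp
  -- an element of `M` outside the fixed field
  obtain ⟨l, hl, hlν⟩ : ∃ l : F, l ≠ 0 ∧ φ (ν l) ≠ ν l := by
    by_contra hcon
    push Not at hcon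
    have hall : ∀ x : Fˣ, x ^ (3 * (q - 1)) = 1 := by
      intro x
      have h1 := hcon (x : F) x.ne_zero
      simp only [hν, map_div₀, map_mul, hinv] at h1
      have hx : (x : F) ≠ 0 := x.ne_zero
      have hφx : φ (x : F) ≠ 0 := (map_ne_zero φ).2 hx
      have h2 : φ (x : F) ^ 3 = (x : F) ^ 3 := by
        field_simp at h1
        linear_combination h1
      rw [hφd, frobQ_apply] at h2
      apply Units.ext
      rw [Units.val_pow_eq_pow_val, Units.val_one]
      have h3 : ((x : F) ^ (q - 1)) ^ 3 * (x : F) ^ 3 = 1 * (x : F) ^ 3 := by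
        rw [← mul_pow, ← pow_succ, Nat.sub_add_cancel (by omega), one_mul]
        exact h2
      have h4 := mul_right_cancel₀ (pow_ne_zero 3 hx) h3
      rw [mul_comm, pow_mul]
      exact h4
    have h2 := (FiniteField.forall_pow_eq_one_iff F (3 * (q - 1))).1 hall
    rw [hF] at h2
    have h3 : q ^ 2 - 1 ≤ 3 * (q - 1) := Nat.le_of_dvd (by omega) h2
    have h4 : 3 * q < q ^ 2 + 1 := by nlinarith
    omega
  set μ := ν l with hμ
  have hμne : μ - φ μ ≠ 0 := sub_ne_zero.2 (Ne.symm hlν)
  rw [eq_top_iff]
  intro x _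
  -- `x = α + β μ` with `α, β` fixed
  set β := (x - φ x) / (μ - φ μ) with hβ
  set α := x - β * μ with hα
  have hβfix : φ β = β := by
    simp only [hβ, map_div₀, map_sub, hinv]
    have : φ μ - μ ≠ 0 := sub_ne_zero.2 hlν
    field_simp
    ring
  have hαfix : φ α = α := by
    simp only [hα, map_sub, map_mul, hβfix]
    have : β * (μ - φ μ) = x - φ x := by
      rw [hβ]
      field_simp
    linear_combination this
  have hmemfix : ∀ a, φ a = a → a ∈ AddSubgroup.closure M := by
    intro a ha
    by_cases h0 : a = 0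
    · rw [h0]; exact zero_mem _
    · apply AddSubgroup.subset_closure
      exact ⟨a, h0, (hfix a ha).symm⟩
  have hx : x = α + β * μ := by rw [hα]; ring
  rw [hx]
  apply add_mem (hmemfix α hαfix)
  by_cases h0 : β = 0
  · rw [h0, zero_mul]; exact zero_mem _
  · apply AddSubgroup.subset_closure
    refine ⟨β * l, mul_ne_zero h0 hl, ?_⟩
    have := hνmul β l
    simp only [hν] at this
    rw [this]
    have h5 := hfix β hβfix
    simp only [hν] at h5
    rw [h5]

end Cfsg.Agent.AutPSU
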