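import Cfsg.Agent.Lib.Lead.AutPSU.UFacB
import Cfsg.Agent.Lib.Lead.AutPSU.UField
import Cfsg.Agent.Lib.Helper7.AutPSU.SplitU
import Mathlib

set_option autoImplicit false

namespace Cfsg.Agent.AutPSU

open Matrix Cfsg Cfsg.Agent.Lib.Helper5.GLBN Cfsg.Agent.Lib.Helper8.SpBN
  Cfsg.Agent.Lib.Helper8.Tw Cfsg.Agent.Lib.Helper8.AutSp Cfsg.Agent.PSUT
  Cfsg.Agent.Lib.H7AutPSU Cfsg.Agent.Lib.H7AutPSp
open scoped MatrixGroups

universe u

variable {n : ℕ} {F : Type u} [Field F] [Fintype F]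

section main

variable (p m : ℕ) [Fact p.Prime] [CharP F p] (hF : Fintype.card F = (p ^ m) ^ 2) (hn : 1 ≤ n)
  (A : GL (Fin n) F) (hA : IsBC (frobQ F p m) A)

/-- the key matrix identity -/
theorem key_identity (ψ : F ≃+* F) (hψ : ∀ x, ψ (frobQ F p m x) = frobQ F p m (ψ x))
    (d : Fin n → Fˣ) (hd : ∀ i, (d i : F) * frobQ F p m (d i.rev) = 1)
    (hg0 : A * dgU d * (Matrix.GeneralLinearGroup.map (ψ : F →+* F) A)⁻¹ ∈ Cfsg.GU n F (p ^ m))
    (s : ↥(Cfsg.SU n F (p ^ m))) :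
    (sE p m A hA).symm (Phi ψ hψ d hd (sE p m A hA s))
      = conjSUFun ⟨A * dgU d * (Matrix.GeneralLinearGroup.map (ψ : F →+* F) A)⁻¹, hg0⟩
          (fieldSUFun ψ s) := by
  set t := (sE p m A hA).symm (Phi ψ hψ d hd (sE p m A hA s)) with ht
  have h1 : gl (sE p m A hA t) = gl (Phi ψ hψ d hd (sE p m A hA s)) := by
    rw [ht, MulEquiv.apply_symm_apply]
  rw [gl_sE, gl_Phi, gl_sE, map_mul, map_mul, map_inv] at h1
  have h2 : Matrix.SpecialLinearGroup.toGL t.1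
      = (A * dgU d * (Matrix.GeneralLinearGroup.map (ψ : F →+* F) A)⁻¹)
        * Matrix.GeneralLinearGroup.map (ψ : F →+* F) (Matrix.SpecialLinearGroup.toGL s.1)
        * (A * dgU d * (Matrix.GeneralLinearGroup.map (ψ : F →+* F) A)⁻¹)⁻¹ := by
    have : Matrix.SpecialLinearGroup.toGL t.1
        = A * (A⁻¹ * Matrix.SpecialLinearGroup.toGL t.1 * A) * A⁻¹ := by group
    rw [this, h1]
    group
  apply su_ext
  rw [conjSUFun_val, fieldSUFun_val]
  have h3 := congrArg (fun x : GL (Fin n) F => (x : Matrix (Fin n) (Fin n) F)) h2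
  simp only [Units.val_mul] at h3
  exact h3

end main

/-- **The factorisation, modulo generation of the model by its fundamental root groups.** -/
theorem facU_of_gen (p m : ℕ) [Fact p.Prime] [CharP F p] (hF : Fintype.card F = (p ^ m) ^ 2)
    (hn : 3 ≤ n) (hs : ¬ (n = 3 ∧ p ^ m = 2))
    (hgen : ∀ H : Subgroup ↥(N1 n F (frobQ F p m)),
      (∀ i, i < n / 2 → Cfsg.Agent.Lib.Helper5.AutSU.Xp n F (frobQ F p m) i ≤ H ∧
        Cfsg.Agent.Lib.Helper5.AutSU.Xm n F (frobQ F p m) i ≤ H) → H = ⊤) :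
    FacU n F (p ^ m) := by
  have hinv := frobQ_frobQ p m hF
  have hne : frobQ F p m ≠ RingHom.id F := by
    obtain ⟨a, ha⟩ := exists_not_fixed hF
    intro h
    apply ha
    have := congrArg (fun f : F →+* F => f a) h
    simp only [RingHom.id_apply, frobQ_apply] at this
    exact this
  obtain ⟨A, hA⟩ := exists_baseChange n (frobQ F p m) hne hinv
  have hA' : IsBC (frobQ F p m) A := hA
  set C := psuCtx p m hF (by omega) A hA' with hC
  have C5 : Cfsg.Agent.Lib.Helper5.AutSU.Ctx n F (frobQ F p m) (p ^ m) :=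
    ⟨hn, hF, frobQ_apply p m⟩
  have K := ufieldOK p m hF
  have hD : FixSurj (fixData p m hF) := ⟨fun x hx => ⟨⟨x, hx⟩, rfl⟩⟩
  have hq2 := two_le_q hF
  intro β
  obtain ⟨x, ψ, d, hd, hβ⟩ := C.model_aut p C5 (fixData p m hF) hD K
    (fun ε hε _ => unorm p m hF ε hε)
    (fun h3 => uspan p m hF (by
      have : p ^ m ≠ 2 := fun h => hs ⟨h3, h⟩
      omega))
    hgen β
  obtain ⟨sx, rfl⟩ := QuotientGroup.mk_surjective x
  have hg0 : A * dgU d * (Matrix.GeneralLinearGroup.map (ψ : F →+* F) A)⁻¹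
      ∈ Cfsg.GU n F (p ^ m) :=
    IsBC.mem_GU (frobQ_apply p m) hA' (hA'.map ψ (K.comm ψ)) (dgU_mem_UH hd)
  refine ⟨toGU sx * ⟨_, hg0⟩, ψ, ?_⟩
  apply autC_ext
  intro s
  have e1 : (prC s : Cfsg.PSU n F (p ^ m)) = C.f (sE p m A hA' s) :=
    (psuCtx_f_sE p m hF (by omega) A hA' s).symm
  rw [e1, hβ, map_mul, MulAut.mul_apply, MulAut.mul_apply, ← e1, PhU_pr, DhU_pr, DhU_toGU,
    MulAut.conj_apply, psuCtx_f, key_identity p m A hA' ψ (K.comm ψ) d hd hg0 s]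
  rfl

end Cfsg.Agent.AutPSU
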