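import Cfsg.Agent.Lib.Lead.AutPSU.UShort
import Mathlib

/-!
# The rank one subgroup `SL₂(F₀)` of `SU_N` on a coordinate and its mirror (lead)

`F₀` is given as a field `k` with an embedding `inc : k →+* F` into the fixed points of `φ`;
`z` is a nonzero element with `φ z = -z`.  The block is `g ↦ diag(z,1) g diag(z,1)⁻¹` on `i, i.rev`.
-/

set_option autoImplicit false

namespace Cfsg.Agent.AutPSU

open Matrix Cfsg Cfsg.Agent.Lib.Helper5.GLBN Cfsg.Agent.Lib.Helper8.SpBN
  Cfsg.Agent.Lib.Helper8.Tw Cfsg.Agent.Lib.Helper8.AutSp Cfsg.Agent.PSUT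
open scoped MatrixGroups

variable {n : ℕ} {F : Type*} [Field F] {k : Type*} [Field k]

theorem map_coe_apply (inc : k →+* F) (g : Matrix.SpecialLinearGroup (Fin 2) k) (i j : Fin 2) :
    (Matrix.SpecialLinearGroup.map inc g).1 i j = inc (g.1 i j) := by
  rw [Matrix.SpecialLinearGroup.map_apply_coe]
  rfl

section long2

variable (inc : k →+* F) (z : Fˣ)

/-- `g ↦ diag(z,1) g diag(z,1)⁻¹` on `SL₂(k)` -/
noncomputable def longGL2 : Matrix.SpecialLinearGroup (Fin 2) k →* GL (Fin 2) F :=
  (MulAut.conj (dgU ![z, 1] : GL (Fin 2) F)).toMonoidHom.comp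
    (Matrix.SpecialLinearGroup.toGL.comp (Matrix.SpecialLinearGroup.map inc))

theorem longGL2_apply (g : Matrix.SpecialLinearGroup (Fin 2) k) :
    longGL2 inc z g = dgU ![z, 1]
      * Matrix.SpecialLinearGroup.toGL (Matrix.SpecialLinearGroup.map inc g)
      * (dgU ![z, 1])⁻¹ := rfl

theorem longGL2_val (g : Matrix.SpecialLinearGroup (Fin 2) k) :
    ((longGL2 inc z g : GL (Fin 2) F) : Matrix (Fin 2) (Fin 2) F)
      = !![inc (g.1 0 0), z * inc (g.1 0 1); (z : F)⁻¹ * inc (g.1 1 0), inc (g.1 1 1)] := by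
  rw [longGL2_apply, dgU_inv, Units.val_mul, Units.val_mul, dgU_coe, dgU_coe,
    Matrix.SpecialLinearGroup.coe_GL_coe_matrix]
  ext i j
  rw [Matrix.mul_diagonal, Matrix.diagonal_mul, map_coe_apply]
  fin_cases i <;> fin_cases j <;> simp [mul_comm]

theorem det_longGL2 (g : Matrix.SpecialLinearGroup (Fin 2) k) :
    ((longGL2 inc z g : GL (Fin 2) F) : Matrix (Fin 2) (Fin 2) F).det = 1 := by
  rw [longGL2_apply, Units.val_mul, Units.val_mul, Matrix.det_mul, Matrix.det_mul,
    Matrix.SpecialLinearGroup.coe_GL_coe_matrix, (Matrix.SpecialLinearGroup.map inc g).2,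
    mul_one, ← Matrix.det_mul, ← Units.val_mul, mul_inv_cancel, Units.val_one, Matrix.det_one]

theorem longGL2_mem_UH {φ : F →+* F} (hinc : ∀ x, φ (inc x) = inc x) (hz : φ z = -z)
    (g : Matrix.SpecialLinearGroup (Fin 2) k) : longGL2 inc z g ∈ UH 2 F φ := by
  rw [mem_UH_iff]
  intro a b
  rw [← map_inv, longGL2_val, longGL2_val, Matrix.SpecialLinearGroup.coe_inv,
    Matrix.adjugate_fin_two]
  have hz' : φ ((z : F)⁻¹) = -(z : F)⁻¹ := by rw [map_inv₀, hz, inv_neg]
  fin_cases a <;> fin_cases b <;> simp [hinc, hz, hz']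

theorem longGL2_upT (s : k) : longGL2 inc z (upT s) = tv (0 : Fin 2) 1 (by decide) (z * inc s) := by
  have h : Matrix.SpecialLinearGroup.map inc (upT s) = upT (inc s) := by
    apply Subtype.ext
    ext i j
    rw [map_coe_apply]
    fin_cases i <;> fin_cases j <;> simp [upT]
  rw [longGL2_apply, h, toGL_upT, dgU_conj_tv]
  simp

theorem longGL2_loT (s : k) :
    longGL2 inc z (loT s) = tv (1 : Fin 2) 0 (by decide) ((z : F)⁻¹ * inc s) := by
  have h : Matrix.SpecialLinearGroup.map inc (loT s) = loT (inc s) := by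
    apply Subtype.ext
    ext i j
    rw [map_coe_apply]
    fin_cases i <;> fin_cases j <;> simp [loT]
  rw [longGL2_apply, h, toGL_loT, dgU_conj_tv]
  congr 1
  simp [mul_comm]

theorem longGL2_dgT (a : k) (ha : a ≠ 0) :
    longGL2 inc z (dgT a ha)
      = dgU ![Units.mk0 (inc a) ((map_ne_zero inc).2 ha),
          (Units.mk0 (inc a) ((map_ne_zero inc).2 ha))⁻¹] := by
  have h : Matrix.SpecialLinearGroup.map inc (dgT a ha)
      = dgT (inc a) ((map_ne_zero inc).2 ha) := by
    apply Subtype.ext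
    ext i j
    rw [map_coe_apply]
    fin_cases i <;> fin_cases j <;> simp [dgT]
  rw [longGL2_apply, h, toGL_dgT, dgU_mul, dgU_inv, dgU_mul]
  congr 1
  funext i
  rw [mul_comm, ← mul_assoc, inv_mul_cancel, one_mul]

end long2

/-- a coordinate different from its mirror: the block `![i, i.rev]` -/
def eL (i : Fin n) : Fin 2 → Fin n := ![i, i.rev]

theorem eL_inj {i : Fin n} (hi : i ≠ i.rev) : Function.Injective (eL i) := by
  intro a b h
  fin_cases a <;> fin_cases b <;> simp [eL] at h ⊢
  · exact hi h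
  · exact hi h.symm

theorem revE_eL (i : Fin n) : revE (eL i) = eL i := by
  funext a
  fin_cases a
  · show ((eL i) (Fin.rev 0)).rev = _
    simp [eL]
  · show ((eL i) (Fin.rev 1)).rev = _
    simp [eL]

section long

variable (φ : F →+* F) (inc : k →+* F) (hinc : ∀ x, φ (inc x) = inc x) (z : Fˣ) (hz : φ z = -z)
  {i : Fin n} (hi : i ≠ i.rev)

/-- the block homomorphism on `SL₂(k)`, into `GL_N` -/
noncomputable def longGL : Matrix.SpecialLinearGroup (Fin 2) k →* GL (Fin n) F :=
  (embGL (eL i) (eL_inj hi)).comp (longGL2 inc z)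

theorem longGL_apply (g : Matrix.SpecialLinearGroup (Fin 2) k) :
    longGL inc z hi g = embGL (eL i) (eL_inj hi) (longGL2 inc z g) := rfl

include hinc hz in
theorem longGL_mem_UH (g : Matrix.SpecialLinearGroup (Fin 2) k) :
    longGL inc z hi g ∈ UH n F φ :=
  embGL_mem_UH (eL i) (eL_inj hi) (revE_eL i) (longGL2_mem_UH inc z hinc hz g)

theorem det_longGL (g : Matrix.SpecialLinearGroup (Fin 2) k) :
    ((longGL inc z hi g : GL (Fin n) F) : Matrix (Fin n) (Fin n) F).det = 1 := by
  rw [longGL_apply, det_embGL, det_longGL2]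

/-- the block homomorphism `SL₂(k) →* SU_N` -/
noncomputable def longHom : Matrix.SpecialLinearGroup (Fin 2) k →* ↥(N1 n F φ) :=
  ((longGL inc z hi).codRestrict (UH n F φ) (longGL_mem_UH φ inc hinc z hz hi)).codRestrict
    (N1 n F φ) (by
      intro g
      rw [mem_N1]
      exact det_longGL inc z hi g)

theorem longHom_coe (g : Matrix.SpecialLinearGroup (Fin 2) k) :
    (((longHom φ inc hinc z hz hi g : ↥(N1 n F φ)) : ↥(UH n F φ)) : GL (Fin n) F)
      = longGL inc z hi g := rfl

theorem longGL_upT (s : k) : longGL inc z hi (upT s) = tv i i.rev hi (z * inc s) := by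
  rw [longGL_apply, longGL2_upT, embGL_tv]
  rfl

theorem longGL_loT (s : k) :
    longGL inc z hi (loT s) = tv i.rev i hi.symm ((z : F)⁻¹ * inc s) := by
  rw [longGL_apply, longGL2_loT, embGL_tv]
  rfl

/-- the diagonal entries of the torus element -/
noncomputable def longD (a : k) (ha : a ≠ 0) : Fin n → Fˣ :=
  extU (eL i) ![Units.mk0 (inc a) ((map_ne_zero inc).2 ha),
          (Units.mk0 (inc a) ((map_ne_zero inc).2 ha))⁻¹]

theorem longGL_dgT (a : k) (ha : a ≠ 0) :
    longGL inc z hi (dgT a ha) = dgU (longD (i := i) inc a ha) := by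
  rw [longGL_apply, longGL2_dgT, embGL_dgU]
  rfl

include hi in
theorem longD_i (a : k) (ha : a ≠ 0) : (longD (i := i) inc a ha i : F) = inc a := by
  unfold longD
  have h1 := extU_apply (eL_inj hi) ![Units.mk0 (inc a) ((map_ne_zero inc).2 ha),
          (Units.mk0 (inc a) ((map_ne_zero inc).2 ha))⁻¹] 0
  have h2 : eL i 0 = i := rfl
  rw [h2] at h1
  rw [h1]
  rfl

include hi in
theorem longD_i_rev (a : k) (ha : a ≠ 0) :
    (longD (i := i) inc a ha i.rev : F) = (inc a)⁻¹ := by
  unfold longD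
  have h1 := extU_apply (eL_inj hi) ![Units.mk0 (inc a) ((map_ne_zero inc).2 ha),
          (Units.mk0 (inc a) ((map_ne_zero inc).2 ha))⁻¹] 1
  have h2 : eL i 1 = i.rev := rfl
  rw [h2] at h1
  rw [h1]
  simp

theorem longD_other (a : k) (ha : a ≠ 0) (x : Fin n) (h0 : x ≠ i) (h1 : x ≠ i.rev) :
    longD (i := i) inc a ha x = 1 := by
  unfold longD
  rw [extU_of_not_mem]
  intro j
  fin_cases j
  · exact h0
  · exact h1

/-- an element of the block that is a scalar matrix is `±1` -/
theorem longGL_scalar (g : Matrix.SpecialLinearGroup (Fin 2) k) (c : F)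
    (h : ((longGL inc z hi g : GL (Fin n) F) : Matrix (Fin n) (Fin n) F)
      = Matrix.diagonal fun _ => c) :
    g = 1 ∨ g = -1 := by
  have hent : ∀ a b, ((longGL2 inc z g : GL (Fin 2) F) : Matrix (Fin 2) (Fin 2) F) a b
      = if a = b then c else 0 := by
    intro a b
    have := emb_apply_apply (eL i) (eL_inj hi)
      ((longGL2 inc z g : GL (Fin 2) F) : Matrix (Fin 2) (Fin 2) F) a b
    rw [← embGL_coe (eL i) (eL_inj hi), ← longGL_apply inc z hi, h, Matrix.diagonal_apply] at this
    rw [← this]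
    simp only [(eL_inj hi).eq_iff]
  rw [longGL2_val] at hent
  have h00 : inc (g.1 0 0) = c := by simpa using hent 0 0
  have h01 : (z : F) * inc (g.1 0 1) = 0 := by simpa using hent 0 1
  have h10 : (z : F)⁻¹ * inc (g.1 1 0) = 0 := by simpa using hent 1 0
  have h11 : inc (g.1 1 1) = c := by simpa using hent 1 1
  have hdet := g.2
  rw [Matrix.det_fin_two] at hdet
  have hinj := inc.injective
  have e01 : g.1 0 1 = 0 := by
    rcases mul_eq_zero.1 h01 with h' | h'
    · exact absurd h' z.ne_zero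
    · exact hinj (by rw [h', map_zero])
  have e10 : g.1 1 0 = 0 := by
    rcases mul_eq_zero.1 h10 with h' | h'
    · exact absurd h' (inv_ne_zero z.ne_zero)
    · exact hinj (by rw [h', map_zero])
  have e11 : g.1 1 1 = g.1 0 0 := hinj (by rw [h11, h00])
  rw [e01, e10, e11] at hdet
  have hc : g.1 0 0 = 1 ∨ g.1 0 0 = -1 := by
    have : (g.1 0 0 - 1) * (g.1 0 0 + 1) = 0 := by linear_combination hdet
    rcases mul_eq_zero.1 this with h | h
    · left; linear_combination h
    · right; linear_combination h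
  rcases hc with hc | hc
  · left
    apply Subtype.ext
    ext a b
    fin_cases a <;> fin_cases b <;> simp [e01, e10, e11, hc]
  · right
    apply Subtype.ext
    ext a b
    fin_cases a <;> fin_cases b <;> simp [e01, e10, e11, hc]

end long

end Cfsg.Agent.AutPSU
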