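import Mathlib

/-!
# Automorphisms on a family of unitary type (lead)

`UFam F σ G` : a family `X a b` (`b + σ b + a σ a = 0`) in a group `G` with the product law of the root
subgroups of type `²A₂` of the unitary groups.  `UFam.shape` : an automorphism preserving the family and
compatible with torus elements acting through `(μ, μ σ μ)`, `μ` in an additively spanning set, is
`X a b ↦ X (c ψ a) (c σ(c) ψ b)` for a field automorphism `ψ`.
-/

set_option autoImplicit false

namespace Cfsg.Agent.AutPSU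

variable {F : Type*} [Field F] {G : Type*} [Group G]

/-- the parameters of the root elements of unitary type -/
def UPair (σ : F →+* F) (a b : F) : Prop := b + σ b + a * σ a = 0

/-- a family of unitary type -/
structure UFam (F : Type*) [Field F] (σ : F →+* F) (G : Type*) [Group G] where
  X : F → F → G
  X_mul : ∀ a b a' b', UPair σ a b → UPair σ a' b' →
    X a b * X a' b' = X (a + a') (b + b' - a * σ a')
  X_inj : ∀ a b a' b', UPair σ a b → UPair σ a' b' → X a b = X a' b' → a = a' ∧ b = b'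

/-- the field facts used -/
structure UFieldOK (F : Type*) [Field F] (σ : F →+* F) : Prop where
  invol : ∀ x, σ (σ x) = x
  omega : ∃ ω : F, ω + σ ω = -1
  skew : ∀ s : F, s + σ s = 0 → ∃ a : F, s = a - σ a
  nontriv : ∃ x : F, σ x ≠ x
  comm : ∀ (ψ : F ≃+* F) (x : F), ψ (σ x) = σ (ψ x)

variable {σ : F →+* F}

theorem UPair.zero : UPair σ (0 : F) 0 := by simp [UPair]

theorem UPair.mul {a b a' b' : F} (Q : UFieldOK F σ) (h : UPair σ a b) (h' : UPair σ a' b') :
    UPair σ (a + a') (b + b' - a * σ a') := by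
  unfold UPair at *
  simp only [map_add, map_sub, map_mul, Q.invol]
  linear_combination h + h'

theorem UPair.center {s : F} : UPair σ 0 s ↔ s + σ s = 0 := by
  unfold UPair
  rw [zero_mul, add_zero]

theorem UPair.base (Q : UFieldOK F σ) {ω : F} (hω : ω + σ ω = -1) (a : F) :
    UPair σ a (ω * (a * σ a)) := by
  unfold UPair
  simp only [map_mul, Q.invol]
  linear_combination (a * σ a) * hω

theorem UPair.smul (Q : UFieldOK F σ) {a b : F} (h : UPair σ a b) (μ : F) :
    UPair σ (μ * a) (μ * σ μ * b) := by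
  unfold UPair at *
  simp only [map_mul, Q.invol]
  linear_combination (μ * σ μ) * h

theorem UPair.sub_skew {a b b' : F} (h : UPair σ a b) (h' : UPair σ a b') :
    (b' - b) + σ (b' - b) = 0 := by
  unfold UPair at *
  simp only [map_sub]
  linear_combination h' - h

namespace UFam

variable (S : UFam F σ G)

theorem X_zero : S.X 0 0 = 1 := by
  have h := S.X_mul 0 0 0 0 UPair.zero UPair.zero
  simp only [add_zero, zero_mul, sub_zero] at h
  exact mul_eq_left.1 h

/-- **shape of an automorphism on a family of unitary type** -/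
theorem shape [Finite F] (Q : UFieldOK F σ) (th : G ≃* G)
    (hpres : ∀ a b, UPair σ a b → ∃ a' b', UPair σ a' b' ∧ th (S.X a b) = S.X a' b')
    (M : Set F) (hspan : AddSubgroup.closure M = ⊤) (h : F → G) (m : F → F)
    (hact : ∀ μ ∈ M, ∀ a b, UPair σ a b →
      h μ * S.X a b * (h μ)⁻¹ = S.X (μ * a) (μ * σ μ * b))
    (hh : ∀ μ ∈ M, ∀ a b, UPair σ a b →
      th (h μ) * S.X a b * (th (h μ))⁻¹ = S.X (m μ * a) (m μ * σ (m μ) * b)) :
    ∃ (ψ : F ≃+* F) (c : F), c ≠ 0 ∧ (∀ μ ∈ M, ψ μ = m μ) ∧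
      ∀ a b, UPair σ a b → th (S.X a b) = S.X (c * ψ a) (c * σ c * ψ b) := by
  classical
  have hpres' : ∀ a b, ∃ a' b', UPair σ a b → (UPair σ a' b' ∧ th (S.X a b) = S.X a' b') := by
    intro a b
    by_cases hab : UPair σ a b
    · obtain ⟨a', b', h1, h2⟩ := hpres a b hab
      exact ⟨a', b', fun _ => ⟨h1, h2⟩⟩
    · exact ⟨0, 0, fun h => absurd h hab⟩
  choose φ η hφη using hpres'
  obtain ⟨ω, hω⟩ := Q.omega
  set b₀ : F → F := fun a => ω * (a * σ a) with hb₀
  have hb : ∀ a, UPair σ a (b₀ a) := fun a => UPair.base Q hω a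
  -- multiplicativity
  have Mul : ∀ a b a' b', UPair σ a b → UPair σ a' b' →
      φ (a + a') (b + b' - a * σ a') = φ a b + φ a' b' ∧
      η (a + a') (b + b' - a * σ a') = η a b + η a' b' - φ a b * σ (φ a' b') := by
    intro a b a' b' hab hab'
    have h3 := UPair.mul Q hab hab'
    apply S.X_inj _ _ _ _ (hφη _ _ h3).1 (UPair.mul Q (hφη _ _ hab).1 (hφη _ _ hab').1)
    rw [← (hφη _ _ h3).2, ← S.X_mul _ _ _ _ hab hab', map_mul, (hφη _ _ hab).2, (hφη _ _ hab').2,
      S.X_mul _ _ _ _ (hφη _ _ hab).1 (hφη _ _ hab').1]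
  -- the centre
  have hφ0 : ∀ s, s + σ s = 0 → φ 0 s = 0 := by
    intro s hs
    obtain ⟨a', rfl⟩ := Q.skew s hs
    have hA := hb 1
    have hB := hb a'
    have hC : UPair σ 0 (a' - σ a') := UPair.center.2 hs
    have hBA := UPair.mul Q hB hA
    have h1 := (Mul 1 (b₀ 1) a' (b₀ a') hA hB).1
    have h2 := (Mul a' (b₀ a') 1 (b₀ 1) hB hA).1
    have h3 := (Mul 0 (a' - σ a') (a' + 1) (b₀ a' + b₀ 1 - a' * σ 1) hC hBA).1
    have e1 : (0 : F) + (a' + 1) = 1 + a' := by ring
    have e2 : (a' - σ a') + (b₀ a' + b₀ 1 - a' * σ 1) - 0 * σ (a' + 1)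
        = b₀ 1 + b₀ a' - 1 * σ a' := by
      rw [map_one]; ring
    rw [e1, e2, h1, h2] at h3
    linear_combination -h3
  set f : F → F := fun a => φ a (b₀ a) with hf
  have hφf : ∀ a b, UPair σ a b → φ a b = f a := by
    intro a b hab
    have hs := UPair.sub_skew (hb a) hab
    have hC : UPair σ 0 (b - b₀ a) := UPair.center.2 hs
    have h1 := (Mul a (b₀ a) 0 (b - b₀ a) (hb a) hC).1
    have e1 : a + 0 = a := add_zero a
    have e2 : b₀ a + (b - b₀ a) - a * σ 0 = b := by rw [map_zero]; ring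
    rw [e1, e2, hφ0 _ hs, add_zero] at h1
    exact h1
  have fadd : ∀ a a', f (a + a') = f a + f a' := by
    intro a a'
    have h1 := (Mul a (b₀ a) a' (b₀ a') (hb a) (hb a')).1
    rw [hφf _ _ (UPair.mul Q (hb a) (hb a'))] at h1
    exact h1
  have f0 : f 0 = 0 := by
    have := fadd 0 0
    rw [add_zero] at this
    exact left_eq_add.1 this
  have fneg : ∀ a, f (-a) = -f a := by
    intro a
    have := fadd a (-a)
    rw [add_neg_cancel, f0] at this
    exact eq_neg_of_add_eq_zero_right this.symm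
  -- the torus
  have T : ∀ μ ∈ M, ∀ a b, UPair σ a b → f (μ * a) = m μ * f a ∧
      η (μ * a) (μ * σ μ * b) = m μ * σ (m μ) * η a b := by
    intro μ hμ a b hab
    have h1 := congrArg th (hact μ hμ a b hab)
    have hab' := UPair.smul Q hab μ
    rw [map_mul, map_mul, map_inv, (hφη _ _ hab).2, (hφη _ _ hab').2,
      hh μ hμ _ _ (hφη _ _ hab).1] at h1
    have := S.X_inj _ _ _ _ (UPair.smul Q (hφη _ _ hab).1 (m μ)) (hφη _ _ hab').1 h1
    rw [hφf _ _ hab', hφf _ _ hab] at this
    exact ⟨this.1.symm, this.2.symm⟩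
  -- `f` is not zero
  have hfne : ∃ a, f a ≠ 0 := by
    by_contra hcon
    push Not at hcon
    obtain ⟨x, hx⟩ := Q.nontriv
    have hA := hb 1
    have hB := hb x
    have hφA : φ 1 (b₀ 1) = 0 := hcon 1
    have hφB : φ x (b₀ x) = 0 := hcon x
    have hA' := (hφη _ _ hA).1
    have hB' := (hφη _ _ hB).1
    rw [hφA] at hA'
    rw [hφB] at hB'
    have e : th (S.X 1 (b₀ 1) * S.X x (b₀ x)) = th (S.X x (b₀ x) * S.X 1 (b₀ 1)) := by
      rw [map_mul, map_mul, (hφη _ _ hA).2, (hφη _ _ hB).2, hφA, hφB,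
        S.X_mul _ _ _ _ hA' hB', S.X_mul _ _ _ _ hB' hA']
      congr 1
      ring
    have e' := th.injective e
    rw [S.X_mul _ _ _ _ hA hB, S.X_mul _ _ _ _ hB hA] at e'
    have := (S.X_inj _ _ _ _ (UPair.mul Q hA hB) (UPair.mul Q hB hA) e').2
    rw [map_one] at this
    apply hx
    linear_combination -this
  set c : F := f 1 with hc
  have hfM : ∀ μ ∈ M, f μ = m μ * c := by
    intro μ hμ
    have := (T μ hμ 1 (b₀ 1) (hb 1)).1
    rwa [mul_one] at this
  have c0 : c ≠ 0 := by
    intro hc0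
    have hall : ∀ y, f y = 0 := by
      intro y
      have hy : y ∈ AddSubgroup.closure M := by rw [hspan]; trivial
      induction hy using AddSubgroup.closure_induction with
      | mem μ hμ => rw [hfM μ hμ, hc0, mul_zero]
      | zero => exact f0
      | add x y _ _ hx hy => rw [fadd, hx, hy, add_zero]
      | neg x _ hx => rw [fneg, hx, neg_zero]
    obtain ⟨a, ha⟩ := hfne
    exact ha (hall a)
  have ψmul : ∀ y x, c⁻¹ * f (y * x) = (c⁻¹ * f y) * (c⁻¹ * f x) := by
    intro y x
    have hy : y ∈ AddSubgroup.closure M := by rw [hspan]; trivial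
    induction hy using AddSubgroup.closure_induction with
    | mem μ hμ =>
      rw [(T μ hμ x (b₀ x) (hb x)).1, hfM μ hμ]
      field_simp
    | zero => rw [zero_mul, f0, mul_zero, zero_mul]
    | add y y' _ _ hy hy' => rw [add_mul, fadd, fadd, mul_add, hy, hy']; ring
    | neg y _ hy => rw [neg_mul, fneg, fneg, mul_neg, hy]; ring
  let ψr : F →+* F :=
    { toFun := fun x => c⁻¹ * f x
      map_one' := inv_mul_cancel₀ c0
      map_mul' := ψmul
      map_zero' := by rw [f0, mul_zero]
      map_add' := fun x y => by rw [fadd, mul_add] }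
  have hbij : Function.Bijective ψr := Finite.injective_iff_bijective.1 ψr.injective
  let ψ : F ≃+* F := RingEquiv.ofBijective ψr hbij
  have hfψ : ∀ x, f x = c * ψ x := by
    intro x
    show f x = c * (c⁻¹ * f x)
    rw [mul_inv_cancel_left₀ c0]
  have hψM : ∀ μ ∈ M, ψ μ = m μ := by
    intro μ hμ
    show c⁻¹ * f μ = m μ
    rw [hfM μ hμ]
    field_simp
  -- the second parameter on the centre
  have hg : ∀ s, s + σ s = 0 → η 0 s = c * σ c * ψ s := by
    intro s hs
    obtain ⟨a', rfl⟩ := Q.skew s hs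
    have hA := hb 1
    have hB := hb a'
    have hC : UPair σ 0 (a' - σ a') := UPair.center.2 hs
    have hBA := UPair.mul Q hB hA
    have h1 := (Mul 1 (b₀ 1) a' (b₀ a') hA hB).2
    have h2 := (Mul a' (b₀ a') 1 (b₀ 1) hB hA).2
    have h3 := (Mul 0 (a' - σ a') (a' + 1) (b₀ a' + b₀ 1 - a' * σ 1) hC hBA).2
    have e1 : (0 : F) + (a' + 1) = 1 + a' := by ring
    have e2 : (a' - σ a') + (b₀ a' + b₀ 1 - a' * σ 1) - 0 * σ (a' + 1)
        = b₀ 1 + b₀ a' - 1 * σ a' := by
      rw [map_one]; ring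
    have hf1 : φ 1 (b₀ 1) = c := rfl
    have hfa : φ a' (b₀ a') = c * ψ a' := hfψ a'
    rw [e1, e2, h1, h2, hφ0 _ hs, zero_mul, sub_zero, hf1, hfa] at h3
    rw [map_sub, Q.comm]
    simp only [map_mul] at h3
    linear_combination -h3
  set ε : F → F := fun a => η a (b₀ a) - c * σ c * ψ (b₀ a) with hε
  have hη : ∀ a b, UPair σ a b → η a b = ε a + c * σ c * ψ b := by
    intro a b hab
    have hs := UPair.sub_skew (hb a) hab
    have hC : UPair σ 0 (b - b₀ a) := UPair.center.2 hs
    have h1 := (Mul a (b₀ a) 0 (b - b₀ a) (hb a) hC).2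
    have e1 : a + 0 = a := add_zero a
    have e2 : b₀ a + (b - b₀ a) - a * σ 0 = b := by rw [map_zero]; ring
    rw [e1, e2, hφ0 _ hs, map_zero, mul_zero, sub_zero, hg _ hs, map_sub] at h1
    rw [h1, hε]
    ring
  have εadd : ∀ a a', ε (a + a') = ε a + ε a' := by
    intro a a'
    have hP := UPair.mul Q (hb a) (hb a')
    have h1 := (Mul a (b₀ a) a' (b₀ a') (hb a) (hb a')).2
    have hfa : φ a (b₀ a) = c * ψ a := hfψ a
    have hfa' : φ a' (b₀ a') = c * ψ a' := hfψ a'
    rw [hη _ _ hP, hη _ _ (hb a), hη _ _ (hb a'), hfa, hfa'] at h1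
    simp only [map_sub, map_add, map_mul, Q.comm] at h1
    linear_combination h1
  have ε0' : ε 0 = 0 := by
    have := εadd 0 0
    rw [add_zero] at this
    exact left_eq_add.1 this
  have εneg : ∀ a, ε (-a) = -ε a := by
    intro a
    have := εadd a (-a)
    rw [add_neg_cancel, ε0'] at this
    exact eq_neg_of_add_eq_zero_right this.symm
  have εT : ∀ μ ∈ M, ∀ a, ε (μ * a) = m μ * σ (m μ) * ε a := by
    intro μ hμ a
    have h1 := (T μ hμ a (b₀ a) (hb a)).2
    rw [hη _ _ (UPair.smul Q (hb a) μ), hη _ _ (hb a)] at h1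
    simp only [map_mul, Q.comm, hψM μ hμ] at h1
    linear_combination h1
  have εz : ∀ a, ε a = 0 := by
    by_contra hcon
    push Not at hcon
    obtain ⟨a₀, ha₀⟩ := hcon
    have hP : ∀ y, ∃ ν : F, σ ν = ν ∧ ∀ a, ε (y * a) = ν * ε a := by
      intro y
      have hy : y ∈ AddSubgroup.closure M := by rw [hspan]; trivial
      induction hy using AddSubgroup.closure_induction with
      | mem μ hμ =>
        refine ⟨m μ * σ (m μ), ?_, εT μ hμ⟩
        rw [map_mul, Q.invol, mul_comm]
      | zero => exact ⟨0, map_zero σ, fun a => by rw [zero_mul, zero_mul, ε0']⟩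
      | add y y' _ _ hy hy' =>
        obtain ⟨ν, h1, h2⟩ := hy
        obtain ⟨ν', h1', h2'⟩ := hy'
        exact ⟨ν + ν', by rw [map_add, h1, h1'], fun a => by rw [add_mul, εadd, h2, h2', add_mul]⟩
      | neg y _ hy =>
        obtain ⟨ν, h1, h2⟩ := hy
        exact ⟨-ν, by rw [map_neg, h1], fun a => by rw [neg_mul, εneg, h2, neg_mul]⟩
    choose κ hκ1 hκ2 using hP
    have κone : κ 1 = 1 := by
      have := hκ2 1 a₀
      rw [one_mul] at this
      have h2 : (κ 1 - 1) * ε a₀ = 0 := by linear_combination -this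
      rcases mul_eq_zero.1 h2 with h3 | h3
      · exact sub_eq_zero.1 h3
      · exact absurd h3 ha₀
    have κmul : ∀ y y', κ (y * y') = κ y * κ y' := by
      intro y y'
      have h1 := hκ2 (y * y') a₀
      rw [mul_assoc, hκ2 y, hκ2 y'] at h1
      have h2 : (κ (y * y') - κ y * κ y') * ε a₀ = 0 := by linear_combination -h1
      rcases mul_eq_zero.1 h2 with h3 | h3
      · exact sub_eq_zero.1 h3
      · exact absurd h3 ha₀
    have κadd : ∀ y y', κ (y + y') = κ y + κ y' := by
      intro y y'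
      have h1 := hκ2 (y + y') a₀
      rw [add_mul, εadd, hκ2 y, hκ2 y'] at h1
      have h2 : (κ (y + y') - (κ y + κ y')) * ε a₀ = 0 := by linear_combination -h1
      rcases mul_eq_zero.1 h2 with h3 | h3
      · exact sub_eq_zero.1 h3
      · exact absurd h3 ha₀
    have κzero : κ 0 = 0 := by
      have := κadd 0 0
      rw [add_zero] at this
      exact left_eq_add.1 this
    let κr : F →+* F :=
      { toFun := κ
        map_one' := κone
        map_mul' := κmul
        map_zero' := κzero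
        map_add' := κadd }
    have hsur : Function.Surjective κr := (Finite.injective_iff_bijective.1 κr.injective).2
    obtain ⟨x, hx⟩ := Q.nontriv
    obtain ⟨y, rfl⟩ := hsur x
    exact hx (hκ1 y)
  refine ⟨ψ, c, c0, hψM, ?_⟩
  intro a b hab
  rw [(hφη _ _ hab).2, hφf _ _ hab, hfψ, hη _ _ hab, εz, zero_add]

end UFam

end Cfsg.Agent.AutPSU
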