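import Cfsg.Agent.Lib.Lead.AutPSU.UBlocks
import Cfsg.Agent.Lib.Lead.AutPSU.UShape
import Mathlib

/-!
# The unitary group of the antidiagonal form in dimension three: explicit elements (lead)
-/

set_option autoImplicit false

namespace Cfsg.Agent.AutPSU

open Matrix Cfsg Cfsg.Agent.Lib.Helper5.GLBN Cfsg.Agent.Lib.Helper8.SpBN
  Cfsg.Agent.Lib.Helper8.Tw Cfsg.Agent.Lib.Helper8.AutSp Cfsg.Agent.PSUT
open scoped MatrixGroups

variable {F : Type*} [Field F]

section three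

variable (φ : F →+* F)

/-- the upper unitriangular matrix with parameters `a, b` -/
def X3m (a b : F) : Matrix (Fin 3) (Fin 3) F := !![1, a, b; 0, 1, -(φ a); 0, 0, 1]

/-- the lower unitriangular matrix with parameters `a, b` -/
def Y3m (a b : F) : Matrix (Fin 3) (Fin 3) F := !![1, 0, 0; a, 1, 0; b, -(φ a), 1]

/-- the monomial matrix -/
def n3m : Matrix (Fin 3) (Fin 3) F := !![0, 0, 1; 0, -1, 0; 1, 0, 0]

theorem X3m_mul (a b a' b' : F) :
    X3m φ a b * X3m φ a' b' = X3m φ (a + a') (b + b' - a * φ a') := by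
  ext i j
  fin_cases i <;> fin_cases j <;> simp [X3m, Matrix.mul_apply, Fin.sum_univ_three] <;> ring

theorem Y3m_mul (a b a' b' : F) :
    Y3m φ a b * Y3m φ a' b' = Y3m φ (a + a') (b + b' - φ a * a') := by
  ext i j
  fin_cases i <;> fin_cases j <;> simp [Y3m, Matrix.mul_apply, Fin.sum_univ_three] <;> ring

theorem X3m_zero : X3m φ 0 0 = 1 := by
  ext i j
  fin_cases i <;> fin_cases j <;> simp [X3m]

theorem Y3m_zero : Y3m φ 0 0 = 1 := by
  ext i j
  fin_cases i <;> fin_cases j <;> simp [Y3m]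

theorem n3m_mul : (n3m : Matrix (Fin 3) (Fin 3) F) * n3m = 1 := by
  ext i j
  fin_cases i <;> fin_cases j <;> simp [n3m, Matrix.mul_apply, Fin.sum_univ_three]

/-- the upper unitriangular element -/
def X3 (a b : F) : GL (Fin 3) F :=
  ⟨X3m φ a b, X3m φ (-a) (-b - a * φ a), by
    rw [X3m_mul, ← X3m_zero φ]; congr 1 <;> simp <;> ring, by
    rw [X3m_mul, ← X3m_zero φ]; congr 1 <;> simp <;> ring⟩

/-- the lower unitriangular element -/
def Y3 (a b : F) : GL (Fin 3) F :=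
  ⟨Y3m φ a b, Y3m φ (-a) (-b - a * φ a), by
    rw [Y3m_mul, ← Y3m_zero φ]; congr 1 <;> simp <;> ring, by
    rw [Y3m_mul, ← Y3m_zero φ]; congr 1 <;> simp <;> ring⟩

/-- the monomial element -/
def n3 : GL (Fin 3) F := ⟨n3m, n3m, n3m_mul, n3m_mul⟩

theorem X3_val (a b : F) : ((X3 φ a b : GL (Fin 3) F) : Matrix (Fin 3) (Fin 3) F) = X3m φ a b := rfl
theorem Y3_val (a b : F) : ((Y3 φ a b : GL (Fin 3) F) : Matrix (Fin 3) (Fin 3) F) = Y3m φ a b := rfl
theorem n3_val : ((n3 : GL (Fin 3) F) : Matrix (Fin 3) (Fin 3) F) = n3m := rfl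

theorem n3_inv : (n3 : GL (Fin 3) F)⁻¹ = n3 := rfl

theorem X3_mul (a b a' b' : F) : X3 φ a b * X3 φ a' b' = X3 φ (a + a') (b + b' - a * φ a') :=
  Units.ext (X3m_mul φ a b a' b')

theorem Y3_mul (a b a' b' : F) : Y3 φ a b * Y3 φ a' b' = Y3 φ (a + a') (b + b' - φ a * a') :=
  Units.ext (Y3m_mul φ a b a' b')

theorem X3_inv (a b : F) : (X3 φ a b)⁻¹ = X3 φ (-a) (-b - a * φ a) := by
  apply Units.ext
  rfl

theorem X3_zero : X3 φ 0 0 = 1 := Units.ext (X3m_zero φ)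
theorem Y3_zero : Y3 φ 0 0 = 1 := Units.ext (Y3m_zero φ)

theorem det_X3 (a b : F) : ((X3 φ a b : GL (Fin 3) F) : Matrix (Fin 3) (Fin 3) F).det = 1 := by
  rw [X3_val, Matrix.det_fin_three]
  simp [X3m]

theorem det_Y3 (a b : F) : ((Y3 φ a b : GL (Fin 3) F) : Matrix (Fin 3) (Fin 3) F).det = 1 := by
  rw [Y3_val, Matrix.det_fin_three]
  simp [Y3m]

theorem det_n3 : ((n3 : GL (Fin 3) F) : Matrix (Fin 3) (Fin 3) F).det = 1 := by
  rw [n3_val, Matrix.det_fin_three]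
  simp [n3m]

theorem rev3_0 : (Fin.rev 0 : Fin 3) = 2 := rfl
theorem rev3_1 : (Fin.rev 1 : Fin 3) = 1 := rfl
theorem rev3_2 : (Fin.rev 2 : Fin 3) = 0 := rfl

variable (hφ : ∀ x, φ (φ x) = x)

include hφ in
theorem X3_mem_UH {a b : F} (h : UPair φ a b) : X3 φ a b ∈ UH 3 F φ := by
  rw [mem_UH_iff]
  intro x y
  rw [X3_inv, X3_val, X3_val]
  unfold UPair at h
  have hb : φ b = -b - a * φ a := by linear_combination h
  fin_cases x <;> fin_cases y <;>
    simp [X3m, rev3_0, rev3_1, rev3_2, hφ, hb]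
  ring

theorem n3_mem_UH : (n3 : GL (Fin 3) F) ∈ UH 3 F φ := by
  rw [mem_UH_iff]
  intro x y
  rw [n3_inv, n3_val]
  fin_cases x <;> fin_cases y <;> simp [n3m, rev3_0, rev3_1, rev3_2]

include hφ in
theorem n3_conj_X3 (a b : F) : n3 * X3 φ a b * n3 = Y3 φ (φ a) b := by
  apply Units.ext
  rw [Units.val_mul, Units.val_mul, n3_val, X3_val, Y3_val]
  ext i j
  fin_cases i <;> fin_cases j <;>
    simp [X3m, Y3m, n3m, Matrix.mul_apply, Fin.sum_univ_three, hφ]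

include hφ in
theorem n3_conj_Y3 (a b : F) : n3 * Y3 φ a b * n3 = X3 φ (φ a) b := by
  apply Units.ext
  rw [Units.val_mul, Units.val_mul, n3_val, X3_val, Y3_val]
  ext i j
  fin_cases i <;> fin_cases j <;>
    simp [X3m, Y3m, n3m, Matrix.mul_apply, Fin.sum_univ_three, hφ]

include hφ in
theorem Y3_mem_UH {a b : F} (h : UPair φ a b) : Y3 φ a b ∈ UH 3 F φ := by
  have h' : UPair φ (φ a) b := by
    unfold UPair at *
    rw [hφ]
    linear_combination h
  have := (UH 3 F φ).mul_mem ((UH 3 F φ).mul_mem (n3_mem_UH φ) (X3_mem_UH φ hφ h')) (n3_mem_UH φ)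
  rw [n3_conj_X3 φ hφ, hφ] at this
  exact this

include hφ in
/-- the rank one Bruhat decomposition: `n X(α, β) Y(a, b)` is upper triangular -/
theorem bruhat3 {a b : F} (h : UPair φ a b) (hb : b ≠ 0) (i j : Fin 3) (hij : j < i) :
    ((n3 * X3 φ (φ a / φ b) (1 / φ b) * Y3 φ a b : GL (Fin 3) F) :
      Matrix (Fin 3) (Fin 3) F) i j = 0 := by
  rw [Units.val_mul, Units.val_mul, n3_val, X3_val, Y3_val]
  have hb' : φ b ≠ 0 := (map_ne_zero φ).2 hb
  unfold UPair at h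
  fin_cases i <;> fin_cases j <;> simp at hij <;>
    simp [X3m, Y3m, n3m, Matrix.mul_apply, Fin.sum_univ_three, hφ]
  · field_simp
    ring
  · field_simp
    linear_combination h
  · field_simp
    ring

include hφ in
theorem bruhat3_pair {a b : F} (h : UPair φ a b) (hb : b ≠ 0) : UPair φ (φ a / φ b) (1 / φ b) := by
  have hb' : φ b ≠ 0 := (map_ne_zero φ).2 hb
  unfold UPair at *
  simp only [map_div₀, map_one, hφ]
  field_simp
  linear_combination h

/-- conjugation by a unitary diagonal matrix -/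
theorem dgU_conj_X3 (D : Fin 3 → Fˣ) (h1 : (D 1 : F) * φ (D 1) = 1) (h2 : (D 2 : F) * φ (D 0) = 1)
    (a b : F) :
    dgU D * X3 φ a b * (dgU D)⁻¹
      = X3 φ ((D 0 : F) * (D 1 : F)⁻¹ * a) ((D 0 : F) * φ (D 0) * b) := by
  apply Units.ext
  rw [dgU_inv, Units.val_mul, Units.val_mul, dgU_coe, dgU_coe, X3_val, X3_val]
  have hD0 : (D 0 : F) ≠ 0 := Units.ne_zero _
  have hD1 : (D 1 : F) ≠ 0 := Units.ne_zero _
  have hD2 : (D 2 : F) ≠ 0 := Units.ne_zero _
  have e1 : φ (D 1 : F) = (D 1 : F)⁻¹ := eq_inv_of_mul_eq_one_right h1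
  have e2 : φ (D 0 : F) = (D 2 : F)⁻¹ := eq_inv_of_mul_eq_one_right h2
  ext i j
  rw [Matrix.mul_diagonal, Matrix.diagonal_mul]
  fin_cases i <;> fin_cases j <;> simp [X3m, e1, e2]
  · ring
  · ring
  · field_simp

theorem X3_apply_01 (a b : F) : ((X3 φ a b : GL (Fin 3) F) : Matrix (Fin 3) (Fin 3) F) 0 1 = a := by
  simp [X3_val, X3m]

theorem X3_apply_02 (a b : F) : ((X3 φ a b : GL (Fin 3) F) : Matrix (Fin 3) (Fin 3) F) 0 2 = b := by
  simp [X3_val, X3m]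

theorem X3_apply_00 (a b : F) : ((X3 φ a b : GL (Fin 3) F) : Matrix (Fin 3) (Fin 3) F) 0 0 = 1 := by
  simp [X3_val, X3m]

theorem Y3_apply_10 (a b : F) : ((Y3 φ a b : GL (Fin 3) F) : Matrix (Fin 3) (Fin 3) F) 1 0 = a := by
  simp [Y3_val, Y3m]

theorem Y3_apply_20 (a b : F) : ((Y3 φ a b : GL (Fin 3) F) : Matrix (Fin 3) (Fin 3) F) 2 0 = b := by
  simp [Y3_val, Y3m]

theorem Y3_apply_00 (a b : F) : ((Y3 φ a b : GL (Fin 3) F) : Matrix (Fin 3) (Fin 3) F) 0 0 = 1 := by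
  simp [Y3_val, Y3m]

theorem n3_apply_20 : ((n3 : GL (Fin 3) F) : Matrix (Fin 3) (Fin 3) F) 2 0 = 1 := by
  simp [n3_val, n3m]

theorem X3_upper (a b : F) (i j : Fin 3) (hij : j < i) :
    ((X3 φ a b : GL (Fin 3) F) : Matrix (Fin 3) (Fin 3) F) i j = 0 := by
  rw [X3_val]
  fin_cases i <;> fin_cases j <;> simp at hij <;> simp [X3m]

/-- a field automorphism commuting with `φ`, applied entrywise -/
theorem map_X3 (ψ : F ≃+* F) (hψ : ∀ x, ψ (φ x) = φ (ψ x)) (a b : F) :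
    Matrix.GeneralLinearGroup.map (ψ : F →+* F) (X3 φ a b) = X3 φ (ψ a) (ψ b) := by
  apply Units.ext
  ext i j
  rw [Matrix.GeneralLinearGroup.map_apply, X3_val, X3_val]
  fin_cases i <;> fin_cases j <;> simp [X3m, hψ]

end three

end Cfsg.Agent.AutPSU
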