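import Cfsg.Agent.Lib.Lead.AutPSU.UModel
import Mathlib

set_option autoImplicit false

namespace Cfsg.Agent.AutPSU

open Matrix Cfsg Cfsg.Agent.Lib.Helper5.GLBN Cfsg.Agent.Lib.Helper8.SpBN
  Cfsg.Agent.Lib.Helper8.Tw Cfsg.Agent.Lib.Helper8.AutSp Cfsg.Agent.PSUT
open scoped MatrixGroups

variable {N : ℕ} {F : Type*} [Field F] {k : Type*} [Field k]

namespace Ctx

variable {φ : F →+* F} {Q : Type*} [Group Q] (C : Ctx N F φ Q)

/-- **The model theorem.** Every automorphism of a central quotient of `SU_N` is the composite of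
an inner, a diagonal and a field automorphism, provided the fundamental root groups generate. -/
theorem model_aut [Fintype F] [Finite k] (p : ℕ) [Fact p.Prime] [CharP F p] {q : ℕ}
    (C5 : Cfsg.Agent.Lib.Helper5.AutSU.Ctx N F φ q)
    (D : FixData F φ k) (hD : FixSurj D) (K : UFieldOK F φ)
    (hnorm : ∀ ε : F, φ ε = ε → ε ≠ 0 → ∃ δ : F, δ * φ δ = ε)
    (hspan : N = 3 → AddSubgroup.closure {μ : F | ∃ l : F, l ≠ 0 ∧ μ = l * l / φ l} = ⊤)
    (hgen : ∀ H : Subgroup ↥(N1 N F φ),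
      (∀ i, i < N / 2 → Cfsg.Agent.Lib.Helper5.AutSU.Xp N F φ i ≤ H ∧
        Cfsg.Agent.Lib.Helper5.AutSU.Xm N F φ i ≤ H) → H = ⊤)
    (θ : Q ≃* Q) :
    ∃ (x : Q) (ψ : F ≃+* F) (d : Fin N → Fˣ) (hd : ∀ i, (d i : F) * φ (d i.rev) = 1),
      ∀ g, θ (C.f g) = x * C.f (Phi ψ (K.comm ψ) d hd g) * x⁻¹ := by
  obtain ⟨x, -, -, hB, hT, hXp, hXm⟩ := C5.su_normal_form_torus p C.f C.hf C.hker θ
  set th : Q ≃* Q := θ.trans (MulAut.conj x⁻¹) with hth
  have hBB := map_elem C.f th _ hB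
  have hTT := map_elem C.f th _ hT
  have hXp' : ∀ i, i < N / 2 → ∀ g ∈ Cfsg.Agent.Lib.Helper5.AutSU.Xp N F φ i,
      ∃ g' ∈ Cfsg.Agent.Lib.Helper5.AutSU.Xp N F φ i, th (C.f g) = C.f g' :=
    fun i hi => map_elem C.f th _ (hXp i hi)
  have hXm' : ∀ i, i < N / 2 → ∀ g ∈ Cfsg.Agent.Lib.Helper5.AutSU.Xm N F φ i,
      ∃ g' ∈ Cfsg.Agent.Lib.Helper5.AutSU.Xm N F φ i, th (C.f g) = C.f g' :=
    fun i hi => map_elem C.f th _ (hXm i hi)
  have hN3 := C5.hN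
  have main : ∃ (ψ : F ≃+* F) (d : Fin N → Fˣ) (hd : ∀ i, (d i : F) * φ (d i.rev) = 1),
      ∀ i, i < N / 2 → ∀ g, (g ∈ Cfsg.Agent.Lib.Helper5.AutSU.Xp N F φ i ∨
        g ∈ Cfsg.Agent.Lib.Helper5.AutSU.Xm N F φ i) →
        th (C.f g) = C.f (Phi ψ (K.comm ψ) d hd g) := by
    rcases Nat.even_or_odd' N with ⟨m, hm | hm⟩
    · exact C.even_case D hD K hnorm (m - 2) (by omega) th hXp' hXm'
    · by_cases h3 : N = 3
      · exact C.three_case K (by omega) (hspan h3) th hBB hTT hXp' hXm'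
      · exact C.odd_case K (m - 2) (by omega) th hBB hXp' hXm'
  obtain ⟨ψ, d, hd, hmain⟩ := main
  refine ⟨x, ψ, d, hd, ?_⟩
  have htop : (th.toMonoidHom.comp C.f).eqLocus
      (C.f.comp (Phi ψ (K.comm ψ) d hd).toMonoidHom) = ⊤ := by
    apply hgen
    intro i hi
    exact ⟨fun g hg => hmain i hi g (Or.inl hg), fun g hg => hmain i hi g (Or.inr hg)⟩
  intro g
  have hg : g ∈ (th.toMonoidHom.comp C.f).eqLocus
      (C.f.comp (Phi ψ (K.comm ψ) d hd).toMonoidHom) := by rw [htop]; trivial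
  have e : th (C.f g) = C.f (Phi ψ (K.comm ψ) d hd g) := hg
  rw [← e, hth, MulEquiv.trans_apply, MulAut.conj_apply]
  group

end Ctx

end Cfsg.Agent.AutPSU
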