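import Cfsg.Agent.Lib.Lead.AutPSU.UShort
import Cfsg.Agent.Lib.Lead.AutPSU.ULong
import Cfsg.Agent.Lib.Lead.AutPSU.UMid3
import Cfsg.Agent.Lib.Lead.AutPSU.UAuts
import Cfsg.Agent.Lib.Lead.AutPSU.UChain
import Mathlib

/-!
# The rank one families of `PSU_N` at the short nodes (lead)

`Ctx` : a central quotient `f : SU_N → Q` (antidiagonal model); `Ctx.RS j` : the rank one family of the
node `j` (`2 j + 4 ≤ N`) on the coordinates `j, j+1` and their mirrors; consecutive nodes are linked.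
-/

set_option autoImplicit false

namespace Cfsg.Agent.AutPSU

open Matrix Cfsg Cfsg.Agent.Lib.Helper5.GLBN Cfsg.Agent.Lib.Helper8.SpBN
  Cfsg.Agent.Lib.Helper8.Tw Cfsg.Agent.Lib.Helper8.AutSp Cfsg.Agent.PSUT
  Cfsg.Agent.TwRankOne Cfsg.Agent.TwRankOne.Shape
open scoped MatrixGroups

variable {N : ℕ} {F : Type*} [Field F]

/-- the coordinate `j` -/
def ix (N j : ℕ) (h : j < N) : Fin N := ⟨j, h⟩

theorem ix_val (j : ℕ) (h : j < N) : (ix N j h : ℕ) = j := rfl

theorem ix_rev_val (j : ℕ) (h : j < N) : ((ix N j h).rev : ℕ) = N - 1 - j := by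
  rw [Fin.val_rev, ix_val]
  omega

theorem ix_ne {j j' : ℕ} (h : j < N) (h' : j' < N) (hne : j ≠ j') : ix N j h ≠ ix N j' h' := by
  intro e
  exact hne (congrArg Fin.val e)

theorem ix_ne_rev {j j' : ℕ} (h : j < N) (h' : j' < N) (hne : j + j' + 1 ≠ N) :
    ix N j h ≠ (ix N j' h').rev := by
  intro e
  have := congrArg Fin.val e
  rw [ix_rev_val, ix_val] at this
  omega

theorem ix_rev_ne_rev {j j' : ℕ} (h : j < N) (h' : j' < N) (hne : j ≠ j') :
    (ix N j h).rev ≠ (ix N j' h').rev := by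
  intro e
  exact ix_ne h h' hne (Fin.rev_injective e)

/-- the four coordinates of the short node `j` -/
theorem quad (j : ℕ) (hj : 2 * j + 4 ≤ N) :
    Quad (ix N j (by omega)) (ix N (j + 1) (by omega)) where
  ne := ix_ne _ _ (by omega)
  h01 := ix_ne_rev _ _ (by omega)
  h00 := ix_ne_rev _ _ (by omega)
  h11 := ix_ne_rev _ _ (by omega)

/-- commuting a diagonal matrix past a transvection -/
theorem dgU_mul_tv (d : Fin N → Fˣ) (a b : Fin N) (hab : a ≠ b) (c : F) :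
    dgU d * tv a b hab c = tv a b hab (d a * c * ((d b)⁻¹ : Fˣ)) * dgU d := by
  rw [← dgU_conj_tv, inv_mul_cancel_right]

/-- a central quotient of `SU_N` -/
structure Ctx (N : ℕ) (F : Type*) [Field F] (φ : F →+* F) (Q : Type*) [Group Q] where
  hφ : ∀ x, φ (φ x) = x
  f : ↥(N1 N F φ) →* Q
  hf : Function.Surjective f
  hker : f.ker = Subgroup.center ↥(N1 N F φ)
  hZ : ∀ g ∈ Subgroup.center ↥(N1 N F φ), ∃ c : F,
    ((gl g : GL (Fin N) F) : Matrix (Fin N) (Fin N) F) = Matrix.diagonal fun _ => c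

namespace Ctx

variable {φ : F →+* F} {Q : Type*} [Group Q] (C : Ctx N F φ Q)

/-- the block homomorphism of the short node `j` -/
noncomputable def sN (j : ℕ) (hj : 2 * j + 4 ≤ N) :
    Matrix.SpecialLinearGroup (Fin 2) F →* ↥(N1 N F φ) :=
  shortHom φ C.hφ (quad j hj)

theorem gl_sN (j : ℕ) (hj : 2 * j + 4 ≤ N) (g : Matrix.SpecialLinearGroup (Fin 2) F) :
    gl (C.sN j hj g) = shortGL φ (quad j hj) g := rfl

theorem f_eq_one {g : ↥(N1 N F φ)} (h : C.f g = 1) : ∃ c : F,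
    ((gl g : GL (Fin N) F) : Matrix (Fin N) (Fin N) F) = Matrix.diagonal fun _ => c := by
  apply C.hZ
  rw [← C.hker]
  exact h

theorem sN_ker (j : ℕ) (hj : 2 * j + 4 ≤ N) (g : Matrix.SpecialLinearGroup (Fin 2) F)
    (h : (C.f.comp (C.sN j hj)) g = 1) : g = 1 ∨ g = -1 := by
  obtain ⟨c, hc⟩ := C.f_eq_one h
  exact shortGL_scalar φ (quad j hj) g c hc

/-- the rank one family of the short node `j` -/
noncomputable def RS (j : ℕ) (hj : 2 * j + 4 ≤ N) : RFam F Q :=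
  RFam.ofSL2 (C.f.comp (C.sN j hj)) (C.sN_ker j hj)

theorem RS_X (j : ℕ) (hj : 2 * j + 4 ≤ N) (t : F) : (C.RS j hj).X t = C.f (C.sN j hj (upT t)) := rfl
theorem RS_Y (j : ℕ) (hj : 2 * j + 4 ≤ N) (t : F) : (C.RS j hj).Y t = C.f (C.sN j hj (loT t)) := rfl

theorem RS_h (j : ℕ) (hj : 2 * j + 4 ≤ N) (a : F) (ha : a ≠ 0) :
    (C.RS j hj).h a = C.f (C.sN j hj (dgT a ha)) :=
  RFam.ofSL2_h _ _ a ha

/-- consecutive short nodes are linked -/
theorem link_short (j : ℕ) (hj : 2 * (j + 1) + 4 ≤ N) (a : F) (ha : a ≠ 0) :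
    Acts (C.RS (j + 1) hj).X ((C.RS j (by omega)).h a) a⁻¹ := by
  intro u
  rw [RS_h _ _ _ _ ha, RS_X, RS_X, ← map_mul, ← map_mul]
  congr 1
  apply gl_injective
  rw [gl_mul, gl_mul, gl_sN, gl_sN, gl_sN, shortGL_dgT, shortGL_upT, shortGL_upT, ← mul_assoc,
    dgU_mul_tv, mul_assoc, dgU_mul_tv, ← mul_assoc]
  have q := quad j (by omega : 2 * j + 4 ≤ N)
  have e1 : (shortD φ (quad j (by omega)) a ha (ix N (j + 1) (by omega)) : F) = a⁻¹ :=
    shortD_i₁ φ _ a ha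
  have e2 : shortD φ (quad j (by omega)) a ha (ix N (j + 1 + 1) (by omega)) = 1 :=
    shortD_other φ _ a ha _ (ix_ne _ _ (by omega)) (ix_ne _ _ (by omega))
      (ix_ne_rev _ _ (by omega)) (ix_ne_rev _ _ (by omega))
  have e3 : shortD φ (quad j (by omega)) a ha (ix N (j + 1 + 1) (by omega)).rev = 1 :=
    shortD_other φ _ a ha _ (ix_ne_rev _ _ (by omega)).symm (ix_ne_rev _ _ (by omega)).symm
      (ix_rev_ne_rev _ _ (by omega)) (ix_rev_ne_rev _ _ (by omega))
  have e4 : (shortD φ (quad j (by omega)) a ha (ix N (j + 1) (by omega)).rev : F) = φ a :=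
    shortD_i₁_rev φ _ a ha
  have hφa : φ a ≠ 0 := (map_ne_zero φ).2 ha
  congr 2
  · congr 1
    rw [e1, e2]
    simp
  · congr 1
    rw [e3, Units.val_inv_eq_inv_val, e4]
    simp only [Units.val_one, map_mul, map_inv₀]
    field_simp

end Ctx

end Cfsg.Agent.AutPSU
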