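import Cfsg.Agent.Lib.Lead.AutPSU.UNodes
import Cfsg.Agent.Lib.Lead.AutPSU.UPhi
import Mathlib

/-!
# `PSU_N`, `N = 2 κ + 3` odd: the middle node of type `²A₂` (lead)
-/

set_option autoImplicit false

namespace Cfsg.Agent.AutPSU

open Matrix Cfsg Cfsg.Agent.Lib.Helper5.GLBN Cfsg.Agent.Lib.Helper8.SpBN
  Cfsg.Agent.Lib.Helper8.Tw Cfsg.Agent.Lib.Helper8.AutSp Cfsg.Agent.PSUT
  Cfsg.Agent.TwRankOne Cfsg.Agent.TwRankOne.Shape
open scoped MatrixGroups

variable {N : ℕ} {F : Type*} [Field F]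

theorem ix_rev (j : ℕ) (h : j < N) : (ix N j h).rev = ix N (N - 1 - j) (by omega) := by
  apply Fin.ext
  rw [ix_rev_val, ix_val]

/-- the three coordinates of the middle node -/
def eM (κ : ℕ) (hN : N = 2 * κ + 3) : Fin 3 → Fin N :=
  ![ix N κ (by omega), ix N (κ + 1) (by omega), ix N (κ + 2) (by omega)]

theorem eM_val (κ : ℕ) (hN : N = 2 * κ + 3) (i : Fin 3) : (eM κ hN i : ℕ) = κ + i := by
  fin_cases i <;> rfl

theorem eM_inj (κ : ℕ) (hN : N = 2 * κ + 3) : Function.Injective (eM κ hN) := by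
  intro a b h
  have := congrArg Fin.val h
  rw [eM_val, eM_val] at this
  exact Fin.ext (by omega)

theorem revE_eM (κ : ℕ) (hN : N = 2 * κ + 3) : revE (eM κ hN) = eM κ hN := by
  funext i
  apply Fin.ext
  rw [revE_apply, Fin.val_rev, eM_val, eM_val, Fin.val_rev]
  have := i.2
  omega

theorem eM_mono (κ : ℕ) (hN : N = 2 * κ + 3) {i j : Fin 3} (h : eM κ hN j < eM κ hN i) : j < i := by
  rw [Fin.lt_def, eM_val, eM_val] at h
  rw [Fin.lt_def]
  omega

section mid

variable (φ : F →+* F) (hφ : ∀ x, φ (φ x) = x) (κ : ℕ) (hN : N = 2 * κ + 3)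

/-- the upper root elements of the middle node, in `GL_N` -/
noncomputable def midGL (a b : F) : GL (Fin N) F := embGL (eM κ hN) (eM_inj κ hN) (X3 φ a b)

/-- the lower root elements of the middle node, in `GL_N` -/
noncomputable def midGLY (a b : F) : GL (Fin N) F := embGL (eM κ hN) (eM_inj κ hN) (Y3 φ a b)

/-- the monomial element of the middle node, in `GL_N` -/
noncomputable def midGLn : GL (Fin N) F := embGL (eM κ hN) (eM_inj κ hN) n3

include hφ in
theorem midGL_mem_UH {a b : F} (h : UPair φ a b) : midGL φ κ hN a b ∈ UH N F φ :=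
  embGL_mem_UH _ _ (revE_eM κ hN) (X3_mem_UH φ hφ h)

include hφ in
theorem midGLY_mem_UH {a b : F} (h : UPair φ a b) : midGLY φ κ hN a b ∈ UH N F φ :=
  embGL_mem_UH _ _ (revE_eM κ hN) (Y3_mem_UH φ hφ h)

theorem midGLn_mem_UH : midGLn κ hN ∈ UH N F φ :=
  embGL_mem_UH _ _ (revE_eM κ hN) (n3_mem_UH φ)

theorem det_midGL (a b : F) :
    ((midGL φ κ hN a b : GL (Fin N) F) : Matrix (Fin N) (Fin N) F).det = 1 := by
  unfold midGL
  rw [det_embGL, det_X3]

theorem det_midGLY (a b : F) :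
    ((midGLY φ κ hN a b : GL (Fin N) F) : Matrix (Fin N) (Fin N) F).det = 1 := by
  unfold midGLY
  rw [det_embGL, det_Y3]

theorem det_midGLn : ((midGLn κ hN : GL (Fin N) F) : Matrix (Fin N) (Fin N) F).det = 1 := by
  unfold midGLn
  rw [det_embGL, det_n3]

theorem midGL_mul (a b a' b' : F) :
    midGL φ κ hN a b * midGL φ κ hN a' b' = midGL φ κ hN (a + a') (b + b' - a * φ a') := by
  unfold midGL
  rw [← map_mul, X3_mul]

theorem midGL_inv (a b : F) : (midGL φ κ hN a b)⁻¹ = midGL φ κ hN (-a) (-b - a * φ a) := by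
  unfold midGL
  rw [← map_inv, X3_inv]

theorem midGL_apply (a b : F) (i j : Fin 3) :
    ((midGL φ κ hN a b : GL (Fin N) F) : Matrix (Fin N) (Fin N) F) (eM κ hN i) (eM κ hN j)
      = ((X3 φ a b : GL (Fin 3) F) : Matrix (Fin 3) (Fin 3) F) i j := by
  unfold midGL
  rw [embGL_coe, emb_apply_apply _ (eM_inj κ hN)]

/-- a scalar upper root element of the middle node is trivial -/
theorem midGL_scalar (a b c : F)
    (h : ((midGL φ κ hN a b : GL (Fin N) F) : Matrix (Fin N) (Fin N) F)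
      = Matrix.diagonal fun _ => c) : a = 0 ∧ b = 0 := by
  have h01 := midGL_apply φ κ hN a b 0 1
  have h02 := midGL_apply φ κ hN a b 0 2
  rw [h, Matrix.diagonal_apply_ne _ (fun e => by
    have := (eM_inj κ hN) e; exact absurd this (by decide)), X3_apply_01] at h01
  rw [h, Matrix.diagonal_apply_ne _ (fun e => by
    have := (eM_inj κ hN) e; exact absurd this (by decide)), X3_apply_02] at h02
  exact ⟨h01.symm, h02.symm⟩

end mid

namespace Ctx

variable {φ : F →+* F} {Q : Type*} [Group Q] (C : Ctx N F φ Q) (κ : ℕ) (hN : N = 2 * κ + 3)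

/-- the upper root elements of the middle node -/
noncomputable def mX (a b : F) (h : UPair φ a b) : ↥(N1 N F φ) :=
  mkN1 (midGL φ κ hN a b) (midGL_mem_UH φ C.hφ κ hN h) (det_midGL φ κ hN a b)

/-- the lower root elements of the middle node -/
noncomputable def mY (a b : F) (h : UPair φ a b) : ↥(N1 N F φ) :=
  mkN1 (midGLY φ κ hN a b) (midGLY_mem_UH φ C.hφ κ hN h) (det_midGLY φ κ hN a b)

/-- the monomial element of the middle node -/
noncomputable def mn (_C : Ctx N F φ Q) (κ : ℕ) (hN : N = 2 * κ + 3) : ↥(N1 N F φ) :=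
  mkN1 (midGLn κ hN) (midGLn_mem_UH φ κ hN) (det_midGLn κ hN)

theorem gl_mX (a b : F) (h : UPair φ a b) : gl (C.mX κ hN a b h) = midGL φ κ hN a b := rfl
theorem gl_mY (a b : F) (h : UPair φ a b) : gl (C.mY κ hN a b h) = midGLY φ κ hN a b := rfl
theorem gl_mn : gl (C.mn κ hN) = midGLn κ hN := rfl

/-- the family of the middle node in the quotient -/
noncomputable def XU (a b : F) : Q := by
  classical
  exact if h : UPair φ a b then C.f (C.mX κ hN a b h) else 1

theorem XU_eq {a b : F} (h : UPair φ a b) : C.XU κ hN a b = C.f (C.mX κ hN a b h) := by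
  unfold XU
  rw [dif_pos h]

/-- the family of unitary type of the middle node -/
noncomputable def UF (K : UFieldOK F φ) : UFam F φ Q where
  X := C.XU κ hN
  X_mul := by
    intro a b a' b' h h'
    rw [XU_eq _ _ _ h, XU_eq _ _ _ h', XU_eq _ _ _ (UPair.mul K h h'), ← map_mul]
    congr 1
    apply gl_injective
    rw [gl_mul, gl_mX, gl_mX, gl_mX, midGL_mul]
  X_inj := by
    intro a b a' b' h h' e
    rw [XU_eq _ _ _ h, XU_eq _ _ _ h'] at e
    have e1 : C.f ((C.mX κ hN a b h)⁻¹ * C.mX κ hN a' b' h') = 1 := by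
      rw [map_mul, map_inv, e, inv_mul_cancel]
    obtain ⟨c, hc⟩ := C.f_eq_one e1
    rw [gl_mul, gl_inv, gl_mX, gl_mX, midGL_inv, midGL_mul] at hc
    obtain ⟨h1, h2⟩ := midGL_scalar φ κ hN _ _ c hc
    have ha : a = a' := by linear_combination -h1
    subst ha
    refine ⟨rfl, ?_⟩
    linear_combination -h2

theorem UF_X (K : UFieldOK F φ) (a b : F) : (C.UF κ hN K).X a b = C.XU κ hN a b := rfl

end Ctx

end Cfsg.Agent.AutPSU
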