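import Cfsg.Agent.Lib.Lead.AutPSU.UBridge
import Mathlib

/-!
# The standard automorphisms preserve the shape-defined subgroups (lead)
-/

set_option autoImplicit false

namespace Cfsg.Agent.AutPSU

open Matrix Cfsg Cfsg.Agent.Lib.Helper5.GLBN Cfsg.Agent.Lib.Helper8.SpBN
  Cfsg.Agent.Lib.Helper8.Tw Cfsg.Agent.Lib.Helper8.AutSp Cfsg.Agent.PSUT
open scoped MatrixGroups

variable {N : ℕ} {F : Type*} [Field F]

section pat

variable {φ : F →+* F} (ψ : F ≃+* F) (hψ : ∀ x, ψ (φ x) = φ (ψ x))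
  (d : Fin N → Fˣ) (hd : ∀ i, (d i : F) * φ (d i.rev) = 1)

theorem gl_Phi_apply (g : ↥(N1 N F φ)) (a b : Fin N) :
    ((gl (Phi ψ hψ d hd g) : GL (Fin N) F) : Matrix (Fin N) (Fin N) F) a b
      = (d a : F) * ψ (((gl g : GL (Fin N) F) : Matrix (Fin N) (Fin N) F) a b)
        * ((d b)⁻¹ : Fˣ) := by
  rw [gl_Phi, dgU_inv, Units.val_mul, Units.val_mul, dgU_coe, dgU_coe, Matrix.mul_diagonal,
    Matrix.diagonal_mul]
  rfl

theorem Phi_zero_iff (g : ↥(N1 N F φ)) (a b : Fin N) :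
    ((gl (Phi ψ hψ d hd g) : GL (Fin N) F) : Matrix (Fin N) (Fin N) F) a b = 0
      ↔ ((gl g : GL (Fin N) F) : Matrix (Fin N) (Fin N) F) a b = 0 := by
  rw [gl_Phi_apply]
  have h1 : (d a : F) ≠ 0 := Units.ne_zero _
  have h2 : (((d b)⁻¹ : Fˣ) : F) ≠ 0 := Units.ne_zero _
  constructor
  · intro h
    rcases mul_eq_zero.1 h with h | h
    · rcases mul_eq_zero.1 h with h | h
      · exact absurd h h1
      · exact (map_eq_zero ψ).1 h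
    · exact absurd h h2
  · intro h
    rw [h, map_zero, mul_zero, zero_mul]

theorem Phi_one_iff (g : ↥(N1 N F φ)) (a : Fin N) :
    ((gl (Phi ψ hψ d hd g) : GL (Fin N) F) : Matrix (Fin N) (Fin N) F) a a = 1
      ↔ ((gl g : GL (Fin N) F) : Matrix (Fin N) (Fin N) F) a a = 1 := by
  rw [gl_Phi_apply, mul_comm, ← mul_assoc, ← Units.val_mul, inv_mul_cancel, Units.val_one, one_mul]
  constructor
  · intro h
    apply ψ.injective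
    rw [h, map_one]
  · intro h
    rw [h, map_one]

variable [Finite F]

theorem Phi_mem_BB_iff (g : ↥(N1 N F φ)) :
    Phi ψ hψ d hd g ∈ Cfsg.Agent.Lib.Helper5.AutSU.BB N F φ
      ↔ g ∈ Cfsg.Agent.Lib.Helper5.AutSU.BB N F φ := by
  rw [Cfsg.Agent.Lib.Helper5.AutSU.mem_BB, Cfsg.Agent.Lib.Helper5.AutSU.mem_BB]
  simp only [gl_eq_h5, Phi_zero_iff]

theorem Phi_mem_TT_iff [Fintype F] (g : ↥(N1 N F φ)) :
    Phi ψ hψ d hd g ∈ Cfsg.Agent.Lib.Helper5.AutSU.TT N F φ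
      ↔ g ∈ Cfsg.Agent.Lib.Helper5.AutSU.TT N F φ := by
  rw [Cfsg.Agent.Lib.Helper5.AutSU.mem_TT, Cfsg.Agent.Lib.Helper5.AutSU.mem_TT]
  simp only [gl_eq_h5, Phi_zero_iff]

theorem Phi_mem_Xm_iff {j : ℕ} (hj : 2 * j + 2 ≤ N) (g : ↥(N1 N F φ)) :
    Phi ψ hψ d hd g ∈ Cfsg.Agent.Lib.Helper5.AutSU.Xm N F φ j
      ↔ g ∈ Cfsg.Agent.Lib.Helper5.AutSU.Xm N F φ j := by
  rw [Cfsg.Agent.Lib.Helper5.AutSU.mem_Xm hj, Cfsg.Agent.Lib.Helper5.AutSU.mem_Xm hj]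
  unfold Cfsg.Agent.Lib.Helper5.AutSU.IsLoU Cfsg.Agent.Lib.Helper5.AutSU.IsBlk
  simp only [gl_eq_h5, Phi_zero_iff, Phi_one_iff]

theorem Phi_symm_mem_BB {g : ↥(N1 N F φ)} (hg : g ∈ Cfsg.Agent.Lib.Helper5.AutSU.BB N F φ) :
    (Phi ψ hψ d hd).symm g ∈ Cfsg.Agent.Lib.Helper5.AutSU.BB N F φ := by
  rw [← Phi_mem_BB_iff ψ hψ d hd, MulEquiv.apply_symm_apply]
  exact hg

theorem Phi_symm_mem_Xm {j : ℕ} (hj : 2 * j + 2 ≤ N) {g : ↥(N1 N F φ)}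
    (hg : g ∈ Cfsg.Agent.Lib.Helper5.AutSU.Xm N F φ j) :
    (Phi ψ hψ d hd).symm g ∈ Cfsg.Agent.Lib.Helper5.AutSU.Xm N F φ j := by
  rw [← Phi_mem_Xm_iff ψ hψ d hd hj, MulEquiv.apply_symm_apply]
  exact hg

end pat

end Cfsg.Agent.AutPSU
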