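import Cfsg.Agent.Lib.Helper5.AutSU.Param
import Mathlib

/-!
# Row clearing: the upper unitriangular unitary matrices are products of positive root elements (lead)
-/

set_option autoImplicit false

namespace Cfsg.Agent.AutPSU

open Matrix Cfsg Cfsg.Agent.Lib.Helper5.GLBN Cfsg.Agent.Lib.Helper8.SpBN
open Cfsg.Agent.Lib.Helper8.Tw Cfsg.Agent.PSUT Cfsg.Agent.Lib.Helper5.AutSU
open scoped MatrixGroups

variable {N : ℕ} {F : Type*} [Field F]

/-- right multiplication by a transvection adds a multiple of a column to another -/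
theorem mul_tv_apply (M : Matrix (Fin N) (Fin N) F) (a b : Fin N) (hab : a ≠ b) (c : F)
    (i k : Fin N) :
    (M * ((tv a b hab c : GL (Fin N) F) : Matrix (Fin N) (Fin N) F)) i k
      = M i k + if k = b then c * M i a else 0 := by
  rw [tv_coe]
  unfold transvection
  rw [Matrix.mul_add, Matrix.mul_one, Matrix.add_apply]
  by_cases h : k = b
  · subst h
    rw [if_pos rfl, Matrix.mul_single_apply_same, mul_comm]
  · rw [if_neg h, Matrix.mul_single_apply_of_ne c a b i k h]

/-- the row relations of a unitary matrix -/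
theorem row_unitary {φ : F →+* F} {g : GL (Fin N) F} (hg : g ∈ UH N F φ) (i k : Fin N) :
    ∑ j, (g : Matrix (Fin N) (Fin N) F) i j * φ ((g : Matrix (Fin N) (Fin N) F) k.rev j.rev)
      = if i = k then 1 else 0 := by
  have h1 : (g : Matrix (Fin N) (Fin N) F) * ((g⁻¹ : GL (Fin N) F) : Matrix (Fin N) (Fin N) F)
      = 1 := by
    rw [← Units.val_mul, mul_inv_cancel, Units.val_one]
  have h2 := congrFun (congrFun h1 i) k
  rw [Matrix.mul_apply, Matrix.one_apply] at h2
  rw [← h2]
  apply Finset.sum_congr rfl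
  intro j _
  congr 1
  have hinv : g⁻¹ ∈ UH N F φ := (UH N F φ).inv_mem hg
  have := (mem_UH_iff.1 hinv) j k
  rw [inv_inv] at this
  exact this.symm

/-- the rows `< i` are rows of the identity matrix -/
def Triv (i : ℕ) (M : Matrix (Fin N) (Fin N) F) : Prop :=
  ∀ r : Fin N, r.val < i → ∀ b, M r b = if r = b then 1 else 0

theorem Triv.mul {i : ℕ} {M M' : Matrix (Fin N) (Fin N) F} (h : Triv i M) (h' : Triv i M') :
    Triv i (M * M') := by
  intro r hr b
  rw [Matrix.mul_apply, Finset.sum_eq_single r]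
  · rw [h r hr r, if_pos rfl, one_mul, h' r hr b]
  · intro c _ hc
    rw [h r hr c, if_neg (Ne.symm hc), zero_mul]
  · intro h0
    exact absurd (Finset.mem_univ r) h0

/-- trivial rows of a unitary matrix give trivial columns -/
theorem col_triv {φ : F →+* F} {g : GL (Fin N) F} (hg : g ∈ UH N F φ) {i : ℕ}
    (ht : Triv i (g : Matrix (Fin N) (Fin N) F)) (r : Fin N) (hr : r.val < i) (a : Fin N) :
    (g : Matrix (Fin N) (Fin N) F) a r.rev = if a = r.rev then 1 else 0 := by
  have h1 : (g : Matrix (Fin N) (Fin N) F) * ((g⁻¹ : GL (Fin N) F) : Matrix (Fin N) (Fin N) F)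
      = 1 := by
    rw [← Units.val_mul, mul_inv_cancel, Units.val_one]
  have h2 : ∀ b, ((g⁻¹ : GL (Fin N) F) : Matrix (Fin N) (Fin N) F) r b = if r = b then 1 else 0 := by
    intro b
    have h3 := congrFun (congrFun h1 r) b
    rw [Matrix.mul_apply, Matrix.one_apply, Finset.sum_eq_single r] at h3
    · rw [ht r hr r, if_pos rfl, one_mul] at h3
      exact h3
    · intro c _ hc
      rw [ht r hr c, if_neg (Ne.symm hc), zero_mul]
    · intro h0
      exact absurd (Finset.mem_univ r) h0
  rw [mem_UH_iff.1 hg a r.rev, Fin.rev_rev, h2]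
  by_cases h : a = r.rev
  · rw [if_pos h, if_pos (by rw [h, Fin.rev_rev]), map_one]
  · rw [if_neg h, if_neg (fun e => h (by rw [e, Fin.rev_rev])), map_zero]

/-- right multiplication by a short root element -/
theorem mul_xS_apply (φ : F →+* F) (M : Matrix (Fin N) (Fin N) F) (a b : Fin N) (hab : a ≠ b)
    (h3 : b ≠ b.rev) (c : F) (r s : Fin N) :
    (M * ((xS φ a b hab c : GL (Fin N) F) : Matrix (Fin N) (Fin N) F)) r s
      = M r s + (if s = b then c * M r a else 0)
        + (if s = a.rev then -(φ c) * M r b.rev else 0) := by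
  unfold xS
  rw [Units.val_mul, ← Matrix.mul_assoc, mul_tv_apply, mul_tv_apply, mul_tv_apply,
    if_neg (Ne.symm h3), add_zero]

/-- right multiplication by a root element of the odd middle node -/
theorem mul_xO_apply (φ : F →+* F) (M : Matrix (Fin N) (Fin N) F) (k m : Fin N) (hkm : k ≠ m)
    (hmk : m ≠ k.rev) (hk : k ≠ k.rev) (a b : F) (r s : Fin N) :
    (M * ((xO φ k m hkm hmk hk a b : GL (Fin N) F) : Matrix (Fin N) (Fin N) F)) r s
      = M r s + (if s = m then a * M r k else 0)
        + (if s = k.rev then -(φ a) * M r m + b * M r k else 0) := by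
  unfold xO
  rw [Units.val_mul, Units.val_mul, ← Matrix.mul_assoc, ← Matrix.mul_assoc]
  simp only [mul_tv_apply]
  rw [if_neg hk, if_neg hkm, add_zero, add_zero]
  by_cases h1 : s = k.rev
  · rw [if_pos h1, if_pos h1, if_pos h1, if_neg (by rw [h1]; exact hmk.symm)]
    ring
  · rw [if_neg h1, if_neg h1, if_neg h1]
    ring

section main

variable [Finite F] {φ : F →+* F}

theorem triv_gl_mul {i : ℕ} {g h : SUm N F φ}
    (hg : Triv i ((gl g : GL (Fin N) F) : Matrix (Fin N) (Fin N) F))
    (hh : Triv i ((gl h : GL (Fin N) F) : Matrix (Fin N) (Fin N) F)) :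
    Triv i ((gl (g * h) : GL (Fin N) F) : Matrix (Fin N) (Fin N) F) := by
  rw [gl_mul, Units.val_mul]
  exact hg.mul hh

/-- the common part of the clearing step -/
theorem clear_common (H : Subgroup (SUm N F φ)) (i k : ℕ) (ii : Fin N) (g : SUm N F φ)
    (ih : ∀ g : SUm N F φ, g ∈ UU N F φ →
      Triv i ((gl g : GL (Fin N) F) : Matrix (Fin N) (Fin N) F) →
      (∀ b : Fin N, ii < b → b.val < k + 1 →
        ((gl g : GL (Fin N) F) : Matrix (Fin N) (Fin N) F) ii b = 0) → g ∈ H)
    (hg : g ∈ UU N F φ) (ht : Triv i ((gl g : GL (Fin N) F) : Matrix (Fin N) (Fin N) F))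
    (X : SUm N F φ) (hXH : X ∈ H) (hXU : X ∈ UU N F φ)
    (hXT : Triv i ((gl X : GL (Fin N) F) : Matrix (Fin N) (Fin N) F))
    (hX : ∀ b : Fin N, ii < b → b.val < k + 1 →
        ((gl (g * X) : GL (Fin N) F) : Matrix (Fin N) (Fin N) F) ii b = 0) : g ∈ H := by
  have h1 := ih (g * X) ((UU N F φ).mul_mem hg hXU) (triv_gl_mul ht hXT) hX
  have e : g = (g * X) * X⁻¹ := by group
  rw [e]
  exact H.mul_mem h1 (H.inv_mem hXH)

/-- clearing an entry with a short root element -/
theorem ex_S (hφ : ∀ x, φ (φ x) = x) (H : Subgroup (SUm N F φ))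
    (hS : ∀ (a b : Fin N) (hab : a < b) (_ : b < a.rev) (_ : b ≠ b.rev) (c : F)
      (g : SUm N F φ), gl g = xS φ a b (ne_of_lt hab) c → g ∈ H)
    (ii kk : Fin N) (h1 : ii < kk) (h2 : kk < ii.rev) (h3 : kk ≠ kk.rev) (g : SUm N F φ)
    (hg : g ∈ UU N F φ)
    (hz : ∀ b : Fin N, ii < b → b.val < kk.val →
      ((gl g : GL (Fin N) F) : Matrix (Fin N) (Fin N) F) ii b = 0) :
    ∃ X : SUm N F φ, X ∈ H ∧ X ∈ UU N F φ ∧
      Triv ii.val ((gl X : GL (Fin N) F) : Matrix (Fin N) (Fin N) F) ∧
      ∀ b : Fin N, ii < b → b.val < kk.val + 1 →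
        ((gl (g * X) : GL (Fin N) F) : Matrix (Fin N) (Fin N) F) ii b = 0 := by
  set M := ((gl g : GL (Fin N) F) : Matrix (Fin N) (Fin N) F) with hM
  set t := M ii kk with ht
  have hv1 : (ii.rev : ℕ) = N - (ii.val + 1) := Fin.val_rev ii
  have hv2 : (kk.rev : ℕ) = N - (kk.val + 1) := Fin.val_rev kk
  have h1' : ii.val < kk.val := h1
  have h2' : kk.val < (ii.rev : ℕ) := h2
  have hne1 : ii ≠ kk.rev := fin_ne (by omega)
  have hne2 : ii ≠ ii.rev := fin_ne (by omega)
  refine ⟨mk1 (xS φ ii kk (ne_of_lt h1) (-t))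
    (xS_mem_UH hφ ii kk (ne_of_lt h1) hne1 hne2 h3 (-t)) (det_xS φ ii kk _ _), ?_, ?_, ?_, ?_⟩
  · exact hS ii kk h1 h2 h3 (-t) _ (gl_mk1 _ _ _)
  · rw [mem_UU, gl_mk1]
    exact xS_isUpU h1 _
  · intro r hr b
    have e1 : ¬ (ii = r ∧ kk = b) := by
      rintro ⟨e, -⟩
      have := congrArg Fin.val e
      omega
    have e2 : ¬ (kk.rev = r ∧ ii.rev = b) := by
      rintro ⟨e, -⟩
      have := congrArg Fin.val e
      omega
    rw [gl_mk1, xS_apply φ ii kk _ h3, if_neg e1, if_neg e2, add_zero, add_zero]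
  · intro b hb hbk
    have hb' : ii.val < b.val := hb
    have e3 : ¬ b = ii.rev := fin_ne (by omega)
    rw [gl_mul, Units.val_mul, gl_mk1, mul_xS_apply φ _ ii kk _ h3, if_neg e3, add_zero]
    by_cases hbk' : b = kk
    · rw [hbk', if_pos rfl, (mem_UU.1 hg).2 ii]
      rw [← hM, ← ht]
      ring
    · rw [if_neg hbk', add_zero]
      apply hz b hb
      have : b.val ≠ kk.val := fun e => hbk' (Fin.ext e)
      omega

/-- clearing the middle entry with a root element of the odd last node -/
theorem ex_O (hφ : ∀ x, φ (φ x) = x) (hω : ∃ ω : F, ω + φ ω = -1) (H : Subgroup (SUm N F φ))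
    (hO : ∀ (k m : Fin N) (hkm : k < m) (hm : m.rev = m) (a b : F)
      (_ : b + φ b + a * φ a = 0) (hmk : m ≠ k.rev) (hk : k ≠ k.rev)
      (g : SUm N F φ), gl g = xO φ k m (ne_of_lt hkm) hmk hk a b → g ∈ H)
    (ii kk : Fin N) (h1 : ii < kk) (h3 : kk.rev = kk) (g : SUm N F φ)
    (hg : g ∈ UU N F φ)
    (hz : ∀ b : Fin N, ii < b → b.val < kk.val →
      ((gl g : GL (Fin N) F) : Matrix (Fin N) (Fin N) F) ii b = 0) :
    ∃ X : SUm N F φ, X ∈ H ∧ X ∈ UU N F φ ∧
      Triv ii.val ((gl X : GL (Fin N) F) : Matrix (Fin N) (Fin N) F) ∧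
      ∀ b : Fin N, ii < b → b.val < kk.val + 1 →
        ((gl (g * X) : GL (Fin N) F) : Matrix (Fin N) (Fin N) F) ii b = 0 := by
  set M := ((gl g : GL (Fin N) F) : Matrix (Fin N) (Fin N) F) with hM
  set t := M ii kk with ht
  obtain ⟨ω, hω⟩ := hω
  have hv1 : (ii.rev : ℕ) = N - (ii.val + 1) := Fin.val_rev ii
  have hv2 : (kk.rev : ℕ) = N - (kk.val + 1) := Fin.val_rev kk
  have hv3 : (kk.rev : ℕ) = kk.val := congrArg Fin.val h3
  have h1' : ii.val < kk.val := h1
  have hmk : kk ≠ ii.rev := fin_ne (by omega)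
  have hk : ii ≠ ii.rev := fin_ne (by omega)
  have hb : ω * (t * φ t) + φ (ω * (t * φ t)) + (-t) * φ (-t) = 0 := by
    rw [map_mul, map_mul, hφ, map_neg]
    linear_combination (t * φ t) * hω
  have hkr : kk < ii.rev := by
    rw [Fin.lt_def]
    omega
  have hir : ii < ii.rev := by
    rw [Fin.lt_def]
    omega
  refine ⟨mk1 (xO φ ii kk (ne_of_lt h1) hmk hk (-t) (ω * (t * φ t)))
    (xO_mem_UH φ hφ ii kk (ne_of_lt h1) hmk hk h3 (-t) _ hb) (det_xO φ ii kk _ _ _ _ _),
    ?_, ?_, ?_, ?_⟩
  · exact hO ii kk h1 h3 (-t) _ hb hmk hk _ (gl_mk1 _ _ _)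
  · rw [mem_UU, gl_mk1]
    unfold xO
    rw [Units.val_mul, Units.val_mul]
    exact ((tv_isUpU hkr _).mul (tv_isUpU h1 _)).mul (tv_isUpU hir _)
  · intro r hr b
    have e1 : ¬ (ii = r ∧ ii.rev = b) := by
      rintro ⟨e, -⟩
      have := congrArg Fin.val e
      omega
    have e2 : ¬ (ii = r ∧ kk = b) := by
      rintro ⟨e, -⟩
      have := congrArg Fin.val e
      omega
    have e3 : ¬ (kk = r ∧ ii.rev = b) := by
      rintro ⟨e, -⟩
      have := congrArg Fin.val e
      omega
    rw [gl_mk1, xO_apply, if_neg e1, if_neg e2, if_neg e3, add_zero, add_zero, add_zero]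
  · intro b hb' hbk
    have hb'' : ii.val < b.val := hb'
    have e3 : ¬ b = ii.rev := fin_ne (by omega)
    rw [gl_mul, Units.val_mul, gl_mk1, mul_xO_apply, if_neg e3, add_zero]
    by_cases hbk' : b = kk
    · rw [hbk', if_pos rfl, (mem_UU.1 hg).2 ii]
      rw [← hM, ← ht]
      ring
    · rw [if_neg hbk', add_zero]
      apply hz b hb'
      have : b.val ≠ kk.val := fun e => hbk' (Fin.ext e)
      omega

/-- clearing the corner entry with a long root element -/
theorem ex_L (H : Subgroup (SUm N F φ))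
    (hL : ∀ (a : Fin N) (ha : a < a.rev) (c : F) (_ : c + φ c = 0) (g : SUm N F φ),
      gl g = xL a (ne_of_lt ha) c → g ∈ H)
    (ii : Fin N) (h1 : ii < ii.rev) (g : SUm N F φ) (hg : g ∈ UU N F φ)
    (ht : Triv ii.val ((gl g : GL (Fin N) F) : Matrix (Fin N) (Fin N) F))
    (hz : ∀ b : Fin N, ii < b → b.val < (ii.rev : ℕ) →
      ((gl g : GL (Fin N) F) : Matrix (Fin N) (Fin N) F) ii b = 0) :
    ∃ X : SUm N F φ, X ∈ H ∧ X ∈ UU N F φ ∧
      Triv ii.val ((gl X : GL (Fin N) F) : Matrix (Fin N) (Fin N) F) ∧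
      ∀ b : Fin N, ii < b → b.val < (ii.rev : ℕ) + 1 →
        ((gl (g * X) : GL (Fin N) F) : Matrix (Fin N) (Fin N) F) ii b = 0 := by
  classical
  set M := ((gl g : GL (Fin N) F) : Matrix (Fin N) (Fin N) F) with hM
  set t := M ii ii.rev with htd
  have hv1 : (ii.rev : ℕ) = N - (ii.val + 1) := Fin.val_rev ii
  have h1' : ii.val < (ii.rev : ℕ) := h1
  have hne : ii ≠ ii.rev := ne_of_lt h1
  -- the support of the row
  have hrow : ∀ j : Fin N, j ≠ ii → j ≠ ii.rev → M ii j = 0 := by
    intro j hj1 hj2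
    have hj1' : j.val ≠ ii.val := fun e => hj1 (Fin.ext e)
    have hj2' : j.val ≠ (ii.rev : ℕ) := fun e => hj2 (Fin.ext e)
    rcases Nat.lt_or_ge j.val ii.val with h | h
    · exact (mem_UU.1 hg).1 ii j h
    · rcases Nat.lt_or_ge j.val (ii.rev : ℕ) with h' | h'
      · exact hz j (by rw [Fin.lt_def]; omega) h'
      · have hjr : (j.rev : ℕ) = N - (j.val + 1) := Fin.val_rev j
        have := col_triv (gl_mem_UH g) ht j.rev (by omega) ii
        rw [Fin.rev_rev] at this
        rw [hM, this, if_neg (Ne.symm hj1)]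
  have hsum := row_unitary (gl_mem_UH g) ii ii.rev
  rw [Fin.rev_rev, if_neg hne, Finset.sum_eq_add ii ii.rev hne] at hsum
  · rw [(mem_UU.1 hg).2 ii, Fin.rev_rev, (mem_UU.1 hg).2 ii, map_one, mul_one, one_mul] at hsum
    have hc : -t + φ (-t) = 0 := by
      rw [map_neg]
      linear_combination (-1 : F) * hsum
    have hg1 := (mem_UU.1 hg).2 ii
    refine ⟨mk1 (xL ii hne (-t)) (xL_mem_UH ii hne (-t) hc) (det_xL ii hne _), ?_, ?_, ?_, ?_⟩
    · exact hL ii h1 (-t) hc _ (gl_mk1 _ _ _)
    · rw [mem_UU, gl_mk1]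
      exact tv_isUpU h1 _
    · intro r hr b
      have e1 : ¬ (ii = r ∧ ii.rev = b) := by
        rintro ⟨e, -⟩
        have := congrArg Fin.val e
        omega
      rw [gl_mk1]
      unfold xL
      rw [tv_apply, if_neg e1, add_zero]
    · intro b hb hbk
      rw [gl_mul, Units.val_mul, gl_mk1]
      unfold xL
      rw [mul_tv_apply]
      by_cases hbk' : b = ii.rev
      · rw [hbk', if_pos rfl, hg1]
        rw [← hM, ← htd]
        ring
      · rw [if_neg hbk', add_zero]
        apply hz b hb
        have : b.val ≠ (ii.rev : ℕ) := fun e => hbk' (Fin.ext e)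
        omega
  · intro c _ hc
    have := hrow c hc.1 hc.2
    rw [hM] at this
    rw [this, zero_mul]
  · intro h0
    exact absurd (Finset.mem_univ _) h0
  · intro h0
    exact absurd (Finset.mem_univ _) h0

/-- **Row clearing.** A subgroup containing all the positive root elements contains the upper
unitriangular elements. -/
theorem UU_le_of_pos (hφ : ∀ x, φ (φ x) = x) (hω : ∃ ω : F, ω + φ ω = -1)
    (H : Subgroup (SUm N F φ))
    (hS : ∀ (a b : Fin N) (hab : a < b) (_ : b < a.rev) (_ : b ≠ b.rev) (c : F)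
      (g : SUm N F φ), gl g = xS φ a b (ne_of_lt hab) c → g ∈ H)
    (hL : ∀ (a : Fin N) (ha : a < a.rev) (c : F) (_ : c + φ c = 0) (g : SUm N F φ),
      gl g = xL a (ne_of_lt ha) c → g ∈ H)
    (hO : ∀ (k m : Fin N) (hkm : k < m) (hm : m.rev = m) (a b : F)
      (_ : b + φ b + a * φ a = 0) (hmk : m ≠ k.rev) (hk : k ≠ k.rev)
      (g : SUm N F φ), gl g = xO φ k m (ne_of_lt hkm) hmk hk a b → g ∈ H) :
    UU N F φ ≤ H := by
  classical
  have outer : ∀ d i : ℕ, N ≤ i + d → ∀ g : SUm N F φ, g ∈ UU N F φ →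
      Triv i ((gl g : GL (Fin N) F) : Matrix (Fin N) (Fin N) F) → g ∈ H := by
    intro d
    induction d with
    | zero =>
      intro i hi g hg ht
      have : g = 1 := by
        apply gl_injective
        apply Units.ext
        ext a b
        rw [gl_one, Units.val_one, Matrix.one_apply]
        exact ht a (by have := a.2; omega) b
      rw [this]
      exact H.one_mem
    | succ d ihd =>
      intro i hi g hg ht
      by_cases hiN : N ≤ i
      · exact ihd i (by omega) g hg ht
      have hiN' : i < N := by omega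
      set ii : Fin N := ⟨i, hiN'⟩ with hii
      have hiv : ii.val = i := rfl
      have hvr : (ii.rev : ℕ) = N - (i + 1) := Fin.val_rev ii
      have inner : ∀ e k : ℕ, N ≤ k + e → ∀ g : SUm N F φ, g ∈ UU N F φ →
          Triv i ((gl g : GL (Fin N) F) : Matrix (Fin N) (Fin N) F) →
          (∀ b : Fin N, ii < b → b.val < k →
            ((gl g : GL (Fin N) F) : Matrix (Fin N) (Fin N) F) ii b = 0) → g ∈ H := by
        intro e
        induction e with
        | zero =>
          intro k hk g hg ht hz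
          apply ihd (i + 1) (by omega) g hg
          intro r hr b
          by_cases hri : r.val < i
          · exact ht r hri b
          · have hr' : r = ii := Fin.ext (by rw [hiv]; omega)
            rw [hr']
            by_cases hb : ii = b
            · rw [if_pos hb, ← hb]
              exact (mem_UU.1 hg).2 ii
            · rw [if_neg hb]
              rcases lt_or_gt_of_ne hb with h | h
              · exact hz b h (by have := b.2; omega)
              · exact (mem_UU.1 hg).1 ii b h
        | succ e ihe =>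
          intro k hk g hg ht hz
          by_cases hkN : N ≤ k
          · exact ihe k (by omega) g hg ht hz
          have hkN' : k < N := by omega
          by_cases hki : k ≤ i
          · apply ihe (k + 1) (by omega) g hg ht
            intro b hb hbk
            have hb' : ii.val < b.val := hb
            omega
          have hik : i < k := by omega
          set kk : Fin N := ⟨k, hkN'⟩ with hkk
          have hkv : kk.val = k := rfl
          have hkr : (kk.rev : ℕ) = N - (k + 1) := Fin.val_rev kk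
          have h1 : ii < kk := by rw [Fin.lt_def]; omega
          -- the four cases
          rcases Nat.lt_trichotomy k (N - (i + 1)) with hlt | heq | hgt
          · -- `k < ii.rev`
            have h2 : kk < ii.rev := by rw [Fin.lt_def]; omega
            by_cases h3 : kk.rev = kk
            · obtain ⟨X, hXH, hXU, hXT, hX⟩ := ex_O hφ hω H hO ii kk h1 h3 g hg hz
              exact clear_common H i k ii g (fun g' hg' ht' hz' => ihe (k + 1) (by omega) g' hg' ht' hz')
                hg ht X hXH hXU hXT hX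
            · obtain ⟨X, hXH, hXU, hXT, hX⟩ := ex_S hφ H hS ii kk h1 h2 (Ne.symm h3) g hg hz
              exact clear_common H i k ii g (fun g' hg' ht' hz' => ihe (k + 1) (by omega) g' hg' ht' hz')
                hg ht X hXH hXU hXT hX
          · -- `k = ii.rev`
            have h2 : ii < ii.rev := by rw [Fin.lt_def]; omega
            have hz' : ∀ b : Fin N, ii < b → b.val < (ii.rev : ℕ) →
                ((gl g : GL (Fin N) F) : Matrix (Fin N) (Fin N) F) ii b = 0 := by
              intro b hb hbk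
              exact hz b hb (by omega)
            obtain ⟨X, hXH, hXU, hXT, hX⟩ := ex_L H hL ii h2 g hg ht hz'
            refine clear_common H i k ii g
              (fun g' hg' ht' hz' => ihe (k + 1) (by omega) g' hg' ht' hz') hg ht X hXH hXU hXT ?_
            intro b hb hbk
            exact hX b hb (by omega)
          · -- `k > ii.rev`: the entry vanishes already
            apply ihe (k + 1) (by omega) g hg ht
            intro b hb hbk
            by_cases hbk' : b.val < k
            · exact hz b hb hbk'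
            · have hbk2 : b = kk := Fin.ext (by rw [hkv]; omega)
              have := col_triv (gl_mem_UH g) ht kk.rev (by omega) ii
              rw [Fin.rev_rev] at this
              rw [hbk2, this, if_neg (ne_of_lt h1)]
      exact inner N 0 (by omega) g hg ht (fun b _ hbk => absurd hbk (by omega))
  intro g hg
  exact outer N 0 (by omega) g hg (fun r hr => absurd hr (by omega))

end main

end Cfsg.Agent.AutPSU
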