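import Cfsg.Agent.Lib.Lead.AutPSU.UBlocks
import Mathlib

/-!
# The rank one subgroup `SL₂(F)` of `SU_N` on two coordinates and their mirrors (lead)
-/

set_option autoImplicit false

namespace Cfsg.Agent.AutPSU

open Matrix Cfsg Cfsg.Agent.Lib.Helper5.GLBN Cfsg.Agent.Lib.Helper8.SpBN
  Cfsg.Agent.Lib.Helper8.Tw Cfsg.Agent.Lib.Helper8.AutSp Cfsg.Agent.PSUT
open scoped MatrixGroups

variable {n : ℕ} {F : Type*} [Field F]

/-! ### elements of `SL₂` in `GL₂` -/

theorem toGL_upT (t : F) :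
    Matrix.SpecialLinearGroup.toGL (upT t) = tv (0 : Fin 2) 1 (by decide) t := by
  apply Units.ext
  rw [tv_coe, Matrix.SpecialLinearGroup.coe_GL_coe_matrix]
  ext i j
  fin_cases i <;> fin_cases j <;> simp [upT, transvection, Matrix.single]

theorem toGL_loT (t : F) :
    Matrix.SpecialLinearGroup.toGL (loT t) = tv (1 : Fin 2) 0 (by decide) t := by
  apply Units.ext
  rw [tv_coe, Matrix.SpecialLinearGroup.coe_GL_coe_matrix]
  ext i j
  fin_cases i <;> fin_cases j <;> simp [loT, transvection, Matrix.single]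

theorem toGL_dgT (a : F) (ha : a ≠ 0) :
    Matrix.SpecialLinearGroup.toGL (dgT a ha) = dgU ![Units.mk0 a ha, (Units.mk0 a ha)⁻¹] := by
  apply Units.ext
  rw [dgU_coe, Matrix.SpecialLinearGroup.coe_GL_coe_matrix]
  ext i j
  fin_cases i <;> fin_cases j <;> simp [dgT]

/-- four distinct coordinates `i₀, i₁, i₁.rev, i₀.rev` -/
structure Quad (i₀ i₁ : Fin n) : Prop where
  ne : i₀ ≠ i₁
  h01 : i₀ ≠ i₁.rev
  h00 : i₀ ≠ i₀.rev
  h11 : i₁ ≠ i₁.rev

namespace Quad

variable {i₀ i₁ : Fin n} (q : Quad i₀ i₁)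

include q in
theorem h10 : i₁ ≠ i₀.rev := by
  intro h
  apply q.h01
  rw [h, Fin.rev_rev]

/-- the coordinates of the block -/
def e (_q : Quad i₀ i₁) : Fin 2 → Fin n := ![i₀, i₁]

theorem e_zero : q.e 0 = i₀ := rfl
theorem e_one : q.e 1 = i₁ := rfl

theorem e_inj : Function.Injective q.e := by
  intro a b h
  fin_cases a <;> fin_cases b <;> simp [e] at h ⊢
  · exact q.ne h
  · exact q.ne h.symm

theorem revE_zero : revE q.e 0 = i₁.rev := rfl
theorem revE_one : revE q.e 1 = i₀.rev := rfl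

theorem e_disj : ∀ a b, q.e a ≠ revE q.e b := by
  intro a b
  fin_cases a <;> fin_cases b
  · exact q.h01
  · exact q.h00
  · exact q.h11
  · exact q.h10

end Quad

section short

variable (φ : F →+* F) (hφ : ∀ x, φ (φ x) = x) {i₀ i₁ : Fin n} (q : Quad i₀ i₁)

/-- the block homomorphism on `SL₂`, into `GL_N` -/
noncomputable def shortGL : Matrix.SpecialLinearGroup (Fin 2) F →* GL (Fin n) F :=
  (pairGL φ q.e q.e_inj q.e_disj).comp Matrix.SpecialLinearGroup.toGL

theorem shortGL_apply (g : Matrix.SpecialLinearGroup (Fin 2) F) :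
    shortGL φ q g = pairGL φ q.e q.e_inj q.e_disj (Matrix.SpecialLinearGroup.toGL g) := rfl

include hφ in
theorem shortGL_mem_UH (g : Matrix.SpecialLinearGroup (Fin 2) F) : shortGL φ q g ∈ UH n F φ :=
  pairGL_mem_UH φ q.e q.e_inj q.e_disj hφ _

theorem det_shortGL (g : Matrix.SpecialLinearGroup (Fin 2) F) :
    ((shortGL φ q g : GL (Fin n) F) : Matrix (Fin n) (Fin n) F).det = 1 := by
  rw [shortGL_apply, det_pairGL, ← map_inv]
  simp

/-- the block homomorphism `SL₂(F) →* SU_N` -/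
noncomputable def shortHom : Matrix.SpecialLinearGroup (Fin 2) F →* ↥(N1 n F φ) :=
  ((shortGL φ q).codRestrict (UH n F φ) (shortGL_mem_UH φ hφ q)).codRestrict (N1 n F φ) (by
    intro g
    rw [mem_N1]
    exact det_shortGL φ q g)

theorem shortHom_coe (g : Matrix.SpecialLinearGroup (Fin 2) F) :
    (((shortHom φ hφ q g : ↥(N1 n F φ)) : ↥(UH n F φ)) : GL (Fin n) F) = shortGL φ q g := rfl

theorem shortGL_upT (t : F) :
    shortGL φ q (upT t) = tv i₀ i₁ q.ne t * tv i₁.rev i₀.rev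
      (fun h => q.ne (Fin.rev_injective h).symm) (-(φ t)) := by
  rw [shortGL_apply, toGL_upT, pairGL_tv]
  rfl

theorem shortGL_loT (t : F) :
    shortGL φ q (loT t) = tv i₁ i₀ q.ne.symm t * tv i₀.rev i₁.rev
      (fun h => q.ne (Fin.rev_injective h)) (-(φ t)) := by
  rw [shortGL_apply, toGL_loT, pairGL_tv]
  rfl

/-- the diagonal entries of the torus element -/
noncomputable def shortD (a : F) (ha : a ≠ 0) : Fin n → Fˣ := fun x =>
  extU q.e ![Units.mk0 a ha, (Units.mk0 a ha)⁻¹] x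
    * extU (revE q.e) (fun i => Units.map (φ : F →* F)
        ((![Units.mk0 a ha, (Units.mk0 a ha)⁻¹] : Fin 2 → Fˣ) i.rev)⁻¹) x

theorem shortGL_dgT (a : F) (ha : a ≠ 0) : shortGL φ q (dgT a ha) = dgU (shortD φ q a ha) := by
  rw [shortGL_apply, toGL_dgT, pairGL_dgU]
  rfl

theorem shortD_i₀ (a : F) (ha : a ≠ 0) : (shortD φ q a ha i₀ : F) = a := by
  unfold shortD
  have h1 := extU_apply q.e_inj ![Units.mk0 a ha, (Units.mk0 a ha)⁻¹] 0
  rw [q.e_zero] at h1
  rw [h1, extU_of_not_mem (a := i₀) _ (fun j => q.e_disj 0 j), mul_one]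
  rfl

theorem shortD_i₁ (a : F) (ha : a ≠ 0) : (shortD φ q a ha i₁ : F) = a⁻¹ := by
  unfold shortD
  have h1 := extU_apply q.e_inj ![Units.mk0 a ha, (Units.mk0 a ha)⁻¹] 1
  rw [q.e_one] at h1
  rw [h1, extU_of_not_mem (a := i₁) _ (fun j => q.e_disj 1 j), mul_one]
  simp

theorem shortD_i₁_rev (a : F) (ha : a ≠ 0) : (shortD φ q a ha i₁.rev : F) = φ a := by
  unfold shortD
  have h1 := extU_apply (revE_injective q.e_inj) (fun i => Units.map (φ : F →* F)
        ((![Units.mk0 a ha, (Units.mk0 a ha)⁻¹] : Fin 2 → Fˣ) i.rev)⁻¹) 0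
  rw [q.revE_zero] at h1
  rw [h1, extU_of_not_mem (a := i₁.rev) _ (fun j => (q.e_disj j 0).symm), one_mul]
  simp

theorem shortD_i₀_rev (a : F) (ha : a ≠ 0) : (shortD φ q a ha i₀.rev : F) = (φ a)⁻¹ := by
  unfold shortD
  have h1 := extU_apply (revE_injective q.e_inj) (fun i => Units.map (φ : F →* F)
        ((![Units.mk0 a ha, (Units.mk0 a ha)⁻¹] : Fin 2 → Fˣ) i.rev)⁻¹) 1
  rw [q.revE_one] at h1
  rw [h1, extU_of_not_mem (a := i₀.rev) _ (fun j => (q.e_disj j 1).symm), one_mul]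
  simp

theorem shortD_other (a : F) (ha : a ≠ 0) (x : Fin n) (h0 : x ≠ i₀) (h1 : x ≠ i₁)
    (h2 : x ≠ i₁.rev) (h3 : x ≠ i₀.rev) : shortD φ q a ha x = 1 := by
  unfold shortD
  rw [extU_of_not_mem, extU_of_not_mem, mul_one]
  · intro j
    fin_cases j
    · exact h2
    · exact h3
  · intro j
    fin_cases j
    · exact h0
    · exact h1

/-- an element of the block that is a scalar matrix is `±1` -/
theorem shortGL_scalar (g : Matrix.SpecialLinearGroup (Fin 2) F) (c : F)
    (h : ((shortGL φ q g : GL (Fin n) F) : Matrix (Fin n) (Fin n) F) = Matrix.diagonal fun _ => c) :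
    g = 1 ∨ g = -1 := by
  have hent : ∀ i j, (g : Matrix (Fin 2) (Fin 2) F) i j = if i = j then c else 0 := by
    intro i j
    have := pairGL_apply_apply φ q.e q.e_inj q.e_disj (Matrix.SpecialLinearGroup.toGL g) i j
    rw [← shortGL_apply, h, Matrix.diagonal_apply] at this
    rw [Matrix.SpecialLinearGroup.coe_GL_coe_matrix] at this
    rw [← this]
    simp only [q.e_inj.eq_iff]
  have hdet := g.2
  rw [Matrix.det_fin_two, hent, hent, hent, hent] at hdet
  simp at hdet
  have hc : c = 1 ∨ c = -1 := by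
    have : (c - 1) * (c + 1) = 0 := by linear_combination hdet
    rcases mul_eq_zero.1 this with h | h
    · left; linear_combination h
    · right; linear_combination h
  rcases hc with rfl | rfl
  · left
    apply Subtype.ext
    ext i j
    rw [hent, Matrix.SpecialLinearGroup.coe_one, Matrix.one_apply]
  · right
    apply Subtype.ext
    ext i j
    rw [hent, Matrix.SpecialLinearGroup.coe_neg, Matrix.SpecialLinearGroup.coe_one,
      Matrix.neg_apply, Matrix.one_apply]
    split_ifs <;> simp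

end short

end Cfsg.Agent.AutPSU
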